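/-
Pushing up with a centrally large core, part 1: members of largest measure relative to a subgroup.
-/
import Cfsg.Agent.Lib.CharP.Product
import Mathlib.GroupTheory.Commutator.Basic
import Cfsg.Agent.Lib.CentrallyLarge.Basic

set_option autoImplicit false

namespace Cfsg.Agent.PushUp3

open Subgroup
open scoped commutatorElement Pointwise

variable {G : Type*} [Group G]

/-- The centraliser of `R` in `W`. -/
def cw (W R : Subgroup G) : Subgroup G := W ⊓ centralizer (R : Set G)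

theorem cw_le (W R : Subgroup G) : cw W R ≤ W := inf_le_left

theorem cw_anti {W R R' : Subgroup G} (h : R ≤ R') : cw W R' ≤ cw W R :=
  inf_le_inf_left W (centralizer_le h)

theorem le_cw_iff {W R T : Subgroup G} : T ≤ cw W R ↔ T ≤ W ∧ T ≤ centralizer (R : Set G) :=
  le_inf_iff

theorem cw_sup (W R R' : Subgroup G) : cw W (R ⊔ R') = cw W R ⊓ cw W R' := by
  rw [cw, cw, cw, Product.centralizer_sup, ← inf_inf_distrib_left]

theorem le_cw_cw {W R : Subgroup G} (h : R ≤ W) : R ≤ cw W (cw W R) :=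
  le_inf h (le_centralizer_iff.1 inf_le_right)

theorem cw_sup_le (W R R' : Subgroup G) : cw W R ⊔ cw W R' ≤ cw W (R ⊓ R') :=
  sup_le (cw_anti inf_le_left) (cw_anti inf_le_right)

theorem mem_cw {W R : Subgroup G} {x : G} :
    x ∈ cw W R ↔ x ∈ W ∧ ∀ r ∈ R, r * x = x * r := by
  rw [cw, mem_inf, mem_centralizer_iff]; rfl

theorem mem_cw_comm {W R : Subgroup G} {x r : G} (hx : x ∈ cw W R) (hr : r ∈ R) : r * x = x * r :=
  (mem_cw.1 hx).2 r hr

theorem cw_map_conj {W R : Subgroup G} {x : G}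
    (hW : W.map (MulAut.conj x).toMonoidHom = W) :
    cw W (R.map (MulAut.conj x).toMonoidHom) = (cw W R).map (MulAut.conj x).toMonoidHom := by
  rw [cw, cw, Product.centralizer_map_conj, Subgroup.map_inf _ _ _ (MulAut.conj x).injective, hW]

/-- `R` has the largest measure `f` in `W`. -/
structure Mem (W : Subgroup G) (f : ℕ) (R : Subgroup G) : Prop where
  le : R ≤ W
  eq : Nat.card ↥R * Nat.card ↥(cw W R) = f

variable [Finite G] {W : Subgroup G} {f : ℕ}

theorem Mem.pos {R : Subgroup G} (h : Mem W f R) : 0 < f :=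
  h.eq ▸ Nat.mul_pos Nat.card_pos Nat.card_pos

omit [Finite G] in
theorem Mem.of_ge (hb : ∀ R ≤ W, Nat.card ↥R * Nat.card ↥(cw W R) ≤ f) {R : Subgroup G}
    (hR : R ≤ W) (h : f ≤ Nat.card ↥R * Nat.card ↥(cw W R)) : Mem W f R :=
  ⟨hR, le_antisymm (hb R hR) h⟩

theorem Mem.cw (hb : ∀ R ≤ W, Nat.card ↥R * Nat.card ↥(cw W R) ≤ f) {R : Subgroup G}
    (h : Mem W f R) : Mem W f (cw W R) :=
  Mem.of_ge hb (cw_le W R) (by
    rw [← h.eq, mul_comm]
    exact Nat.mul_le_mul_left _ (card_le_of_le (le_cw_cw h.le)))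

theorem Mem.cw_cw (hb : ∀ R ≤ W, Nat.card ↥R * Nat.card ↥(PushUp3.cw W R) ≤ f) {R : Subgroup G}
    (h : Mem W f R) : PushUp3.cw W (PushUp3.cw W R) = R := by
  refine (eq_of_le_of_card_ge (le_cw_cw h.le) ?_).symm
  have h1 := (h.cw hb).eq
  rw [← h.eq, mul_comm (Nat.card ↥R)] at h1
  exact (Nat.eq_of_mul_eq_mul_left Nat.card_pos h1).le

/-- Consequences of the lattice property. -/
theorem Mem.lattice (hb : ∀ R ≤ W, Nat.card ↥R * Nat.card ↥(PushUp3.cw W R) ≤ f) {R R' : Subgroup G}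
    (h : Mem W f R) (h' : Mem W f R') :
    Mem W f (R ⊔ R') ∧ Mem W f (R ⊓ R') ∧
      Nat.card ↥(R ⊔ R') * Nat.card ↥(R ⊓ R') = Nat.card ↥R * Nat.card ↥R' ∧
      PushUp3.cw W (R ⊓ R') = PushUp3.cw W R ⊔ PushUp3.cw W R' := by
  set C := PushUp3.cw W R with hC
  set C' := PushUp3.cw W R' with hC'
  have hs := hb (R ⊔ R') (sup_le h.le h'.le)
  have hi := hb (R ⊓ R') (inf_le_left.trans h.le)
  rw [cw_sup, ← hC, ← hC'] at hs
  set I := PushUp3.cw W (R ⊓ R') with hI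
  have hA := Product.card_mul_card_le R R'
  have hB := Product.card_mul_card_le C C'
  have hC3 : Nat.card ↥(C ⊔ C') ≤ Nat.card ↥I := card_le_of_le (cw_sup_le W R R')
  set a := Nat.card ↥(R ⊔ R')
  set b := Nat.card ↥(R ⊓ R')
  set c := Nat.card ↥(C ⊔ C')
  set d := Nat.card ↥(C ⊓ C')
  have hf : f * f = (Nat.card ↥R * Nat.card ↥R') * (Nat.card ↥C * Nat.card ↥C') := by
    calc f * f = (Nat.card ↥R * Nat.card ↥C) * (Nat.card ↥R' * Nat.card ↥C') := by
          rw [hC, hC', h.eq, h'.eq]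
      _ = _ := by ring
  have k1 : f * f ≤ (a * b) * (c * d) := hf ▸ Nat.mul_le_mul hA hB
  have k2 : (a * b) * (c * d) ≤ (a * d) * (b * Nat.card ↥I) := by
    calc (a * b) * (c * d) = (a * d) * (b * c) := by ring
      _ ≤ _ := Nat.mul_le_mul_left _ (Nat.mul_le_mul_left _ hC3)
  have hfpos := h.pos
  have e1 : a * d = f := le_antisymm hs
    (Nat.le_of_mul_le_mul_right ((k1.trans k2).trans (Nat.mul_le_mul_left _ hi)) hfpos)
  have e2 : b * Nat.card ↥I = f := by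
    refine le_antisymm hi (Nat.le_of_mul_le_mul_left ?_ hfpos)
    exact (k1.trans k2).trans_eq (by rw [e1])
  have e3 : (a * b) * (c * d) = f * f := le_antisymm (k2.trans_eq (by rw [e1, e2])) k1
  refine ⟨⟨sup_le h.le h'.le, by rw [cw_sup]; exact e1⟩, ⟨inf_le_left.trans h.le, e2⟩, ?_, ?_⟩
  · refine le_antisymm ?_ hA
    refine Nat.le_of_mul_le_mul_right ?_ (Nat.mul_pos (Nat.card_pos (α := ↥C)) (Nat.card_pos (α := ↥C')))
    rw [← hf, ← e3]
    exact Nat.mul_le_mul_left _ hB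
  · refine (eq_of_le_of_card_ge (cw_sup_le W R R') ?_).symm
    have e4 : b * Nat.card ↥I * (a * d) = b * c * (a * d) := by
      rw [e2, e1, ← e3, ← e1]; ring
    exact (Nat.eq_of_mul_eq_mul_left (Nat.card_pos (α := ↥(R ⊓ R'))) (Nat.eq_of_mul_eq_mul_right
      (Nat.mul_pos Nat.card_pos Nat.card_pos) e4)).le

theorem Mem.sup (hb : ∀ R ≤ W, Nat.card ↥R * Nat.card ↥(PushUp3.cw W R) ≤ f) {R R' : Subgroup G}
    (h : Mem W f R) (h' : Mem W f R') : Mem W f (R ⊔ R') :=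
  (h.lattice hb h').1

theorem Mem.inf (hb : ∀ R ≤ W, Nat.card ↥R * Nat.card ↥(PushUp3.cw W R) ≤ f) {R R' : Subgroup G}
    (h : Mem W f R) (h' : Mem W f R') : Mem W f (R ⊓ R') :=
  (h.lattice hb h').2.1

theorem Mem.mem_sup (hb : ∀ R ≤ W, Nat.card ↥R * Nat.card ↥(PushUp3.cw W R) ≤ f) {R R' : Subgroup G}
    (h : Mem W f R) (h' : Mem W f R') {x : G} (hx : x ∈ R ⊔ R') :
    ∃ a ∈ R, ∃ b ∈ R', a * b = x := by
  have e := Product.coe_sup_eq_mul R R' (h.lattice hb h').2.2.1.le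
  have : x ∈ (R : Set G) * (R' : Set G) := e ▸ hx
  obtain ⟨a, ha, b, hb, e'⟩ := this
  exact ⟨a, ha, b, hb, e'⟩

theorem mem_sSup (hb : ∀ R ≤ W, Nat.card ↥R * Nat.card ↥(PushUp3.cw W R) ≤ f)
    {T : Set (Subgroup G)} (hne : T.Nonempty) (hT : ∀ R ∈ T, Mem W f R) : Mem W f (sSup T) := by
  obtain ⟨R0, hR0⟩ := hne
  obtain ⟨M, -, hM⟩ := Finite.exists_le_maximal
    (p := fun X : Subgroup G => Mem W f X ∧ X ≤ sSup T) ⟨hT R0 hR0, le_sSup hR0⟩
  have : M = sSup T := le_antisymm hM.1.2 (sSup_le fun R hR =>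
    le_sup_right.trans (hM.2 ⟨hM.1.1.sup hb (hT R hR), sup_le hM.1.2 (le_sSup hR)⟩ le_sup_left))
  exact this ▸ hM.1.1

omit [Finite G] in
theorem Mem.map_conj {R : Subgroup G} (h : Mem W f R) {x : G}
    (hW : W.map (MulAut.conj x).toMonoidHom = W) : Mem W f (R.map (MulAut.conj x).toMonoidHom) :=
  ⟨hW ▸ map_mono h.le, by rw [cw_map_conj hW, Product.card_map_conj, Product.card_map_conj, h.eq]⟩

/-- An abelian subgroup with `|R|² = f` is self-centralising in `W`. -/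
theorem mem_of_abelian (hb : ∀ R ≤ W, Nat.card ↥R * Nat.card ↥(PushUp3.cw W R) ≤ f) {R : Subgroup G}
    (hR : R ≤ W) (hc : R ≤ centralizer (R : Set G)) (hf : Nat.card ↥R * Nat.card ↥R = f) :
    Mem W f R ∧ PushUp3.cw W R = R := by
  have hle : R ≤ PushUp3.cw W R := le_inf hR hc
  have hm : Mem W f R := Mem.of_ge hb hR (by
    rw [← hf]; exact Nat.mul_le_mul_left _ (card_le_of_le hle))
  refine ⟨hm, (eq_of_le_of_card_ge hle ?_).symm⟩
  exact (Nat.eq_of_mul_eq_mul_left Nat.card_pos (hm.eq.trans hf.symm)).le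

end Cfsg.Agent.PushUp3
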