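/-
Pushing up with a centrally large core, part 2: the subgroup generated by the elements of order prime to `p`.
-/
import Cfsg.Agent.Lib.PushUp2.Path

set_option autoImplicit false

namespace Cfsg.Agent.PushUp3

open Subgroup
open scoped commutatorElement

variable {G : Type*} [Group G] {p : ℕ}

/-- `z` has order prime to `p`. -/
def PE (p : ℕ) (z : G) : Prop := ∃ k, ¬ p ∣ k ∧ z ^ k = 1

theorem PE.map {H : Type*} [Group H] {z : G} (h : PE p z) (f : G →* H) : PE p (f z) := by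
  obtain ⟨k, hk, e⟩ := h
  exact ⟨k, hk, by rw [← map_pow, e, map_one]⟩

theorem PE.conj {z : G} (h : PE p z) (x : G) : PE p (x * z * x⁻¹) := h.map (MulAut.conj x).toMonoidHom

/-- Generated by the elements of `X` of order prime to `p`. -/
def pL (p : ℕ) (X : Subgroup G) : Subgroup G := closure {z | z ∈ X ∧ PE p z}

theorem pL_le (X : Subgroup G) : pL p X ≤ X := (closure_le _).2 fun _ h => h.1

theorem mem_pL {X : Subgroup G} {z : G} (hz : z ∈ X) (h : PE p z) : z ∈ pL p X :=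
  subset_closure ⟨hz, h⟩

theorem pL_mono {X Y : Subgroup G} (h : X ≤ Y) : pL p X ≤ pL p Y :=
  closure_mono fun _ hz => ⟨h hz.1, hz.2⟩

theorem pL_conj_mem {X : Subgroup G} {x : G} (hx : ∀ z ∈ X, x * z * x⁻¹ ∈ X) {z : G} (hz : z ∈ pL p X) :
    x * z * x⁻¹ ∈ pL p X := by
  have : pL p X ≤ (pL p X).comap (MulAut.conj x).toMonoidHom :=
    (closure_le _).2 fun w hw => mem_pL (hx w hw.1) (hw.2.conj x)
  exact this hz

theorem pL_conj_mem_self {X : Subgroup G} {x z : G} (hx : x ∈ X) (hz : z ∈ pL p X) :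
    x * z * x⁻¹ ∈ pL p X :=
  pL_conj_mem (fun _ hw => X.mul_mem (X.mul_mem hx hw) (X.inv_mem hx)) hz

theorem pL_normal : (pL p (⊤ : Subgroup G)).Normal :=
  ⟨fun _ hz x => pL_conj_mem_self (mem_top x) hz⟩

variable [Finite G] [hp : Fact p.Prime]

/-- The `p'`-part of every element lies there. -/
theorem pow_mem_pL (x : G) {X : Subgroup G} (hx : x ∈ X) : ∃ n, x ^ p ^ n ∈ pL p X := by
  obtain ⟨n, m, hm, e⟩ := Nat.exists_eq_pow_mul_and_not_dvd (orderOf_pos x).ne' p hp.out.ne_one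
  exact ⟨n, mem_pL (X.pow_mem hx _) ⟨m, hm, by rw [← pow_mul, ← e, pow_orderOf_eq_one]⟩⟩

/-- A subgroup of index prime to `p` containing it is everything. -/
theorem eq_top_of_pL {H : Subgroup G} (hH : pL p (⊤ : Subgroup G) ≤ H) (hidx : ¬ p ∣ H.index) :
    H = ⊤ := by
  have := pL_normal (G := G) (p := p)
  set N := pL p (⊤ : Subgroup G)
  have hpg : IsPGroup p (G ⧸ N) := by
    intro y
    induction y using QuotientGroup.induction_on with
    | _ x =>
      obtain ⟨n, hn⟩ := pow_mem_pL (p := p) x (mem_top x)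
      exact ⟨n, by rw [← QuotientGroup.mk_pow, QuotientGroup.eq_one_iff]; exact hn⟩
  obtain ⟨k, hk⟩ := IsPGroup.iff_card.1 hpg
  have hd : H.index ∣ p ^ k := by
    rw [← hk, ← Subgroup.index_eq_card]
    exact index_dvd_of_le hH
  obtain ⟨i, -, hi⟩ := (Nat.dvd_prime_pow hp.out).1 hd
  rcases i with _ | i
  · exact index_eq_one.1 (by simpa using hi)
  · exact absurd (hi ▸ dvd_pow_self p (Nat.succ_ne_zero i)) hidx

/-- An element of order prime to `p` moving a `p`-element by one fixed modulo `N` fixes it modulo `N`. -/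
theorem comm_mem_of_fixed {N : Subgroup G} [N.Normal] {Q : Subgroup G} (hQ : IsPGroup p ↥Q) {z u : G}
    (hz : PE p z) (hmem : ⁅z, u⁆ ∈ Q) (hfix : ⁅z, ⁅z, u⁆⁆ ∈ N) : ⁅z, u⁆ ∈ N := by
  obtain ⟨k, hk, e⟩ := hz
  set f := QuotientGroup.mk' N
  have h1 : f z * ⁅f z, f u⁆ = ⁅f z, f u⁆ * f z := by
    rw [← commutatorElement_eq_one_iff_mul_comm, ← map_commutatorElement, ← map_commutatorElement]
    exact (QuotientGroup.eq_one_iff _).2 hfix
  have h2 := PushUp2.commute_of_fixed (p := p) (Q := Q.map f) (hQ.map f) hk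
    (by rw [← map_pow, e, map_one] : f z ^ k = 1) (t := f u)
    (by rw [← map_commutatorElement]; exact mem_map_of_mem f hmem) h1
  rw [← commutatorElement_eq_one_iff_mul_comm, ← map_commutatorElement] at h2
  exact (QuotientGroup.eq_one_iff _).1 h2

/-- `[X, u, X] ⊆ N` gives `[X, u] ⊆ N` for `X` generated by elements of order prime to `p`. -/
theorem comm_mem_of_fixed_pL {N : Subgroup G} [hN : N.Normal] {Q : Subgroup G} (hQ : IsPGroup p ↥Q)
    {X : Subgroup G} {u : G} (hmem : ∀ z ∈ pL p X, ⁅z, u⁆ ∈ Q)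
    (hfix : ∀ z ∈ pL p X, ⁅z, ⁅z, u⁆⁆ ∈ N) : ∀ z ∈ pL p X, ⁅z, u⁆ ∈ N := by
  let H : Subgroup G :=
    { carrier := {z | ⁅z, u⁆ ∈ N}
      one_mem' := by simp
      mul_mem' := fun {a b} ha hb => by
        show ⁅a * b, u⁆ ∈ N
        rw [show ⁅a * b, u⁆ = a * ⁅b, u⁆ * a⁻¹ * ⁅a, u⁆ by simp [commutatorElement_def, mul_assoc]]
        exact mul_mem (hN.conj_mem _ hb a) ha
      inv_mem' := fun {a} ha => by
        show ⁅a⁻¹, u⁆ ∈ N
        rw [show ⁅a⁻¹, u⁆ = a⁻¹ * ⁅a, u⁆⁻¹ * a⁻¹⁻¹ by simp [commutatorElement_def, mul_assoc]]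
        exact hN.conj_mem _ (inv_mem ha) _ }
  have : pL p X ≤ H := (closure_le _).2 fun z hz =>
    comm_mem_of_fixed hQ hz.2 (hmem z (mem_pL hz.1 hz.2)) (hfix z (mem_pL hz.1 hz.2))
  exact fun z hz => this hz

end Cfsg.Agent.PushUp3
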