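/-
Pushing up with a centrally large core, part 3: the natural module and the abelian subgroups outside the core.
-/
import Cfsg.Agent.Lib.PushUp3.Measure
import Cfsg.Agent.Lib.PushUp3.Residual
import Cfsg.Agent.Lib.PushUp2.Graph

set_option autoImplicit false

namespace Cfsg.Agent.PushUp3

open Subgroup PushUp PushUp2 Matrix
open scoped commutatorElement Pointwise

variable {G : Type*} [Group G] [Finite G] {p : ℕ} [hp : Fact p.Prime] {S : Subgroup G} {g : G}
  {F : Type} [Field F] {φ : G →* Matrix.ProjectiveSpecialLinearGroup (Fin 2) F}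
  {Φ : G →* Matrix.SpecialLinearGroup (Fin 2) F} {ψ : G → Fin 2 → F} {f : ℕ}

local notation "O" => Cfsg.pCore p G

/-- The hypothesis: `S` realises the largest measure together with an abelian subgroup outside the core,
and its elementary abelian centre is not central. -/
structure Pre (p : ℕ) (S : Subgroup G) (g : G) {F : Type} [Field F]
    (φ : G →* Matrix.ProjectiveSpecialLinearGroup (Fin 2) F) (f : ℕ) : Prop where
  frame : Frame p S g φ
  situation : Cfsg.IsPushingUpSituation p S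
  bound : ∀ R ≤ S, Nat.card ↥R * Nat.card ↥(cw S R) ≤ f
  top : Nat.card ↥S * Nat.card ↥(zc S) = f
  exA : ∃ A : Subgroup G, A ≤ S ∧ A ≤ centralizer (A : Set G) ∧ Nat.card ↥A * Nat.card ↥A = f ∧
    ¬ A ≤ Cfsg.pCore p G
  zel : ∀ z ∈ zc S, z ^ p = 1
  nc : ¬ zc S ≤ center G

/-- The hypothesis with the natural module. -/
structure Ctx (p : ℕ) (S : Subgroup G) (g : G) {F : Type} [Field F]
    (φ : G →* Matrix.ProjectiveSpecialLinearGroup (Fin 2) F) (f : ℕ)
    (Φ : G →* Matrix.SpecialLinearGroup (Fin 2) F) (ψ : G → Fin 2 → F) : Prop where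
  pre : Pre p S g φ f
  lifts : Lifts S g φ Φ
  layer : Layer Φ (vm S) (vm S ⊓ center G) ψ
  line : ∀ v ∈ vm S, (v ∈ zc S ↔ ψ v 1 = 0)

theorem Pre.fixGen (h : Pre p S g φ f) : FixGen p S (vm S) (zc S) :=
  fixGen_of (zc S) le_rfl h.nc

theorem Pre.vm_le_core (h : Pre p S g φ f) : vm S ≤ O :=
  (h.fixGen.le_core h.frame.sit).trans inf_le_left

theorem Pre.vm_le (h : Pre p S g φ f) : vm S ≤ S := h.vm_le_core.trans h.frame.sit.core_le

theorem Pre.core_comm (h : Pre p S g φ f) {o v : G} (ho : o ∈ O) (hv : v ∈ vm S) : o * v = v * o :=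
  (mem_centralizer_iff.1 (h.fixGen.core_cent h.frame.sit ho) v hv).symm

theorem Pre.jSub_not_le (h : Pre p S g φ f) : ¬ ZJ.jSub p False S ≤ O := by
  obtain ⟨A, hAS, hAA, hAf, hAO⟩ := h.exA
  refine fun hJ => hAO ((ZJ.le_jSub ?_).trans hJ)
  refine ⟨hAS, ZJ.sml_of_comm (fun x hx y hy => (mem_centralizer_iff.1 (hAA hy) x hx)) False.elim,
    fun B hBS hB => Nat.mul_self_le_mul_self_iff.1 ?_⟩
  rw [hAf]
  refine le_trans (Nat.mul_le_mul_left _ (card_le_of_le ?_)) (h.bound B hBS)
  exact fun b hb => mem_cw.2 ⟨hBS hb, fun c hc => hB.comm hc hb⟩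

theorem Pre.zc_eq (h : Pre p S g φ f) : vm S ⊓ centralizer (S : Set G) = zc S :=
  le_antisymm (fun _ hx => ⟨h.vm_le hx.1, hx.2⟩) (le_inf zc_le_vm inf_le_right)

theorem Pre.exists_ctx (h : Pre p S g φ f) : ∃ Φ ψ, Ctx p S g φ f Φ ψ := by
  obtain ⟨⟨-, -, hcard⟩, hquad⟩ := h.fixGen.tight_top h.situation h.frame.sit h.jSub_not_le
  rw [h.zc_eq, h.frame.card_S] at hcard
  have := vm_normal (S := S)
  obtain ⟨Φ, hΦ, T, ψ, L, -, -, hT, hX⟩ := exists_layer h.frame (vm S) ⊥ (zc S) bot_le zc_le_vm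
    (commutator_le.2 fun u hu v hv => mem_bot.2 (commutatorElement_eq_one_iff_mul_comm.2
      (h.fixGen.comm h.frame.sit hu hv)))
    (commutator_le.2 fun u hu o ho => mem_bot.2 (commutatorElement_eq_one_iff_mul_comm.2
      (h.core_comm ho hu).symm))
    (commutator_le.2 fun z hz s hs => mem_bot.2 (commutatorElement_eq_one_iff_mul_comm.2
      (zc_comm hz hs).symm))
    (commutator_le.2 fun u hu s hs => by
      refine ⟨?_, hquad u hu s hs⟩
      rw [commutatorElement_def]
      exact S.mul_mem (S.mul_mem (S.mul_mem (h.vm_le hu) hs) (S.inv_mem (h.vm_le hu))) (S.inv_mem hs))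
    (by
      refine Nat.le_of_mul_le_mul_left (le_of_eq ?_) (Nat.card_pos (α := ↥(O)))
      rw [← hcard, mul_assoc])
    (fun H hH htop => by
      refine h.nc fun z hz => mem_center_iff.2 fun x => ?_
      have hle : H ⊔ S ≤ centralizer (({z} : Set G)) := sup_le
        (fun k hk => mem_centralizer_singleton_iff.2 ((commutatorElement_eq_one_iff_mul_comm.1
          (mem_bot.1 (hH (commutator_mem_commutator (zc_le_vm hz) hk)))).symm))
        (fun s hs => mem_centralizer_singleton_iff.2 (zc_comm hz hs))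
      exact mem_centralizer_singleton_iff.1 (hle (htop.symm ▸ mem_top x)))
  have hTeq : T = vm S ⊓ center G := le_antisymm
    (le_inf L.le fun t ht => mem_center_iff.2 fun k =>
      (commutatorElement_eq_one_iff_mul_comm.1 (mem_bot.1 (hT (commutator_mem_commutator ht (mem_top k))))).symm)
    (fun t ht => (L.ker t ht.1).1 (h.frame.fixed_eq_zero hΦ fun k => by
      rw [← L.conj k t ht.1, mem_center_iff.1 ht.2 k, mul_inv_cancel_right]))
  exact ⟨Φ, ψ, ⟨h, hΦ, hTeq ▸ L, hX⟩⟩

theorem Ctx.card_zc (h : Ctx p S g φ f Φ ψ) :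
    Nat.card ↥(zc S) = Nat.card F * Nat.card ↥(vm S ⊓ center G) := by
  have := h.pre.frame.finite
  exact h.layer.card_line zc_le_vm h.line

theorem Ctx.card_vm (h : Ctx p S g φ f Φ ψ) :
    Nat.card ↥(vm S) = Nat.card F * Nat.card ↥(zc S) := by
  have := h.pre.frame.finite
  rw [h.layer.card_eq, h.card_zc, mul_assoc]

theorem Ctx.one_lt_q (h : Ctx p S g φ f Φ ψ) : 1 < Nat.card F := by
  have := h.pre.frame.finite
  exact Finite.one_lt_card

theorem Pre.vm_pow (h : Pre p S g φ f) {v : G} (hv : v ∈ vm S) : v ^ p = 1 := by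
  refine closure_induction (fun y hy => ?_) (one_pow p) ?_ ?_ hv
  · obtain ⟨z, hz, hc⟩ := Group.mem_conjugatesOfSet_iff.1 hy
    obtain ⟨x, rfl⟩ := isConj_iff.1 hc
    rw [conj_pow, h.zel z hz]; simp
  · intro a b ha hb e1 e2
    rw [(show Commute a b from h.fixGen.comm h.frame.sit ha hb).mul_pow, e1, e2, one_mul]
  · intro a _ e1; rw [inv_pow, e1, inv_one]

/-- An element outside the core fixes only the line, modulo the central part. -/
theorem Ctx.fix_line (h : Ctx p S g φ f Φ ψ) {x v : G} (hx : x ∈ S) (hxO : x ∉ O) (hv : v ∈ vm S)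
    (hfix : ⁅x, v⁆ ∈ vm S ⊓ center G) : v ∈ zc S :=
  (h.line v hv).2 (h.layer.line_of_fixed h.pre.frame h.lifts hx hxO hv hfix)

theorem Pre.boundO (h : Pre p S g φ f) :
    ∀ R ≤ O, Nat.card ↥R * Nat.card ↥(cw O R) ≤ f := fun R hR =>
  le_trans (Nat.mul_le_mul_left _ (card_le_of_le (inf_le_inf_right _ h.frame.sit.core_le)))
    (h.bound R (hR.trans h.frame.sit.core_le))

/-- A centraliser of `V` in `S` lies in the core. -/
theorem Pre.cw_le_core (h : Pre p S g φ f) {R : Subgroup G} (hR : vm S ≤ R) : cw S R ≤ O :=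
  fun _ hx => h.fixGen.cent_le h.frame.sit ⟨centralizer_le hR hx.2, hx.1⟩

theorem Pre.cw_eq (h : Pre p S g φ f) {R : Subgroup G} (hR : vm S ≤ R) : cw S R = cw O R :=
  le_antisymm (le_inf (h.cw_le_core hR) inf_le_right) (inf_le_inf_right _ h.frame.sit.core_le)

theorem Ctx.mem_vm (h : Ctx p S g φ f Φ ψ) : Mem O f (vm S) ∧ cw O (vm S) = O := by
  have e : cw O (vm S) = O := inf_of_le_left (h.pre.fixGen.core_cent h.pre.frame.sit)
  refine ⟨⟨h.pre.vm_le_core, ?_⟩, e⟩
  rw [e, h.card_vm, ← h.pre.top, h.pre.frame.card_S]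
  ring

theorem Ctx.mem_core (h : Ctx p S g φ f Φ ψ) : Mem O f O ∧ cw O O = vm S := by
  obtain ⟨hm, e⟩ := h.mem_vm
  have h1 := hm.cw h.pre.boundO
  rw [e] at h1
  exact ⟨h1, by conv_lhs => arg 2; rw [← e]
                exact hm.cw_cw h.pre.boundO⟩

/-- An abelian subgroup of largest order outside the core. -/
structure Off (p : ℕ) (f : ℕ) (B : Subgroup G) : Prop where
  pgroup : IsPGroup p ↥B
  comm : B ≤ centralizer (B : Set G)
  card : Nat.card ↥B * Nat.card ↥B = f
  notle : ¬ B ≤ Cfsg.pCore p G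

/-- The abelian subgroup of the core obtained from `B`. -/
def eSub (p : ℕ) (S B : Subgroup G) : Subgroup G := B ⊓ Cfsg.pCore p G ⊔ vm S

/-- `B` and `B'` generate the group modulo the core. -/
def Opp (p : ℕ) (B B' : Subgroup G) : Prop := B ⊔ B' ⊔ Cfsg.pCore p G = ⊤

omit [Finite G] hp in
theorem map_conj_one (H : Subgroup G) : H.map (MulAut.conj (1 : G)).toMonoidHom = H := by
  ext y
  simp

omit [Finite G] hp in
theorem map_normal_conj (N : Subgroup G) [hN : N.Normal] (x : G) :
    N.map (MulAut.conj x).toMonoidHom = N :=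
  mem_normalizer_iff_map_conj_eq.1 (by rw [normalizer_eq_top (H := N)]; exact mem_top x)

omit [Finite G] hp in
theorem eSub_conj (B : Subgroup G) (x : G) :
    eSub p S (B.map (MulAut.conj x).toMonoidHom) =
      (eSub p S B).map (MulAut.conj x).toMonoidHom := by
  have := FittingCores.pCore_normal (G := G) p
  have := vm_normal (S := S)
  rw [eSub, eSub, Subgroup.map_sup, Subgroup.map_inf _ _ _ (MulAut.conj x).injective,
    map_normal_conj (O), map_normal_conj (vm S)]

omit [Finite G] hp in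
theorem Off.map_conj {B : Subgroup G} (hB : Off p f B) (x : G) :
    Off p f (B.map (MulAut.conj x).toMonoidHom) := by
  have := FittingCores.pCore_normal (G := G) p
  refine ⟨hB.pgroup.map _, ?_, by rw [Product.card_map_conj, hB.card], fun hle => hB.notle ?_⟩
  · rw [Product.centralizer_map_conj]; exact map_mono hB.comm
  · intro b hb
    have := hle (mem_map_of_mem (MulAut.conj x).toMonoidHom hb)
    simpa [mul_assoc] using (FittingCores.pCore_normal (G := G) p).conj_mem _ this x⁻¹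

theorem Pre.exists_off (h : Pre p S g φ f) : ∃ A : Subgroup G, A ≤ S ∧ Off p f A := by
  obtain ⟨A, hAS, hAA, hAf, hAO⟩ := h.exA
  exact ⟨A, hAS, h.frame.sit.pgroup.to_le hAS, hAA, hAf, hAO⟩

theorem eSub_le (h : Pre p S g φ f) (B : Subgroup G) : eSub p S B ≤ O := sup_le inf_le_right h.vm_le_core

/-- The facts about `B ≤ S` outside the core. -/
theorem Ctx.off_le (h : Ctx p S g φ f Φ ψ) {B : Subgroup G} (hB : Off p f B) (hBS : B ≤ S) :
    vm S ⊓ centralizer (B : Set G) = zc S ∧ zc S ≤ B ∧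
      eSub p S B ≤ centralizer (eSub p S B : Set G) ∧
      Nat.card ↥(eSub p S B) = Nat.card ↥B ∧ B ⊔ O = S := by
  have := FittingCores.pCore_normal (G := G) p
  obtain ⟨a, haB, haO⟩ := SetLike.not_le_iff_exists.1 hB.notle
  have e1 : vm S ⊓ centralizer (B : Set G) = zc S := by
    refine le_antisymm (fun v hv => ?_)
      (le_inf zc_le_vm (inf_le_right.trans (centralizer_le hBS)))
    refine h.fix_line (hBS haB) haO hv.1 ?_
    rw [commutatorElement_eq_one_iff_mul_comm.2 (mem_centralizer_iff.1 hv.2 a haB)]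
    exact one_mem _
  have e2 : B ⊓ O ⊓ vm S ≤ zc S := e1 ▸ le_inf inf_le_right ((inf_le_left.trans inf_le_left).trans hB.comm)
  set E := eSub p S B with hE
  have hEE : E ≤ centralizer (E : Set G) := CLarge.sup_le_centralizer_sup
    ((inf_le_left.trans hB.comm).trans (centralizer_le inf_le_left))
    (h.pre.fixGen.le_cent h.pre.frame.sit)
    (inf_le_right.trans (h.pre.fixGen.core_cent h.pre.frame.sit))
  have hES : E ≤ S := (eSub_le h.pre B).trans h.pre.frame.sit.core_le
  have hEB : Nat.card ↥E ≤ Nat.card ↥B := by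
    refine Nat.mul_self_le_mul_self_iff.1 ?_
    rw [hB.card]
    exact le_trans (Nat.mul_le_mul_left _ (card_le_of_le (le_inf hES hEE))) (h.pre.bound E hES)
  have hb := h.pre.fixGen.bound h.pre.frame.sit B hBS
  rw [e1] at hb
  have hp1 := Product.card_mul_card_le (B ⊓ O) (vm S)
  have c1 := card_le_of_le e2
  have k : Nat.card ↥B * Nat.card ↥(zc S) ≤ Nat.card ↥E * Nat.card ↥(B ⊓ O ⊓ vm S) := hb.trans hp1
  have k2 : Nat.card ↥E * Nat.card ↥(B ⊓ O ⊓ vm S) ≤ Nat.card ↥B * Nat.card ↥(zc S) := Nat.mul_le_mul hEB c1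
  have eC : Nat.card ↥E = Nat.card ↥B := le_antisymm hEB
    (Nat.le_of_mul_le_mul_right (k.trans (Nat.mul_le_mul_left _ c1)) Nat.card_pos)
  have eI : B ⊓ O ⊓ vm S = zc S := eq_of_le_of_card_ge e2 (by
    rw [eC] at k
    exact Nat.le_of_mul_le_mul_left k Nat.card_pos)
  refine ⟨e1, eI ▸ inf_le_left.trans inf_le_left, hEE, eC, ?_⟩
  have eD : Nat.card ↥(B ⊓ O) * Nat.card ↥(vm S) = Nat.card ↥B * Nat.card ↥(zc S) :=
    le_antisymm (hp1.trans k2) hb
  refine eq_of_le_of_card_ge (sup_le hBS h.pre.frame.sit.core_le) ?_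
  refine Nat.le_of_mul_le_mul_right ?_ (Nat.card_pos (α := ↥(B ⊓ O)))
  rw [PushUp.card_sup_eq (H := B) (K := O) (by rw [normalizer_eq_top (H := O)]; exact le_top),
    h.pre.frame.card_S]
  rw [h.card_vm] at eD
  have : Nat.card ↥(B ⊓ O) * Nat.card F = Nat.card ↥B :=
    Nat.eq_of_mul_eq_mul_right (Nat.card_pos (α := ↥(zc S))) (by rw [mul_assoc, eD])
  rw [← this]
  exact le_of_eq (by ring)

theorem Ctx.off_conj (h : Ctx p S g φ f Φ ψ) {B : Subgroup G} (hB : Off p f B) :
    ∃ (x : G) (B₀ : Subgroup G), B₀ ≤ S ∧ Off p f B₀ ∧ B = B₀.map (MulAut.conj x).toMonoidHom := by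
  obtain ⟨x, hx⟩ := h.pre.frame.exists_conj_le hB.pgroup
  refine ⟨x, B.map (MulAut.conj x⁻¹).toMonoidHom, ?_, hB.map_conj x⁻¹, ?_⟩
  · rintro _ ⟨b, hb, rfl⟩
    simpa using hx b hb
  · rw [Subgroup.map_map]
    ext y
    simp [mul_assoc]

theorem Ctx.mem_eSub (h : Ctx p S g φ f Φ ψ) {B : Subgroup G} (hB : Off p f B) :
    Mem O f (eSub p S B) ∧ cw O (eSub p S B) = eSub p S B := by
  obtain ⟨x, B₀, hB₀S, hB₀, rfl⟩ := h.off_conj hB
  obtain ⟨-, -, hEE, hc, -⟩ := h.off_le hB₀ hB₀S
  refine mem_of_abelian h.pre.boundO (eSub_le h.pre _) ?_ ?_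
  · rw [eSub_conj, Product.centralizer_map_conj]
    exact map_mono hEE
  · rw [eSub_conj, Product.card_map_conj, hc]
    exact hB₀.card

theorem Ctx.centB_le (h : Ctx p S g φ f Φ ψ) {B : Subgroup G} (hB : Off p f B) :
    vm S ⊓ centralizer (B : Set G) ≤ B ∧
      Nat.card ↥(vm S ⊓ centralizer (B : Set G)) = Nat.card ↥(zc S) := by
  obtain ⟨x, B₀, hB₀S, hB₀, rfl⟩ := h.off_conj hB
  obtain ⟨e1, e2, -, -, -⟩ := h.off_le hB₀ hB₀S
  have := vm_normal (S := S)
  have e : vm S ⊓ centralizer ((B₀.map (MulAut.conj x).toMonoidHom : Subgroup G) : Set G) =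
      (zc S).map (MulAut.conj x).toMonoidHom := by
    rw [← e1, Subgroup.map_inf _ _ _ (MulAut.conj x).injective, map_normal_conj (vm S),
      Product.centralizer_map_conj]
  rw [e]
  exact ⟨map_mono e2, Product.card_map_conj _ _⟩

theorem Ctx.off_sup (h : Ctx p S g φ f Φ ψ) {B : Subgroup G} (hB : Off p f B) :
    ∃ x : G, B ⊔ O = S.map (MulAut.conj x).toMonoidHom := by
  obtain ⟨x, B₀, hB₀S, hB₀, rfl⟩ := h.off_conj hB
  have := FittingCores.pCore_normal (G := G) p
  exact ⟨x, by rw [← (h.off_le hB₀ hB₀S).2.2.2.2, Subgroup.map_sup, map_normal_conj (O)]⟩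

omit [Finite G] hp in
theorem Opp.symm {B B' : Subgroup G} (h : Opp p B B') : Opp p B' B := by
  rwa [Opp, sup_comm B' B]

omit [Finite G] hp in
theorem Opp.map_conj {B B' : Subgroup G} (h : Opp p B B') (x : G) :
    Opp p (B.map (MulAut.conj x).toMonoidHom) (B'.map (MulAut.conj x).toMonoidHom) := by
  have := FittingCores.pCore_normal (G := G) p
  rw [Opp, ← map_normal_conj (O) x, ← Subgroup.map_sup, ← Subgroup.map_sup, h,
    Subgroup.map_top_of_surjective _ (MulAut.conj x).surjective]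

theorem Ctx.exists_partner (h : Ctx p S g φ f Φ ψ) {B : Subgroup G} (hB : Off p f B) :
    ∃ B', Off p f B' ∧ Opp p B B' := by
  obtain ⟨x, B₀, hB₀S, hB₀, rfl⟩ := h.off_conj hB
  have := FittingCores.pCore_normal (G := G) p
  refine ⟨(B₀.map (MulAut.conj g).toMonoidHom).map (MulAut.conj x).toMonoidHom,
    (hB₀.map_conj g).map_conj x, Opp.map_conj ?_ x⟩
  have e := (h.off_le hB₀ hB₀S).2.2.2.2
  refine h.pre.frame.gen ?_ ?_
  · rw [← e]; exact sup_le (le_sup_left.trans le_sup_left) le_sup_right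
  · conv_lhs => rw [← e, Subgroup.map_sup, map_normal_conj (O) g]
    exact sup_le (le_sup_right.trans le_sup_left) le_sup_right

/-- Two proper subgroups with a common Sylow subgroup generate a proper subgroup. -/
theorem Ctx.join_conj (h : Ctx p S g φ f Φ ψ) (x : G) {H K : Subgroup G}
    (hH : S.map (MulAut.conj x).toMonoidHom ≤ H) (hK : S.map (MulAut.conj x).toMonoidHom ≤ K)
    (hH1 : H ≠ ⊤) (hK1 : K ≠ ⊤) : H ⊔ K ≠ ⊤ := by
  intro htop
  set e := (MulAut.conj x).toMonoidHom with he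
  have hs : Function.Surjective e := (MulAut.conj x).surjective
  have key : ∀ H : Subgroup G, H ≠ ⊤ → H.comap e ≠ ⊤ := fun H hne ht =>
    hne (by rw [← Subgroup.map_comap_eq_self_of_surjective hs H, ht, Subgroup.map_top_of_surjective _ hs])
  refine h.pre.frame.join (H.comap e) (K.comap e) (map_le_iff_le_comap.1 hH) (map_le_iff_le_comap.1 hK)
    (key H hH1) (key K hK1) (Subgroup.map_injective (f := e) (MulAut.conj x).injective ?_)
  rw [Subgroup.map_sup, Subgroup.map_comap_eq_self_of_surjective hs,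
    Subgroup.map_comap_eq_self_of_surjective hs, htop, Subgroup.map_top_of_surjective _ hs]

/-- Some conjugate of `B` under an opposite partner is opposite to a given non-opposite `B₂`. -/
theorem Ctx.exists_moved (h : Ctx p S g φ f Φ ψ) {B B' B₂ : Subgroup G} (hB : Off p f B) (hB₂ : Off p f B₂)
    (hop : Opp p B B') (hno : ¬ Opp p B B₂) :
    Opp p B' B₂ ∧ ∃ a ∈ B', Opp p (B.map (MulAut.conj a).toMonoidHom) B₂ := by
  have hOn := FittingCores.pCore_normal (G := G) p
  obtain ⟨x, hx⟩ := h.off_sup hB₂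
  have hP : ∀ C : Subgroup G, S.map (MulAut.conj x).toMonoidHom ≤ C ⊔ B₂ ⊔ O := fun C =>
    hx ▸ sup_le (le_sup_right.trans le_sup_left) le_sup_right
  constructor
  · by_contra hne
    refine h.join_conj x (hP B) (hP B') hno hne (eq_top_iff.2 (le_trans hop.ge ?_))
    exact sup_le (sup_le ((le_sup_left.trans le_sup_left).trans le_sup_left)
      ((le_sup_left.trans le_sup_left).trans le_sup_right)) (le_sup_right.trans le_sup_left)
  · by_contra hne
    push Not at hne
    -- the join of all these subgroups is proper, and contains a normal subgroup containing `B`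
    obtain ⟨M, ⟨hM1, hM2⟩, hMmax⟩ := Set.exists_max_image
      {M : Subgroup G | M ≠ ⊤ ∧ S.map (MulAut.conj x).toMonoidHom ≤ M} (fun M => Nat.card ↥M)
      (Set.toFinite _) ⟨_, hno, hP B⟩
    have hall : ∀ H : Subgroup G, H ≠ ⊤ → S.map (MulAut.conj x).toMonoidHom ≤ H → H ≤ M := fun H h1 h2 =>
      le_sup_left.trans (eq_of_le_of_card_ge le_sup_right
        (hMmax _ ⟨h.join_conj x h2 hM2 h1 hM1, hM2.trans le_sup_right⟩)).ge
    set N := ⨆ a : ↥B', B.map (MulAut.conj (a : G)).toMonoidHom with hN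
    have hNM : N ⊔ O ≤ M := by
      refine sup_le (iSup_le fun a => ?_) (le_sup_right.trans (hx.le.trans hM2))
      exact (le_sup_left.trans le_sup_left).trans (hall _ (hne a a.2) (hP _))
    refine hM1 (eq_top_iff.2 (le_trans ?_ hNM))
    have hBN : B ≤ N := le_trans (le_of_eq (map_conj_one B).symm)
      (le_iSup (fun a : ↥B' => B.map (MulAut.conj (a : G)).toMonoidHom) 1)
    -- `N ⊔ O` is normalised by `B`, `B'` and `O`
    have hnorm : (N ⊔ O).Normal := by
      refine normalizer_eq_top_iff.1 (eq_top_iff.2 (hop.ge.trans ?_))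
      refine sup_le (sup_le ?_ ?_) ?_
      · exact (hBN.trans le_sup_left).trans le_normalizer
      · intro b hb
        refine mem_normalizer_of_map_le ?_
        rw [Subgroup.map_sup, map_normal_conj (O) b]
        refine sup_le_sup_right ?_ _
        rw [hN, Subgroup.map_iSup]
        refine iSup_le fun a => le_trans (le_of_eq ?_)
          (le_iSup (fun a : ↥B' => B.map (MulAut.conj (a : G)).toMonoidHom) ⟨b * a, mul_mem hb a.2⟩)
        rw [Subgroup.map_map]
        congr 1
        ext y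
        simp [mul_assoc]
      · exact le_sup_right.trans le_normalizer
    obtain ⟨z, hz⟩ := h.off_sup hB
    have hle : B ⊔ O ≤ N ⊔ O := sup_le_sup_right hBN _
    rw [hz] at hle
    have hall' : ∀ w : G, S.map (MulAut.conj w).toMonoidHom ≤ N ⊔ O := fun w => by
      have h2 := map_mono (f := (MulAut.conj (w * z⁻¹)).toMonoidHom) hle
      rw [map_normal_conj (N ⊔ O), Subgroup.map_map] at h2
      refine le_trans (le_of_eq ?_) h2
      congr 1
      ext s
      simp [mul_assoc]
    exact (h.pre.frame.gen (H := N ⊔ O) ((map_conj_one S).symm.le.trans (hall' 1)) (hall' g)).ge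

end Cfsg.Agent.PushUp3
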