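/-
Pushing up with a centrally large core, part 4: a pair of opposite abelian subgroups.
-/
import Cfsg.Agent.Lib.PushUp3.Base

set_option autoImplicit false

namespace Cfsg.Agent.PushUp3

open Subgroup PushUp PushUp2 Matrix
open scoped commutatorElement Pointwise

variable {G : Type*} [Group G]

/-- The elements whose commutator with a given one lies in `N`. -/
def commSet (N : Subgroup G) [hN : N.Normal] (u : G) : Subgroup G where
  carrier := {x | ⁅x, u⁆ ∈ N}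
  one_mem' := by simp
  mul_mem' := fun {a b} ha hb => by
    show ⁅a * b, u⁆ ∈ N
    rw [show ⁅a * b, u⁆ = a * ⁅b, u⁆ * a⁻¹ * ⁅a, u⁆ by simp [commutatorElement_def, mul_assoc]]
    exact mul_mem (hN.conj_mem _ hb a) ha
  inv_mem' := fun {a} ha => by
    show ⁅a⁻¹, u⁆ ∈ N
    rw [show ⁅a⁻¹, u⁆ = a⁻¹ * ⁅a, u⁆⁻¹ * a⁻¹⁻¹ by simp [commutatorElement_def, mul_assoc]]
    exact hN.conj_mem _ (inv_mem ha) _

theorem mem_commSet {N : Subgroup G} [N.Normal] {u x : G} : x ∈ commSet N u ↔ ⁅x, u⁆ ∈ N := Iff.rfl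

theorem comm_swap {N : Subgroup G} {a b : G} (h : ⁅a, b⁆ ∈ N) : ⁅b, a⁆ ∈ N := by
  rw [← commutatorElement_inv]; exact inv_mem h

theorem mem_normal_of_eq_mul {N : Subgroup G} [hN : N.Normal] {a v : G} (hv : v ∈ N) :
    a⁻¹ * (v * a) ∈ N := by
  simpa [mul_assoc] using hN.conj_mem v hv a⁻¹

/-- An element of order prime to `p` moving a `p`-element into a subgroup it normalises. -/
theorem mem_of_pow_comm {p : ℕ} [Fact p.Prime] {K : Subgroup G} {z q : G} (hz : PE p z)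
    (hK : ∀ y ∈ K, z * y * z⁻¹ ∈ K) {Q : Subgroup G} (hQ : IsPGroup p ↥Q) (hc : ⁅z, q⁆ ∈ Q)
    (hfix : ∀ j : ℕ, ⁅z, ⁅z, q⁆ ^ j⁆ ∈ K) : ⁅z, q⁆ ∈ K := by
  obtain ⟨k, hk, e⟩ := hz
  set c := ⁅z, q⁆ with hc'
  have key : ∀ n, ∃ y ∈ K, ⁅z ^ n, q⁆ = y * c ^ n := fun n => by
    induction n with
    | zero => exact ⟨1, one_mem _, by simp⟩
    | succ n ih =>
      obtain ⟨y, hy, e1⟩ := ih
      refine ⟨z * y * z⁻¹ * ⁅z, c ^ n⁆, mul_mem (hK y hy) (hfix n), ?_⟩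
      rw [pow_succ', show ⁅z * z ^ n, q⁆ = z * ⁅z ^ n, q⁆ * z⁻¹ * ⁅z, q⁆ by
        simp [commutatorElement_def, mul_assoc], e1, ← hc', pow_succ]
      simp [commutatorElement_def, mul_assoc]
  obtain ⟨y, hy, e1⟩ := key k
  rw [e, commutatorElement_one_left] at e1
  have hck : c ^ k ∈ K := by rw [eq_inv_of_mul_eq_one_right e1.symm]; exact inv_mem hy
  obtain ⟨m, hm⟩ := hQ ⟨c, hc⟩
  have hm' : c ^ p ^ m = 1 := congrArg Subtype.val hm
  have hcop : Nat.Coprime k (orderOf c) := Nat.Coprime.of_dvd_right (orderOf_dvd_of_pow_eq_one hm')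
    (Nat.Coprime.pow_right _ ((Fact.out : p.Prime).coprime_iff_not_dvd.2 hk).symm)
  obtain ⟨t, ht⟩ := exists_pow_eq_self_of_coprime hcop
  exact ht ▸ K.pow_mem hck t

/-- The previous lemma, for the subgroup generated by the elements of order prime to `p`. -/
theorem comm_mem_of_pL {p : ℕ} {K X : Subgroup G} {q : G} (hX : ∀ x ∈ X, ∀ y ∈ K, x * y * x⁻¹ ∈ K)
    (hgen : ∀ z ∈ X, PE p z → ⁅z, q⁆ ∈ K) : ∀ z ∈ pL p X, ⁅z, q⁆ ∈ K := by
  let H : Subgroup G :=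
    { carrier := {z | z ∈ X ∧ ⁅z, q⁆ ∈ K}
      one_mem' := ⟨one_mem _, by simp⟩
      mul_mem' := fun {a b} ha hb => ⟨mul_mem ha.1 hb.1, by
        rw [show ⁅a * b, q⁆ = a * ⁅b, q⁆ * a⁻¹ * ⁅a, q⁆ by simp [commutatorElement_def, mul_assoc]]
        exact mul_mem (hX a ha.1 _ hb.2) ha.2⟩
      inv_mem' := fun {a} ha => ⟨inv_mem ha.1, by
        rw [show ⁅a⁻¹, q⁆ = a⁻¹ * ⁅a, q⁆⁻¹ * a⁻¹⁻¹ by simp [commutatorElement_def, mul_assoc]]
        exact hX _ (inv_mem ha.1) _ (inv_mem ha.2)⟩ }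
  have : pL p X ≤ H := (closure_le _).2 fun z hz => ⟨hz.1, hgen z hz.1 hz.2⟩
  exact fun z hz => (this hz).2

/-- The core of the centraliser of the elements of order prime to `p`. -/
def qz (p : ℕ) (G : Type*) [Group G] : Subgroup G :=
  Cfsg.pCore p G ⊓ centralizer (pL p (⊤ : Subgroup G) : Set G)

variable [Finite G] {p : ℕ} [hp : Fact p.Prime] {S : Subgroup G} {g : G}
  {F : Type} [Field F] {φ : G →* Matrix.ProjectiveSpecialLinearGroup (Fin 2) F}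
  {Φ : G →* Matrix.SpecialLinearGroup (Fin 2) F} {ψ : G → Fin 2 → F} {f : ℕ}

local notation "O" => Cfsg.pCore p G
local notation "L" => pL p (⊤ : Subgroup G)

omit [Finite G] hp in
theorem qz_normal : (qz p G).Normal := by
  have := FittingCores.pCore_normal (G := G) p
  have := pL_normal (G := G) (p := p)
  rw [qz]; infer_instance

omit [Finite G] hp in
theorem qz_le : qz p G ≤ O := inf_le_left

omit [Finite G] hp in
theorem qz_comm {q z : G} (hq : q ∈ qz p G) (hz : z ∈ L) : z * q = q * z :=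
  mem_centralizer_iff.1 hq.2 z hz

/-- Everything of order prime to `p` lies in a normal subgroup containing those of a supplement. -/
theorem pL_top_le {X : Subgroup G} (hX : X ⊔ O = ⊤) {N : Subgroup G} [N.Normal]
    (hXN : pL p X ≤ N) : L ≤ N := by
  have := FittingCores.pCore_normal (G := G) p
  refine (closure_le _).2 fun z hz => ?_
  obtain ⟨-, k, hk, e⟩ := hz
  obtain ⟨x, hx, o, ho, rfl⟩ := mem_sup_of_normal_right.1 (hX.symm ▸ mem_top z)
  obtain ⟨n, hn⟩ := pow_mem_pL (p := p) x hx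
  have h1 : (x * o) ^ p ^ n * (x ^ p ^ n)⁻¹ ∈ O := by
    rw [← div_eq_mul_inv, ← QuotientGroup.eq_iff_div_mem]
    simp [(QuotientGroup.eq_one_iff o).2 ho]
  set f := QuotientGroup.mk' N
  obtain ⟨m, hm⟩ := PBasic.pCore_isPGroup p G ⟨_, h1⟩
  have hm' : ((x * o) ^ p ^ n * (x ^ p ^ n)⁻¹) ^ p ^ m = 1 := congrArg Subtype.val hm
  have e1 : f (x * o) ^ p ^ (n + m) = 1 := by
    have := congrArg f hm'
    rwa [map_pow, map_mul, map_inv, show f (x ^ p ^ n) = 1 from (QuotientGroup.eq_one_iff _).2 (hXN hn),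
      inv_one, mul_one, map_one, map_pow, ← pow_mul, ← pow_add] at this
  have e2 : f (x * o) ^ k = 1 := by rw [← map_pow, e, map_one]
  have hcop : Nat.Coprime (p ^ (n + m)) k := ((hp.out.coprime_iff_not_dvd).2 hk).pow_left _
  refine (QuotientGroup.eq_one_iff _).1 (orderOf_eq_one_iff.1 ?_)
  exact Nat.eq_one_of_dvd_coprimes hcop (orderOf_dvd_of_pow_eq_one e1) (orderOf_dvd_of_pow_eq_one e2)

theorem qz_mem_of_comm {u : G} (huO : u ∈ O) (h : ∀ z ∈ L, ⁅z, u⁆ ∈ qz p G) : u ∈ qz p G := by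
  refine ⟨huO, mem_centralizer_iff.2 fun z hz => ?_⟩
  have := comm_mem_of_fixed_pL (N := (⊥ : Subgroup G)) (Q := O) (PBasic.pCore_isPGroup p G)
    (X := (⊤ : Subgroup G)) (u := u) (fun z hz => qz_le (h z hz))
    (fun z hz => mem_bot.2 (commutatorElement_eq_one_iff_mul_comm.2 (qz_comm (h z hz) hz))) z hz
  exact commutatorElement_eq_one_iff_mul_comm.1 (mem_bot.1 this)

theorem Ctx.center_le_qz (h : Ctx p S g φ f Φ ψ) : vm S ⊓ center G ≤ qz p G :=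
  fun c hc => ⟨h.pre.vm_le_core hc.1, mem_centralizer_iff.2 fun z _ => mem_center_iff.1 hc.2 z⟩

/-- `V` is generated by the fixed points of two opposite subgroups. -/
theorem Ctx.vm_split (h : Ctx p S g φ f Φ ψ) {B B' : Subgroup G} (hB : Off p f B) (hB' : Off p f B')
    (hop : Opp p B B') {v : G} (hv : v ∈ vm S) :
    ∃ a ∈ vm S ⊓ centralizer (B : Set G), ∃ b ∈ vm S ⊓ centralizer (B' : Set G), a * b = v := by
  set Z₁ := vm S ⊓ centralizer (B : Set G)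
  set Z₂ := vm S ⊓ centralizer (B' : Set G)
  have hinf : Z₁ ⊓ Z₂ ≤ vm S ⊓ center G := fun w hw => ⟨hw.1.1, by
    have hle : B ⊔ B' ⊔ O ≤ centralizer ({w} : Set G) := sup_le (sup_le
      (fun b hb => mem_centralizer_singleton_iff.2 (mem_centralizer_iff.1 hw.1.2 b hb))
      (fun b hb => mem_centralizer_singleton_iff.2 (mem_centralizer_iff.1 hw.2.2 b hb)))
      (fun o ho => mem_centralizer_singleton_iff.2 (h.pre.core_comm ho hw.1.1))
    exact mem_center_iff.2 fun y => mem_centralizer_singleton_iff.1 (hle (hop.ge (mem_top y)))⟩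
  have s := Product.card_mul_card_le Z₁ Z₂
  rw [(h.centB_le hB).2, (h.centB_le hB').2] at s
  have i := card_le_of_le hinf
  have e : Z₁ ⊔ Z₂ = vm S := by
    refine eq_of_le_of_card_ge (sup_le inf_le_left inf_le_left) ?_
    refine Nat.le_of_mul_le_mul_right ?_ (Nat.card_pos (α := ↥(vm S ⊓ center G)))
    calc Nat.card ↥(vm S) * Nat.card ↥(vm S ⊓ center G)
        = Nat.card ↥(zc S) * Nat.card ↥(zc S) := by rw [h.card_vm, h.card_zc]; ring
      _ ≤ _ := s.trans (Nat.mul_le_mul_left _ i)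
  have hab : Z₁ ≤ normalizer (Z₂ : Set G) := fun u hu => centralizer_le_normalizer _
    (mem_centralizer_iff.2 fun w hw => h.pre.fixGen.comm h.pre.frame.sit hw.1 hu.1)
  rw [← e, ← SetLike.mem_coe, coe_mul_of_left_le_normalizer_right _ _ hab] at hv
  obtain ⟨a, ha, b, hb, e'⟩ := hv
  exact ⟨a, ha, b, hb, e'⟩

/-- An element of `V` fixed modulo the central part by a subgroup outside the core. -/
theorem Ctx.fix_line' (h : Ctx p S g φ f Φ ψ) {B : Subgroup G} (hB : Off p f B) {v : G}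
    (hv : v ∈ vm S) (hfix : ∀ b ∈ B, ⁅b, v⁆ ∈ vm S ⊓ center G) :
    v ∈ vm S ⊓ centralizer (B : Set G) := by
  obtain ⟨x, B₀, hB₀S, hB₀, rfl⟩ := h.off_conj hB
  have hVn := vm_normal (S := S)
  obtain ⟨a, haB, haO⟩ := SetLike.not_le_iff_exists.1 hB₀.notle
  have h1 : x⁻¹ * v * x⁻¹⁻¹ ∈ zc S := by
    refine h.fix_line (hB₀S haB) haO (hVn.conj_mem v hv x⁻¹) ?_
    have e := hfix _ (mem_map_of_mem (MulAut.conj x).toMonoidHom haB)
    have e' := (inferInstance : (vm S ⊓ center G).Normal).conj_mem _ e x⁻¹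
    simp only [MulEquiv.coe_toMonoidHom, MulAut.conj_apply] at e'
    rw [show ⁅a, x⁻¹ * v * x⁻¹⁻¹⁆ = x⁻¹ * ⁅x * a * x⁻¹, v⁆ * x⁻¹⁻¹ by
      simp [commutatorElement_def, mul_assoc]]
    exact e'
  refine ⟨hv, mem_centralizer_iff.2 ?_⟩
  rintro _ ⟨b, hb, rfl⟩
  have e := mem_centralizer_iff.1 h1.2 b (hB₀S hb)
  show x * b * x⁻¹ * v = v * (x * b * x⁻¹)
  calc x * b * x⁻¹ * v = x * (b * (x⁻¹ * v * x⁻¹⁻¹)) * x⁻¹ := by group
    _ = x * (x⁻¹ * v * x⁻¹⁻¹ * b) * x⁻¹ := by rw [e]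
    _ = v * (x * b * x⁻¹) := by group

/-- The natural module is irreducible, for a supplement of the core. -/
theorem Ctx.normal_eq_vm (h : Ctx p S g φ f Φ ψ) {X W : Subgroup G} (hX : X ⊔ O = ⊤)
    (hC : vm S ⊓ center G ≤ W) (hW : W ≤ vm S) (hinv : ∀ x ∈ X, ∀ w ∈ W, x * w * x⁻¹ ∈ W)
    (hne : ¬ W ≤ vm S ⊓ center G) : W = vm S := by
  have hn : W.Normal := by
    refine normalizer_eq_top_iff.1 (eq_top_iff.2 (hX.ge.trans (sup_le (fun x hx => ?_) fun o ho => ?_)))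
    · refine mem_normalizer_of_map_le ?_
      rintro _ ⟨w, hw, rfl⟩
      exact hinv x hx w hw
    · refine centralizer_le_normalizer _ (mem_centralizer_iff.2 fun w hw => ?_)
      exact (h.pre.core_comm ho (hW hw)).symm
  exact (h.layer.irreducible h.pre.frame h.lifts (fun k u hu => hn.conj_mem u hu k) hC hW).resolve_left
    fun e => hne e.le

/-- A pair. -/
structure Pair (p : ℕ) (f : ℕ) (B B' : Subgroup G) : Prop where
  left : Off p f B
  right : Off p f B'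
  opp : Opp p B B'

omit [Finite G] hp in
theorem Pair.symm {B B' : Subgroup G} (P : Pair p f B B') : Pair p f B' B := ⟨P.right, P.left, P.opp.symm⟩

variable {B B' : Subgroup G}

local notation "II" => eSub p S B ⊓ eSub p S B'
local notation "KK" => eSub p S B ⊔ eSub p S B'
local notation "XX" => B ⊔ B'

theorem Ctx.mem_pair (h : Ctx p S g φ f Φ ψ) (P : Pair p f B B') :
    Mem O f KK ∧ Mem O f II ∧ cw O II = KK ∧ cw O KK = II := by
  obtain ⟨m1, e1⟩ := h.mem_eSub P.left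
  obtain ⟨m2, e2⟩ := h.mem_eSub P.right
  obtain ⟨s, i, -, c⟩ := m1.lattice h.pre.boundO m2
  exact ⟨s, i, by rw [c, e1, e2], by rw [cw_sup, e1, e2]⟩

omit [Finite G] hp in
theorem vm_le_eSub : vm S ≤ eSub p S B := le_sup_right

/-- `B` moves the intersection by elements of `V` only. -/
theorem Ctx.comm_inter_left (h : Ctx p S g φ f Φ ψ) (P : Pair p f B B') {b i : G} (hb : b ∈ B)
    (hi : i ∈ II) : ⁅b, i⁆ ∈ vm S := by
  have hVn := vm_normal (S := S)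
  obtain ⟨d, hd, v, hv, rfl⟩ := mem_sup_of_normal_right.1 hi.1
  have e : b * d = d * b := mem_centralizer_iff.1 (P.left.comm hd.1) b hb
  rw [show ⁅b, d * v⁆ = (b * d * b⁻¹ * d⁻¹) * (d * ⁅b, v⁆ * d⁻¹) by
    simp [commutatorElement_def, mul_assoc], e, mul_inv_cancel_right, mul_inv_cancel, one_mul]
  refine hVn.conj_mem _ ?_ d
  rw [commutatorElement_def]
  exact mul_mem (hVn.conj_mem v hv b) (inv_mem hv)

theorem Ctx.comm_inter (h : Ctx p S g φ f Φ ψ) (P : Pair p f B B') {x i : G} (hx : x ∈ XX)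
    (hi : i ∈ II) : ⁅x, i⁆ ∈ vm S := by
  have := vm_normal (S := S)
  have hle : XX ≤ commSet (vm S) i := sup_le (fun b hb => h.comm_inter_left P hb hi)
    fun b hb => h.comm_inter_left P.symm hb ⟨hi.2, hi.1⟩
  exact hle hx

theorem Ctx.conj_inter (h : Ctx p S g φ f Φ ψ) (P : Pair p f B B') {x i : G} (hx : x ∈ XX)
    (hi : i ∈ II) : x * i * x⁻¹ ∈ II := by
  have hv : ⁅x, i⁆ ∈ II := ⟨vm_le_eSub (h.comm_inter P hx hi), vm_le_eSub (h.comm_inter P hx hi)⟩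
  simpa [commutatorElement_def, mul_assoc] using mul_mem hv hi

theorem Ctx.conj_join (h : Ctx p S g φ f Φ ψ) (P : Pair p f B B') {x k : G} (hx : x ∈ XX)
    (hk : k ∈ KK) : x * k * x⁻¹ ∈ KK := by
  have := FittingCores.pCore_normal (G := G) p
  obtain ⟨-, -, e, -⟩ := h.mem_pair P
  rw [← e] at hk ⊢
  refine mem_cw.2 ⟨(inferInstance : (O).Normal).conj_mem k hk.1 x, fun i hi => ?_⟩
  have h2 := mem_cw_comm hk (h.conj_inter P (inv_mem hx) hi)
  calc i * (x * k * x⁻¹) = x * ((x⁻¹ * i * x⁻¹⁻¹) * k) * x⁻¹ := by group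
    _ = x * (k * (x⁻¹ * i * x⁻¹⁻¹)) * x⁻¹ := by rw [h2]
    _ = _ := by group

/-- The intersection is `V` times its fixed points. -/
theorem Ctx.inter_fixed (h : Ctx p S g φ f Φ ψ) (P : Pair p f B B') {i : G} (hi : i ∈ II) :
    ∃ j v, v ∈ vm S ∧ i = j * v ∧ j ∈ II ∧ ∀ x ∈ XX, x * j = j * x := by
  have := vm_normal (S := S)
  obtain ⟨d, hd, u, hu, e1⟩ := mem_sup_of_normal_right.1 hi.1
  obtain ⟨z, hz, z', hz', e2⟩ := h.vm_split P.left P.right P.opp hu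
  -- `d z` lies in both intersections
  have e3 : d * z = i * z'⁻¹ := by rw [← e1, ← e2]; group
  have hdz : d * z ∈ II := e3 ▸ mul_mem hi (inv_mem ⟨vm_le_eSub hz'.1, vm_le_eSub hz'.1⟩)
  obtain ⟨d', hd', u', hu', e4⟩ := mem_sup_of_normal_right.1 hdz.2
  obtain ⟨z₂, hz₂, z₂', hz₂', e5⟩ := h.vm_split P.left P.right P.opp hu'
  have e6 : d' * z₂' = d * z * z₂⁻¹ := by
    rw [← e4, ← e5]
    have c : z₂ * z₂' = z₂' * z₂ := h.pre.fixGen.comm h.pre.frame.sit hz₂.1 hz₂'.1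
    rw [c]; group
  refine ⟨d * z * z₂⁻¹, z₂ * z', mul_mem hz₂.1 hz'.1, ?_, ?_, fun x hx => ?_⟩
  · rw [← e1, ← e2]; group
  · exact mul_mem hdz (inv_mem ⟨vm_le_eSub hz₂.1, vm_le_eSub hz₂.1⟩)
  · have hle : XX ≤ centralizer ({d * z * z₂⁻¹} : Set G) := sup_le (fun b hb => ?_) (fun b hb => ?_)
    · exact mem_centralizer_singleton_iff.1 (hle hx)
    · refine mem_centralizer_singleton_iff.2 (mem_centralizer_iff.1 (P.left.comm ?_) b hb)
      exact mul_mem (mul_mem hd.1 ((h.centB_le P.left).1 hz)) (inv_mem ((h.centB_le P.left).1 hz₂))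
    · refine mem_centralizer_singleton_iff.2 (mem_centralizer_iff.1 (P.right.comm ?_) b hb)
      rw [← e6]
      exact mul_mem hd'.1 ((h.centB_le P.right).1 hz₂')

theorem Pair.top (P : Pair p f B B') : XX ⊔ O = ⊤ := P.opp

/-- `V` is not fixed by the elements of order prime to `p` of a supplement. -/
theorem Ctx.exists_moving (h : Ctx p S g φ f Φ ψ) {X : Subgroup G} (hX : X ⊔ O = ⊤) :
    ∃ z ∈ pL p X, ∃ v ∈ vm S, ⁅z, v⁆ ∉ vm S ⊓ center G := by
  by_contra hne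
  push Not at hne
  have hVn := vm_normal (S := S)
  have hfix : pL p X ≤ centralizer (vm S : Set G) := fun z hz => mem_centralizer_iff.2 fun v hv => by
    have := comm_mem_of_fixed_pL (N := (⊥ : Subgroup G)) (Q := vm S) (h.pre.frame.sit.pgroup.to_le h.pre.vm_le)
      (u := v) (fun y hy => (hne y hy v hv).1)
      (fun y hy => mem_bot.2 (commutatorElement_eq_one_iff_mul_comm.2 (mem_center_iff.1 (hne y hy v hv).2 y)))
      z hz
    exact (commutatorElement_eq_one_iff_mul_comm.1 (mem_bot.1 this)).symm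
  have hL : L ≤ centralizer (vm S : Set G) := pL_top_le hX hfix
  have htop : centralizer (vm S : Set G) ⊔ S = ⊤ := eq_top_of_pL (hL.trans le_sup_left) fun hd =>
    h.pre.frame.sit.not_dvd (hd.trans (index_dvd_of_le le_sup_right))
  refine h.pre.nc fun z hz => mem_center_iff.2 fun y => mem_centralizer_singleton_iff.1 ?_
  have hle : centralizer (vm S : Set G) ⊔ S ≤ centralizer ({z} : Set G) := sup_le
    (fun k hk => mem_centralizer_singleton_iff.2 (mem_centralizer_iff.1 hk z (zc_le_vm hz)).symm)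
    (fun s hs => mem_centralizer_singleton_iff.2 (zc_comm hz hs))
  exact hle (htop.symm ▸ mem_top y)

/-- Commutators of a core subgroup with `V` times fixed elements. -/
theorem Ctx.comm_conj (h : Ctx p S g φ f Φ ψ) (P : Pair p f B B') {x m i : G} (hx : x ∈ XX) (hm : m ∈ O)
    (hi : i ∈ II) (hmi : ⁅m, i⁆ ∈ vm S) : ⁅x * m * x⁻¹, i⁆ = x * ⁅m, i⁆ * x⁻¹ := by
  have hv := h.comm_inter P (inv_mem hx) hi
  have e : x⁻¹ * i * x = ⁅x⁻¹, i⁆ * i := by simp [commutatorElement_def, mul_assoc]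
  have c := h.pre.core_comm hm hv
  calc ⁅x * m * x⁻¹, i⁆ = x * (m * (x⁻¹ * i * x) * m⁻¹ * (x⁻¹ * i * x)⁻¹) * x⁻¹ := by
        simp [commutatorElement_def, mul_assoc]
    _ = x * ((m * ⁅x⁻¹, i⁆) * i * m⁻¹ * i⁻¹ * ⁅x⁻¹, i⁆⁻¹) * x⁻¹ := by rw [e]; group
    _ = x * ((⁅x⁻¹, i⁆ * m) * i * m⁻¹ * i⁻¹ * ⁅x⁻¹, i⁆⁻¹) * x⁻¹ := by rw [c]
    _ = x * (⁅x⁻¹, i⁆ * ⁅m, i⁆ * ⁅x⁻¹, i⁆⁻¹) * x⁻¹ := by simp [commutatorElement_def, mul_assoc]
    _ = x * ⁅m, i⁆ * x⁻¹ := by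
      rw [h.pre.fixGen.comm h.pre.frame.sit hv hmi, mul_inv_cancel_right]

set_option maxHeartbeats 1000000 in
/-- The counting argument. -/
theorem Ctx.no_natural (h : Ctx p S g φ f Φ ψ) (P : Pair p f B B') {P₁ P₀ I₁ : Subgroup G}
    (hP₀ : P₀ ≤ O) (hle : P₁ ≤ P₀) (hP₁ : Mem O f P₁) (hI : cw O P₁ = I₁) (hII : I₁ ≤ II)
    (hX₀ : ∀ x ∈ XX, ∀ y ∈ P₀, x * y * x⁻¹ ∈ P₀) (hX₁ : ∀ x ∈ XX, ∀ y ∈ P₁, x * y * x⁻¹ ∈ P₁)
    (hV : ∀ y ∈ P₀, ∀ i ∈ I₁, ⁅y, i⁆ ∈ vm S) :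
    ∀ y ∈ P₀, ∀ i ∈ I₁, ⁅y, i⁆ ∈ vm S ⊓ center G := by
  have hVn := vm_normal (S := S)
  set C := vm S ⊓ center G with hC
  have hCn : C.Normal := inferInstance
  have hcomm : ∀ y ∈ O, ∀ v ∈ vm S, y * v * y⁻¹ = v := fun y hy v hv => by
    rw [h.pre.core_comm hy hv, mul_inv_cancel_right]
  -- bilinearity
  have hmul : ∀ a ∈ P₀, ∀ b ∈ P₀, ∀ i ∈ I₁, ⁅a * b, i⁆ = ⁅b, i⁆ * ⁅a, i⁆ := fun a ha b hb i hi => by
    rw [show ⁅a * b, i⁆ = a * ⁅b, i⁆ * a⁻¹ * ⁅a, i⁆ by simp [commutatorElement_def, mul_assoc],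
      hcomm a (hP₀ ha) _ (hV b hb i hi)]
  by_contra hne
  push Not at hne
  -- a minimal invariant subgroup with a value outside `C`
  let 𝒴 : Set (Subgroup G) := {Y | P₁ ≤ Y ∧ Y ≤ P₀ ∧ (∀ x ∈ XX, ∀ y ∈ Y, x * y * x⁻¹ ∈ Y) ∧
    ∃ y ∈ Y, ∃ i ∈ I₁, ⁅y, i⁆ ∉ C}
  obtain ⟨Y, ⟨hY₁, hY₀, hYX, y₀, hy₀, i₀, hi₀, hy₀i⟩, hmin⟩ := Set.exists_min_image 𝒴
    (fun Y => Nat.card ↥Y) (Set.toFinite _) ⟨P₀, hle, le_rfl, hX₀, hne⟩
  have hequiv : ∀ x ∈ XX, ∀ y ∈ Y, ∀ i ∈ I₁, ⁅x * y * x⁻¹, i⁆ = x * ⁅y, i⁆ * x⁻¹ := fun x hx y hy i hi =>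
    h.comm_conj P hx (hP₀ (hY₀ hy)) (hII hi) (hV y (hY₀ hy) i hi)
  have hP₁I : ∀ y ∈ P₁, ∀ i ∈ I₁, ⁅y, i⁆ = 1 := fun y hy i hi =>
    commutatorElement_eq_one_iff_mul_comm.2 (mem_cw_comm (hI.symm ▸ hi : i ∈ cw O P₁) hy)
  -- kernels modulo `C`
  have hker : ∀ i ∈ I₁, ∀ y₁ ∈ Y, ⁅y₁, i⁆ ∉ C → ∀ y ∈ Y, ⁅y, i⁆ ∈ C → ∀ j ∈ I₁, ⁅y, j⁆ ∈ C := by
    intro i hi y₁ hy₁ hy₁i y hy hyi j hj
    let Y' : Subgroup G :=
      { carrier := {y | y ∈ Y ∧ ⁅y, i⁆ ∈ C}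
        one_mem' := ⟨one_mem _, by simp⟩
        mul_mem' := fun {a b} ha hb => ⟨mul_mem ha.1 hb.1, by
          rw [hmul a (hY₀ ha.1) b (hY₀ hb.1) i hi]; exact mul_mem hb.2 ha.2⟩
        inv_mem' := fun {a} ha => ⟨inv_mem ha.1, by
          rw [show ⁅a⁻¹, i⁆ = a⁻¹ * ⁅a, i⁆⁻¹ * a⁻¹⁻¹ by simp [commutatorElement_def, mul_assoc]]
          exact hCn.conj_mem _ (inv_mem ha.2) _⟩ }
    by_contra hnj
    have hmem : Y' ∈ 𝒴 := ⟨fun a ha => ⟨hY₁ ha, by rw [hP₁I a ha i hi]; exact one_mem _⟩,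
      fun a ha => hY₀ ha.1, fun x hx a ha => ⟨hYX x hx a ha.1, by
        rw [hequiv x hx a ha.1 i hi]; exact hCn.conj_mem _ ha.2 x⟩, y, ⟨hy, hyi⟩, j, hj, hnj⟩
    exact hy₁i ((eq_of_le_of_card_ge (show Y' ≤ Y from fun a ha => ha.1) (hmin Y' hmem)).ge hy₁).2
  -- the image of the homomorphism at `i₀`
  let hhom : ↥Y →* G ⧸ C := MonoidHom.mk' (fun y => QuotientGroup.mk ⁅(y : G), i₀⁆) fun a b => by
    rw [Subgroup.coe_mul, hmul a (hY₀ a.2) b (hY₀ b.2) i₀ hi₀,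
      h.pre.fixGen.comm h.pre.frame.sit (hV b (hY₀ b.2) i₀ hi₀) (hV a (hY₀ a.2) i₀ hi₀)]
    rfl
  have himg : (hhom.range).comap (QuotientGroup.mk' C) = vm S := by
    refine h.normal_eq_vm P.top (fun c hc => ?_) (fun w hw => ?_) (fun x hx w hw => ?_) (fun hle => ?_)
    · exact ⟨1, by rw [map_one]; exact ((QuotientGroup.eq_one_iff c).2 hc).symm⟩
    · obtain ⟨y, hy⟩ := hw
      have := (QuotientGroup.eq.1 hy : ⁅(y : G), i₀⁆⁻¹ * w ∈ C).1
      simpa only [mul_inv_cancel_left] using mul_mem (hV y (hY₀ y.2) i₀ hi₀) this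
    · obtain ⟨y, hy⟩ := hw
      refine ⟨⟨x * y * x⁻¹, hYX x hx y y.2⟩, ?_⟩
      show QuotientGroup.mk ⁅x * (y : G) * x⁻¹, i₀⁆ = _
      rw [hequiv x hx y y.2 i₀ hi₀]
      show QuotientGroup.mk' C (x * ⁅(y : G), i₀⁆ * x⁻¹) = QuotientGroup.mk' C (x * w * x⁻¹)
      simp only [map_mul]
      congr 2
    · exact hy₀i (hle ⟨⟨y₀, hy₀⟩, rfl⟩)
  have hcardY : Nat.card F * Nat.card F * Nat.card ↥P₁ ≤ Nat.card ↥Y := by
    have c1 : Nat.card ↥hhom.range * Nat.card ↥C = Nat.card ↥(vm S) := by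
      rw [← himg]
      have hcC : Nat.card ↥C = Nat.card ↥((QuotientGroup.mk' C).ker) := by rw [QuotientGroup.ker_mk']
      rw [hcC]
      let r := ((QuotientGroup.mk' C).comp (hhom.range.comap (QuotientGroup.mk' C)).subtype)
      have e1 : r.range = hhom.range := by
        rw [MonoidHom.range_comp, range_subtype, map_comap_eq_self_of_surjective (QuotientGroup.mk'_surjective C)]
      have e2 : r.ker.map (hhom.range.comap (QuotientGroup.mk' C)).subtype = (QuotientGroup.mk' C).ker := by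
        ext y
        constructor
        · rintro ⟨y, hy, rfl⟩; exact hy
        · intro hy
          exact ⟨⟨y, by show _ ∈ hhom.range; rw [MonoidHom.mem_ker.1 hy]; exact one_mem _⟩, hy, rfl⟩
      have c2 := card_mul_index r.ker
      rw [index_ker, e1] at c2
      rw [← e2, card_map_of_injective (Subgroup.subtype_injective _), mul_comm]
      exact c2
    have := h.pre.frame.finite
    rw [h.layer.card_eq] at c1
    rw [← card_mul_index hhom.ker, index_ker, Nat.eq_of_mul_eq_mul_right Nat.card_pos c1, mul_comm]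
    refine Nat.mul_le_mul_right _ ?_
    refine Nat.card_le_card_of_injective (fun a : ↥P₁ => (⟨⟨a, hY₁ a.2⟩, ?_⟩ : ↥hhom.ker))
      fun a b e => Subtype.ext (congrArg (fun t : ↥hhom.ker => ((t : ↥Y) : G)) e)
    show QuotientGroup.mk ⁅(a : G), i₀⁆ = (1 : G ⧸ C)
    rw [hP₁I a a.2 i₀ hi₀]
    rfl
  -- a fixed element
  obtain ⟨z, hz, hzC⟩ : ∃ z ∈ vm S ⊓ centralizer (B : Set G), z ∉ C := by
    refine SetLike.not_le_iff_exists.1 fun hle => ?_
    have h1 := card_le_of_le hle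
    rw [(h.centB_le P.left).2, h.card_zc] at h1
    have := Nat.le_of_mul_le_mul_right (h1.trans (le_of_eq (one_mul _).symm)) Nat.card_pos
    exact absurd h.one_lt_q (not_lt.2 this)
  obtain ⟨y₁, hy₁, hy₁z⟩ : ∃ y₁ ∈ Y, ⁅y₁, i₀⁆⁻¹ * z ∈ C := by
    have : z ∈ (hhom.range).comap (QuotientGroup.mk' C) := himg.symm ▸ hz.1
    obtain ⟨y, hy⟩ := this
    exact ⟨y, y.2, QuotientGroup.eq.1 hy⟩
  have hy₁i : ⁅y₁, i₀⁆ ∉ C := fun hc => hzC (by simpa only [mul_inv_cancel_left] using mul_mem hc hy₁z)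
  have hline : ∀ i ∈ I₁, ⁅y₁, i⁆ ∈ vm S ⊓ centralizer (B : Set G) := by
    intro i hi
    refine h.fix_line' P.left (hV _ (hY₀ hy₁) i hi) fun b hb => ?_
    have hbX : b ∈ XX := mem_sup_left hb
    have hk : b * y₁ * b⁻¹ * y₁⁻¹ ∈ Y := mul_mem (hYX b hbX y₁ hy₁) (inv_mem hy₁)
    have hcalc : ∀ j ∈ I₁, ⁅b * y₁ * b⁻¹ * y₁⁻¹, j⁆ = ⁅y₁, j⁆⁻¹ * (b * ⁅y₁, j⁆ * b⁻¹) := fun j hj => by
      have e1 := hmul _ (hY₀ hk) _ (hY₀ hy₁) j hj
      rw [inv_mul_cancel_right, hequiv b hbX y₁ hy₁ j hj] at e1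
      rw [e1, inv_mul_cancel_left]
    have h0 : ⁅b * y₁ * b⁻¹ * y₁⁻¹, i₀⁆ ∈ C := by
      rw [hcalc i₀ hi₀]
      obtain ⟨c, hc, e⟩ : ∃ c ∈ C, ⁅y₁, i₀⁆ = z * c :=
        ⟨z⁻¹ * ⁅y₁, i₀⁆, by simpa [mul_assoc] using inv_mem hy₁z, by group⟩
      have ec : b * c = c * b := mem_center_iff.1 hc.2 b
      rw [e, show (z * c)⁻¹ * (b * (z * c) * b⁻¹) = c⁻¹ * z⁻¹ * (b * z) * c * b⁻¹ by group,
        mem_centralizer_iff.1 hz.2 b hb,
        show c⁻¹ * z⁻¹ * (z * b) * c * b⁻¹ = c⁻¹ * (b * c) * b⁻¹ by group, ec]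
      simp
    have := hker i₀ hi₀ y₁ hy₁ hy₁i _ hk h0 i hi
    rw [hcalc i hi] at this
    have := hCn.conj_mem _ this ⁅y₁, i⁆
    rw [mul_inv_cancel_left] at this
    rwa [commutatorElement_def b]
  -- the homomorphism on `I₁`
  let lam : ↥I₁ →* G ⧸ C := MonoidHom.mk' (fun i => QuotientGroup.mk ⁅y₁, (i : G)⁆) fun a b => by
    rw [Subgroup.coe_mul, show ⁅y₁, (a : G) * b⁆ = ⁅y₁, (a : G)⁆ * (a * ⁅y₁, (b : G)⁆ * (a : G)⁻¹) by
      simp [commutatorElement_def, mul_assoc], hcomm a (eSub_le h.pre B (hII a.2).1) _ (hV _ (hY₀ hy₁) b b.2)]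
    rfl
  have hlam : Nat.card ↥lam.range ≤ Nat.card F := by
    have hsub : lam.range ≤ (vm S ⊓ centralizer (B : Set G)).map (QuotientGroup.mk' C) := by
      rintro _ ⟨i, rfl⟩
      exact ⟨_, hline i i.2, rfl⟩
    refine (card_le_of_le hsub).trans ?_
    set Z₁ := vm S ⊓ centralizer (B : Set G) with hZ₁
    let r := (QuotientGroup.mk' C).comp Z₁.subtype
    have e1 : r.range = Z₁.map (QuotientGroup.mk' C) := by rw [MonoidHom.range_comp, range_subtype]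
    have e2 : r.ker.map Z₁.subtype = C := by
      ext y
      simp only [r, Subgroup.mem_map, MonoidHom.mem_ker, MonoidHom.comp_apply, Subgroup.coe_subtype,
        QuotientGroup.mk'_apply, QuotientGroup.eq_one_iff]
      refine ⟨fun ⟨w, hw, e⟩ => e ▸ hw, fun hy => ⟨⟨y, hy.1, mem_centralizer_iff.2 fun b _ =>
        mem_center_iff.1 hy.2 b⟩, hy, rfl⟩⟩
    have c2 := card_mul_index r.ker
    rw [index_ker, e1, ← card_map_of_injective (f := Z₁.subtype) Z₁.subtype_injective, e2,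
      (h.centB_le P.left).2, h.card_zc, mul_comm] at c2
    exact (Nat.eq_of_mul_eq_mul_right Nat.card_pos c2).le
  have hkerlam : lam.ker.map I₁.subtype ≤ cw O Y := by
    rintro _ ⟨⟨i, hi⟩, hik, rfl⟩
    have h1 : ⁅y₁, i⁆ ∈ C := (QuotientGroup.eq_one_iff _).1 hik
    have h2 : ∀ y ∈ Y, ⁅y, i⁆ ∈ C := fun y hy => by
      by_contra hyn
      exact hy₁i (hker i hi y hy hyn y₁ hy₁ h1 i₀ hi₀)
    refine mem_cw.2 ⟨eSub_le h.pre B (hII hi).1, ?_⟩
    -- values in `C` vanish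
    obtain ⟨zz, hzz, v, hv, hzv⟩ := h.exists_moving P.top
    have hzX : zz ∈ XX := pL_le _ hzz
    have hvv : v ∈ (hhom.range).comap (QuotientGroup.mk' C) := himg.symm ▸ hv
    obtain ⟨y₂, hy₂⟩ := hvv
    let Y'' : Subgroup G := P₁ ⊔ closure {w | ∃ z ∈ pL p XX, ∃ y ∈ Y, w = z * y * z⁻¹ * y⁻¹}
    have hY'' : Y'' ≤ Y := sup_le hY₁ ((closure_le _).2 (by
      rintro _ ⟨z, hz, y, hy, rfl⟩
      exact mul_mem (hYX z (pL_le _ hz) y hy) (inv_mem hy)))
    have hinv : ∀ x ∈ XX, ∀ w ∈ Y'', x * w * x⁻¹ ∈ Y'' := by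
      intro x hx
      have : Y'' ≤ Y''.comap (MulAut.conj x).toMonoidHom := sup_le
        (fun w hw => mem_sup_left (hX₁ x hx w hw)) ((closure_le _).2 (by
        rintro _ ⟨z, hz, y, hy, rfl⟩
        refine mem_sup_right (subset_closure ⟨x * z * x⁻¹, pL_conj_mem_self hx hz,
          x * y * x⁻¹, hYX x hx y hy, ?_⟩)
        simp [mul_assoc]))
      exact fun w hw => this hw
    have hcalc : ∀ z ∈ XX, ∀ y ∈ Y, ∀ j ∈ I₁,
        ⁅z * y * z⁻¹ * y⁻¹, j⁆ = ⁅y, j⁆⁻¹ * (z * ⁅y, j⁆ * z⁻¹) := fun z hz y hy j hj => by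
      have e1 := hmul _ (hY₀ (mul_mem (hYX z hz y hy) (inv_mem hy))) _ (hY₀ hy) j hj
      rw [inv_mul_cancel_right, hequiv z hz y hy j hj] at e1
      rw [e1, inv_mul_cancel_left]
    have hmem : Y'' ∈ 𝒴 := by
      refine ⟨le_sup_left, hY''.trans hY₀, hinv, zz * y₂ * zz⁻¹ * (y₂ : G)⁻¹,
        mem_sup_right (subset_closure ⟨zz, hzz, y₂, y₂.2, rfl⟩), i₀, hi₀, fun hc => hzv ?_⟩
      rw [hcalc zz hzX y₂ y₂.2 i₀ hi₀] at hc
      have h3 := QuotientGroup.eq_one_iff (N := C) _ |>.2 hc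
      rw [← QuotientGroup.eq_one_iff (N := C)]
      change QuotientGroup.mk' C ⁅zz, v⁆ = 1
      change QuotientGroup.mk' C _ = 1 at h3
      have hy₂' : QuotientGroup.mk' C ⁅(y₂ : G), i₀⁆ = QuotientGroup.mk' C v := hy₂
      have hcv : (QuotientGroup.mk' C (zz * v * zz⁻¹)) * (QuotientGroup.mk' C v)⁻¹ =
          (QuotientGroup.mk' C v)⁻¹ * (QuotientGroup.mk' C (zz * v * zz⁻¹)) := by
        rw [← map_inv, ← map_mul, ← map_mul,
          h.pre.fixGen.comm h.pre.frame.sit (hVn.conj_mem v hv zz) (inv_mem hv)]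
      rw [commutatorElement_def, map_mul, map_inv, hcv]
      rw [map_mul, map_inv, map_mul, map_mul, hy₂'] at h3
      rw [← h3, map_mul, map_mul]
    have heq : Y'' = Y := eq_of_le_of_card_ge hY'' (hmin Y'' hmem)
    intro y hy
    rw [← heq] at hy
    have hgen : Y'' ≤ centralizer ({i} : Set G) := by
      refine sup_le (fun a ha => mem_centralizer_singleton_iff.2
        (commutatorElement_eq_one_iff_mul_comm.1 (hP₁I a ha i hi))) ((closure_le _).2 ?_)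
      rintro _ ⟨z, hz, w, hw, rfl⟩
      refine mem_centralizer_singleton_iff.2 (commutatorElement_eq_one_iff_mul_comm.1 ?_)
      rw [hcalc z (pL_le _ hz) w hw i hi,
        mem_center_iff.1 (h2 w hw).2 z, mul_inv_cancel_right, inv_mul_cancel]
    exact mem_centralizer_singleton_iff.1 (hgen hy)
  -- the count
  have c3 := card_mul_index lam.ker
  rw [index_ker, ← card_map_of_injective (f := I₁.subtype) I₁.subtype_injective] at c3
  have hb := h.pre.boundO Y (hY₀.trans hP₀)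
  have hP₁eq := hP₁.eq
  rw [hI, ← c3] at hP₁eq
  have k1 : Nat.card F * f ≤ Nat.card ↥Y * Nat.card ↥(cw O Y) := by
    calc Nat.card F * f
        = Nat.card F * (Nat.card ↥P₁ * (Nat.card ↥(lam.ker.map I₁.subtype) * Nat.card ↥lam.range)) := by
          rw [hP₁eq]
      _ ≤ Nat.card F * (Nat.card ↥P₁ * (Nat.card ↥(lam.ker.map I₁.subtype) * Nat.card F)) :=
          Nat.mul_le_mul_left _ (Nat.mul_le_mul_left _ (Nat.mul_le_mul_left _ hlam))
      _ = (Nat.card F * Nat.card F * Nat.card ↥P₁) * Nat.card ↥(lam.ker.map I₁.subtype) := by ring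
      _ ≤ _ := Nat.mul_le_mul hcardY (card_le_of_le hkerlam)
  exact absurd h.one_lt_q (not_lt.2 (Nat.le_of_mul_le_mul_right
    ((k1.trans hb).trans (le_of_eq (one_mul f).symm)) hP₁.pos))

/-- The elements of order prime to `p` of a pair move the core into the join. -/
theorem Ctx.comm_core_le (h : Ctx p S g φ f Φ ψ) (P : Pair p f B B') :
    ∀ z ∈ pL p XX, ∀ o ∈ O, ⁅z, o⁆ ∈ KK := by
  have hOn := FittingCores.pCore_normal (G := G) p
  have hVn := vm_normal (S := S)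
  obtain ⟨hKm, -, -, hKI⟩ := h.mem_pair P
  suffices main : ∀ (n : ℕ) (P₀ : Subgroup G), Nat.card ↥P₀ ≤ n → Mem O f P₀ → KK ≤ P₀ →
      (∀ x ∈ XX, ∀ y ∈ P₀, x * y * x⁻¹ ∈ P₀) → ∀ z ∈ pL p XX, ∀ o ∈ P₀, ⁅z, o⁆ ∈ KK from
    main _ O le_rfl h.mem_core.1 hKm.le (fun x _ y hy => hOn.conj_mem y hy x)
  intro n
  induction n with
  | zero => exact fun P₀ h0 => absurd h0 (Nat.not_le.2 Nat.card_pos)
  | succ n ih =>
    intro P₀ hn hm hK hX z hz o ho
    by_cases heq : P₀ = KK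
    · rw [commutatorElement_def]
      exact mul_mem (h.conj_join P (pL_le _ hz) (heq ▸ ho)) (inv_mem (heq ▸ ho))
    set T : Set (Subgroup G) := Set.range fun q : ↥P₀ => (KK).map (MulAut.conj (q : G)).toMonoidHom
    set P₁ := sSup T with hP₁
    have hKP₁ : KK ≤ P₁ := (le_of_eq (map_conj_one KK).symm).trans (le_sSup ⟨1, rfl⟩)
    have hP₁0 : P₁ ≤ P₀ := sSup_le (by
      rintro _ ⟨q, rfl⟩
      rintro _ ⟨k, hk, rfl⟩
      exact mul_mem (mul_mem q.2 (hK hk)) (inv_mem q.2))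
    have hm₁ : Mem O f P₁ := mem_sSup h.pre.boundO ⟨_, ⟨1, rfl⟩⟩ (by
      rintro _ ⟨q, rfl⟩
      exact hKm.map_conj (map_normal_conj (O) (q : G)))
    have hX₁ : ∀ x ∈ XX, ∀ y ∈ P₁, x * y * x⁻¹ ∈ P₁ := by
      intro x hx
      have : P₁ ≤ P₁.comap (MulAut.conj x).toMonoidHom := sSup_le (by
        rintro _ ⟨q, rfl⟩
        rintro _ ⟨k, hk, rfl⟩
        refine (le_sSup (show _ ∈ T from ⟨⟨x * q * x⁻¹, hX x hx q q.2⟩, rfl⟩) :
          _ ≤ P₁) ⟨x * k * x⁻¹, h.conj_join P hx hk, ?_⟩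
        simp [mul_assoc])
      exact fun y hy => this hy
    have hconj₁ : ∀ q ∈ P₀, ∀ y ∈ P₁, q * y * q⁻¹ ∈ P₁ := by
      intro q hq
      have : P₁ ≤ P₁.comap (MulAut.conj q).toMonoidHom := sSup_le (by
        rintro _ ⟨r, rfl⟩
        rintro _ ⟨k, hk, rfl⟩
        refine (le_sSup (show _ ∈ T from ⟨⟨q * r, mul_mem hq r.2⟩, rfl⟩) : _ ≤ P₁) ⟨k, hk, ?_⟩
        simp [mul_assoc])
      exact fun y hy => this hy
    -- properness
    have hlt : P₁ ≠ P₀ := fun e => heq (le_antisymm ?_ hK)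
    swap
    · by_contra hne
      have hpg : IsPGroup p ↥P₀ := (PBasic.pCore_isPGroup p G).to_le hm.le
      have := hpg.isNilpotent
      have hKne : (KK).subgroupOf P₀ ≠ ⊤ := fun ht => hne (subgroupOf_eq_top.1 ht)
      obtain ⟨M, hM, hKM⟩ := (eq_top_or_exists_le_coatom _).resolve_left hKne
      have hMn := NormalizerCondition.normal_of_coatom M normalizerCondition_of_isNilpotent hM
      refine hM.1 (eq_top_iff.2 fun y _ => ?_)
      have hle : P₁ ≤ M.map P₀.subtype := sSup_le (by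
        rintro _ ⟨q, rfl⟩
        rintro _ ⟨k, hk, rfl⟩
        exact ⟨q * ⟨k, hK hk⟩ * q⁻¹, hMn.conj_mem _ (hKM (mem_subgroupOf.2 hk)) q, rfl⟩)
      obtain ⟨y', hy', e'⟩ := hle (e.ge y.2)
      exact Subtype.ext e' ▸ hy'
    have hcard : Nat.card ↥P₁ < Nat.card ↥P₀ := lt_of_le_of_ne (card_le_of_le hP₁0)
      fun e => hlt (eq_of_le_of_card_ge hP₁0 e.ge)
    set I₁ := cw O P₁ with hI₁
    have hII : I₁ ≤ II := hKI ▸ cw_anti hKP₁
    have hIconj : ∀ q ∈ P₀, ∀ i ∈ I₁, q * i * q⁻¹ ∈ I₁ := by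
      intro q hq i hi
      refine mem_cw.2 ⟨hOn.conj_mem i hi.1 q, fun y hy => ?_⟩
      have h2 := mem_cw_comm hi (hconj₁ q⁻¹ (inv_mem hq) y hy)
      calc y * (q * i * q⁻¹) = q * ((q⁻¹ * y * q⁻¹⁻¹) * i) * q⁻¹ := by group
        _ = q * (i * (q⁻¹ * y * q⁻¹⁻¹)) * q⁻¹ := by rw [h2]
        _ = _ := by group
    -- the commutators lie in a subgroup pairing `I₁` into `V`
    set π := QuotientGroup.mk' (vm S)
    let Y₀ : Subgroup G := P₁ ⊔ closure {w | ∃ z ∈ pL p XX, ∃ q ∈ P₀, w = ⁅z, q⁆}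
    have hY₀P : Y₀ ≤ P₀ := sup_le hP₁0 ((closure_le _).2 (by
      rintro _ ⟨z, hz, q, hq, rfl⟩
      exact mul_mem (hX z (pL_le _ hz) q hq) (inv_mem hq)))
    have hYX : ∀ x ∈ XX, ∀ y ∈ Y₀, x * y * x⁻¹ ∈ Y₀ := by
      intro x hx
      have : Y₀ ≤ Y₀.comap (MulAut.conj x).toMonoidHom := sup_le
        (fun w hw => mem_sup_left (hX₁ x hx w hw)) ((closure_le _).2 (by
        rintro _ ⟨z, hz, q, hq, rfl⟩
        refine mem_sup_right (subset_closure ⟨x * z * x⁻¹, pL_conj_mem_self hx hz, x * q * x⁻¹, hX x hx q hq, ?_⟩)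
        simp [commutatorElement_def, mul_assoc]))
      exact fun y hy => this hy
    have hV : ∀ y ∈ Y₀, ∀ i ∈ I₁, ⁅y, i⁆ ∈ vm S := by
      intro y hy i hi
      have hle : Y₀ ≤ (centralizer ((I₁.map π : Subgroup (G ⧸ vm S)) : Set (G ⧸ vm S))).comap π := by
        refine sup_le (fun a ha => ?_) ((closure_le _).2 ?_)
        · refine mem_centralizer_iff.2 ?_
          rintro _ ⟨j, hj, rfl⟩
          rw [← map_mul, ← map_mul, (mem_cw_comm hj ha).symm]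
        rintro _ ⟨z, hz, q, hq, rfl⟩
        refine mem_centralizer_iff.2 ?_
        rintro _ ⟨j, hj, rfl⟩
        have hzc : ∀ k ∈ I₁, π z * π k = π k * π z := fun k hk => by
          rw [← commutatorElement_eq_one_iff_mul_comm, ← map_commutatorElement]
          exact (QuotientGroup.eq_one_iff _).2 (h.comm_inter P (pL_le _ hz) (hII hk))
        have hj' := hzc _ (hIconj q⁻¹ (inv_mem hq) j hj)
        simp only [map_mul, map_inv, inv_inv] at hj'
        rw [map_commutatorElement, commutatorElement_def]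
        set a := π z
        set b := π q
        set c := π j
        have h4 : a⁻¹ * c = c * a⁻¹ := (Commute.inv_left (hzc j hj : Commute a c)).eq
        symm
        calc a * b * a⁻¹ * b⁻¹ * c = a * b * (a⁻¹ * (b⁻¹ * c * b)) * b⁻¹ := by group
          _ = a * b * ((b⁻¹ * c * b) * a⁻¹) * b⁻¹ := by rw [(Commute.inv_left (hj' : Commute a _)).eq]
          _ = (a * c) * (b * a⁻¹ * b⁻¹) := by group
          _ = (c * a) * (b * a⁻¹ * b⁻¹) := by rw [hzc j hj]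
          _ = c * (a * b * a⁻¹ * b⁻¹) := by group
      have := mem_centralizer_iff.1 (hle hy) (π i) (mem_map_of_mem π hi)
      rw [← map_mul, ← map_mul, eq_comm] at this
      rw [← QuotientGroup.eq_one_iff]
      change π ⁅y, i⁆ = 1
      rw [map_commutatorElement, commutatorElement_eq_one_iff_mul_comm, ← map_mul, ← map_mul]
      exact this
    have hC := h.no_natural P (hY₀P.trans hm.le) le_sup_left hm₁ rfl hII hYX hX₁ hV
    -- hence `[P₀, z] ≤ P₁`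
    have hz1 : ∀ z ∈ pL p XX, ∀ q ∈ P₀, ⁅z, q⁆ ∈ P₁ := by
      intro z₀ hz₀ q hq
      refine comm_mem_of_pL hX₁ (fun y hyX hyp => ?_) z₀ hz₀
      have hy : y ∈ pL p XX := mem_pL hyX hyp
      have hw : ⁅y, q⁆ ∈ Y₀ := mem_sup_right (subset_closure ⟨y, hy, q, hq, rfl⟩)
      refine mem_of_pow_comm hyp (hX₁ y hyX) (PBasic.pCore_isPGroup p G) (hm.le (hY₀P hw)) fun j => ?_
      have hmY : ⁅y, q⁆ ^ j ∈ Y₀ := pow_mem hw j
      rw [← hm₁.cw_cw h.pre.boundO]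
      refine mem_cw.2 ⟨hm.le (hY₀P ?_), fun i hi => (commutatorElement_eq_one_iff_mul_comm.1 ?_).symm⟩
      · rw [commutatorElement_def]
        exact mul_mem (hYX y hyX _ hmY) (inv_mem hmY)
      · set m := ⁅y, q⁆ ^ j
        have hc := hC m hmY i hi
        have e1 : ⁅y * m * y⁻¹, i⁆ = ⁅m, i⁆ := by
          rw [h.comm_conj P hyX (hm.le (hY₀P hmY)) (hII hi) hc.1, mem_center_iff.1 hc.2 y,
            mul_inv_cancel_right]
        have e2 : y * m * y⁻¹ = ⁅y, m⁆ * m := by simp [commutatorElement_def, mul_assoc]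
        rw [e2, show ⁅⁅y, m⁆ * m, i⁆ = ⁅y, m⁆ * ⁅m, i⁆ * ⁅y, m⁆⁻¹ * ⁅⁅y, m⁆, i⁆ by
          simp [commutatorElement_def, mul_assoc], mem_center_iff.1 hc.2, mul_inv_cancel_right] at e1
        simpa using e1
    -- induction
    have hz2 := ih P₁ (Nat.lt_succ_iff.1 (hcard.trans_le hn)) hm₁ hKP₁ hX₁
    refine comm_mem_of_pL (fun x hx y hy => h.conj_join P hx hy) (fun y hyX hyp => ?_) z hz
    have hy : y ∈ pL p XX := mem_pL hyX hyp
    have hcmem := hz1 y hy o ho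
    exact mem_of_pow_comm hyp (fun w hw => h.conj_join P hyX hw) (PBasic.pCore_isPGroup p G)
      (hm.le (hP₁0 hcmem)) fun j => hz2 y hy _ (pow_mem hcmem j)

end Cfsg.Agent.PushUp3
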