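/-
Pushing up with a centrally large core, part 5: the structure of the core.
-/
import Cfsg.Agent.Lib.PushUp3.Pair

set_option autoImplicit false

namespace Cfsg.Agent.PushUp3

open Subgroup PushUp PushUp2 Matrix
open scoped commutatorElement Pointwise

variable {G : Type*} [Group G]

/-- The elements commuting with `K` modulo `N`. -/
def zone (N : Subgroup G) [N.Normal] (K : Subgroup G) : Subgroup G := ⨅ k ∈ K, commSet N k

theorem mem_zone {N : Subgroup G} [N.Normal] {K : Subgroup G} {n : G} :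
    n ∈ zone N K ↔ ∀ k ∈ K, ⁅n, k⁆ ∈ N := by
  simp only [zone, mem_iInf, mem_commSet]

theorem zone_conj {N : Subgroup G} [hN : N.Normal] {K : Subgroup G} {x n : G}
    (hx : ∀ k ∈ K, x⁻¹ * k * x ∈ K) (hn : n ∈ zone N K) : x * n * x⁻¹ ∈ zone N K := by
  refine mem_zone.2 fun k hk => ?_
  rw [show ⁅x * n * x⁻¹, k⁆ = x * ⁅n, x⁻¹ * k * x⁆ * x⁻¹ by simp [commutatorElement_def, mul_assoc]]
  exact hN.conj_mem _ (mem_zone.1 hn _ (hx k hk)) x

theorem le_zone {N : Subgroup G} [hN : N.Normal] {K : Subgroup G} : N ≤ zone N K := fun n hn =>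
  mem_zone.2 fun k _ => by
    rw [show ⁅n, k⁆ = n * (k * n⁻¹ * k⁻¹) by simp [commutatorElement_def, mul_assoc]]
    exact mul_mem hn (hN.conj_mem _ (inv_mem hn) k)

variable [Finite G] {p : ℕ} [hp : Fact p.Prime] {S : Subgroup G} {g : G}
  {F : Type} [Field F] {φ : G →* Matrix.ProjectiveSpecialLinearGroup (Fin 2) F}
  {Φ : G →* Matrix.SpecialLinearGroup (Fin 2) F} {ψ : G → Fin 2 → F} {f : ℕ} {B B' : Subgroup G}

local notation "O" => Cfsg.pCore p G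
local notation "L" => pL p (⊤ : Subgroup G)
local notation "II" => eSub p S B ⊓ eSub p S B'
local notation "KK" => eSub p S B ⊔ eSub p S B'
local notation "XX" => B ⊔ B'

theorem Ctx.kk_le (h : Ctx p S g φ f Φ ψ) : KK ≤ O := sup_le (eSub_le h.pre B) (eSub_le h.pre B')

/-- The elements of order prime to `p` lie in those of a pair times the join. -/
theorem Ctx.pL_le_pair (h : Ctx p S g φ f Φ ψ) (P : Pair p f B B') :
    L ≤ pL p XX ⊔ KK ∧ ∀ l ∈ L, l ∈ O → l ∈ KK := by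
  have hOn := FittingCores.pCore_normal (G := G) p
  have hLn := pL_normal (G := G) (p := p)
  obtain ⟨-, -, hIK, -⟩ := h.mem_pair P
  set T := {w | ∃ z ∈ pL p XX, ∃ o ∈ O, w = ⁅z, o⁆}
  set N := pL p XX ⊔ closure T with hN
  have hTK : closure T ≤ KK := (closure_le _).2 (by
    rintro _ ⟨z, hz, o, ho, rfl⟩
    exact h.comm_core_le P z hz o ho)
  have hNn : N.Normal := by
    refine normalizer_eq_top_iff.1 (eq_top_iff.2 (P.top.ge.trans (sup_le (fun x hx => ?_) fun o ho => ?_)))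
    · refine mem_normalizer_of_map_le ?_
      rw [Subgroup.map_sup, MonoidHom.map_closure]
      refine sup_le ?_ ((closure_le _).2 ?_)
      · rintro _ ⟨z, hz, rfl⟩
        exact mem_sup_left (pL_conj_mem_self hx hz)
      · rintro _ ⟨_, ⟨z, hz, o, ho, rfl⟩, rfl⟩
        refine mem_sup_right (subset_closure ⟨x * z * x⁻¹, pL_conj_mem_self hx hz, x * o * x⁻¹,
          hOn.conj_mem o ho x, ?_⟩)
        simp [commutatorElement_def, mul_assoc]
    · refine mem_normalizer_of_map_le ?_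
      rw [Subgroup.map_sup, MonoidHom.map_closure]
      refine sup_le ?_ ((closure_le _).2 ?_)
      · rintro _ ⟨z, hz, rfl⟩
        show o * z * o⁻¹ ∈ N
        rw [show o * z * o⁻¹ = ⁅z, o⁆⁻¹ * z by simp [commutatorElement_def, mul_assoc]]
        exact mul_mem (inv_mem (mem_sup_right (subset_closure ⟨z, hz, o, ho, rfl⟩))) (mem_sup_left hz)
      · rintro _ ⟨_, ⟨z, hz, o', ho', rfl⟩, rfl⟩
        show o * ⁅z, o'⁆ * o⁻¹ ∈ N
        rw [show o * ⁅z, o'⁆ * o⁻¹ = ⁅z, o⁆⁻¹ * ⁅z, o * o'⁆ by simp [commutatorElement_def, mul_assoc]]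
        exact mul_mem (inv_mem (mem_sup_right (subset_closure ⟨z, hz, o, ho, rfl⟩)))
          (mem_sup_right (subset_closure ⟨z, hz, o * o', mul_mem ho ho', rfl⟩))
  have hL : L ≤ pL p XX ⊔ KK :=
    (pL_top_le P.top (N := N) le_sup_left).trans (sup_le_sup_left hTK _)
  refine ⟨hL, fun l hl hlO => ?_⟩
  have hnorm : pL p XX ≤ normalizer ((KK : Subgroup G) : Set G) := fun x hx =>
    mem_normalizer_of_map_le (by
      rintro _ ⟨k, hk, rfl⟩
      exact h.conj_join P (pL_le _ hx) hk)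
  have hl' := hL hl
  rw [← SetLike.mem_coe, coe_mul_of_left_le_normalizer_right _ _ hnorm] at hl'
  obtain ⟨x, hx, k, hk, rfl⟩ := hl'
  have hxO : x ∈ O := by simpa using mul_mem hlO (inv_mem (h.kk_le hk))
  refine mul_mem ?_ hk
  rw [← hIK]
  refine mem_cw.2 ⟨hxO, fun i hi => ?_⟩
  obtain ⟨j, v, hv, rfl, -, hj⟩ := h.inter_fixed P hi
  have cv : Commute x v := h.pre.core_comm hxO hv
  have cj : Commute x j := hj x (pL_le _ hx)
  exact (cj.mul_right cv).eq.symm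

/-- Commutators of the core with the elements of order prime to `p` lie in the join. -/
theorem Ctx.comm_L_le (h : Ctx p S g φ f Φ ψ) (P : Pair p f B B') {o l : G} (ho : o ∈ O) (hl : l ∈ L) :
    ⁅l, o⁆ ∈ KK := by
  refine (h.pL_le_pair P).2 _ ?_ ?_
  · rw [show ⁅l, o⁆ = l * (o * l⁻¹ * o⁻¹) by simp [commutatorElement_def, mul_assoc]]
    exact mul_mem hl (pL_normal.conj_mem _ (inv_mem hl) o)
  · rw [commutatorElement_def]
    exact mul_mem ((FittingCores.pCore_normal (G := G) p).conj_mem o ho l) (inv_mem ho)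

/-- The intersection is `V` times a centralised part. -/
theorem Ctx.inter_le (h : Ctx p S g φ f Φ ψ) (P : Pair p f B B') : II ≤ vm S ⊔ qz p G := by
  intro i hi
  obtain ⟨j, v, hv, rfl, hjI, hj⟩ := h.inter_fixed P hi
  refine mul_mem (mem_sup_right ⟨eSub_le h.pre B hjI.1, mem_centralizer_iff.2 fun l hl => ?_⟩)
    (mem_sup_left hv)
  obtain ⟨-, -, hIK, -⟩ := h.mem_pair P
  have hle : pL p XX ⊔ KK ≤ centralizer ({j} : Set G) := sup_le
    (fun x hx => mem_centralizer_singleton_iff.2 (hj x (pL_le _ hx)))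
    (fun k hk => mem_centralizer_singleton_iff.2 (mem_cw_comm (hIK.ge hk) hjI).symm)
  exact mem_centralizer_singleton_iff.1 (hle ((h.pL_le_pair P).1 hl))

/-- An element of the core centralised modulo `qz` by a pair. -/
theorem Ctx.qz_of_pair (h : Ctx p S g φ f Φ ψ) (P : Pair p f B B') {u : G} (hu : u ∈ O)
    (h1 : ∀ z ∈ pL p XX, ⁅z, u⁆ ∈ qz p G) (h2 : ∀ k ∈ KK, ⁅k, u⁆ ∈ qz p G) : u ∈ qz p G := by
  have := qz_normal (p := p) (G := G)
  have hle : pL p XX ⊔ KK ≤ commSet (qz p G) u := sup_le h1 h2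
  exact qz_mem_of_comm hu fun z hz => hle ((h.pL_le_pair P).1 hz)

set_option maxHeartbeats 1000000 in
/-- The second centre of the join modulo `qz` meets the first factor in the first centre. -/
theorem Ctx.second_le (h : Ctx p S g φ f Φ ψ) (P : Pair p f B B') [(qz p G).Normal] {d : G}
    (hd : d ∈ B ⊓ O) (hdU : ∀ k ∈ KK, ⁅d, k⁆ ∈ zone (qz p G) KK) : d ∈ zone (qz p G) KK := by
  have hOn := FittingCores.pCore_normal (G := G) p
  have hVn := vm_normal (S := S)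
  set Q := qz p G with hQ
  set Z₁ := zone Q KK
  have hdK : ∀ {e : G}, e ∈ B ⊓ O → e ∈ KK := fun he => mem_sup_left (mem_sup_left he)
  have hd'K : ∀ {e : G}, e ∈ B' ⊓ O → e ∈ KK := fun he => mem_sup_right (mem_sup_left he)
  have hKconj : ∀ x ∈ XX, ∀ k ∈ KK, x⁻¹ * k * x ∈ KK := fun x hx k hk => by
    simpa using h.conj_join P (inv_mem hx) hk
  have hZK : ∀ x ∈ KK, ∀ n ∈ Z₁, x * n * x⁻¹ ∈ Z₁ := fun x hx n hn =>
    zone_conj (fun k hk => mul_mem (mul_mem (inv_mem hx) hk) hx) hn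
  have hVc : ∀ o ∈ O, ∀ v ∈ vm S, ⁅o, v⁆ = 1 := fun o ho v hv =>
    commutatorElement_eq_one_iff_mul_comm.2 (h.pre.core_comm ho hv)
  obtain ⟨m', e'⟩ := h.mem_eSub P.right
  have hE' : ∀ a ∈ eSub p S B', ∀ b ∈ eSub p S B', ⁅a, b⁆ = 1 := fun a ha b hb =>
    commutatorElement_eq_one_iff_mul_comm.2 (mem_cw_comm (e'.ge hb) ha)
  -- the generators
  let gen : Set G := {w | ∃ d ∈ B ⊓ O, (∀ k ∈ KK, ⁅d, k⁆ ∈ Z₁) ∧ ∃ d' ∈ B' ⊓ O, w = ⁅d, d'⁆}
  have hgZ : ∀ w ∈ gen, w ∈ Z₁ := by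
    rintro _ ⟨d, -, hdU, d', hd', rfl⟩
    exact hdU _ (hd'K hd')
  have modQ : ∀ {x n : G}, x ∈ KK → n ∈ Z₁ → QuotientGroup.mk' Q (x * n * x⁻¹) = QuotientGroup.mk' Q n :=
    fun {x n} hx hn => by
      refine (QuotientGroup.eq_iff_div_mem).2 ?_
      rw [div_eq_mul_inv, show x * n * x⁻¹ * n⁻¹ = ⁅x, n⁆ by rw [commutatorElement_def]]
      exact comm_swap (mem_zone.1 hn x hx)
  have split : ∀ k ∈ KK, ∃ d₁ ∈ B ⊓ O, ∃ d₂ ∈ B' ⊓ O, ∃ v ∈ vm S, k = d₁ * d₂ * v := by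
    intro k hk
    obtain ⟨m, -⟩ := h.mem_eSub P.left
    obtain ⟨e₁, he₁, e₂, he₂, rfl⟩ := m.mem_sup h.pre.boundO m' hk
    obtain ⟨d₁, hd₁, v₁, hv₁, rfl⟩ := mem_sup_of_normal_right.1 he₁
    obtain ⟨d₂, hd₂, v₂, hv₂, rfl⟩ := mem_sup_of_normal_right.1 he₂
    refine ⟨d₁, hd₁, d₂, hd₂, v₁ * v₂, mul_mem hv₁ hv₂, ?_⟩
    have c : d₂ * v₁ = v₁ * d₂ := h.pre.core_comm hd₂.2 hv₁
    calc d₁ * v₁ * (d₂ * v₂) = d₁ * (v₁ * d₂) * v₂ := by group
      _ = d₁ * (d₂ * v₁) * v₂ := by rw [c]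
      _ = _ := by group
  have moveB : ∀ a ∈ B, ∀ d' ∈ B' ⊓ O, ∃ e ∈ B' ⊓ O, ∀ u ∈ B ⊓ O, (∀ k ∈ KK, ⁅u, k⁆ ∈ Z₁) →
      QuotientGroup.mk' Q (a * ⁅u, d'⁆ * a⁻¹) = QuotientGroup.mk' Q ⁅u, e⁆ := by
    intro a ha d' hd'
    obtain ⟨d₁, hd₁, d₂, hd₂, v, hv, e⟩ := split _ (h.conj_join P (mem_sup_left ha) (hd'K hd'))
    refine ⟨d₂, hd₂, fun u hu huU => ?_⟩
    have e1 : a * u * a⁻¹ = u := by
      rw [mem_centralizer_iff.1 (P.left.comm hu.1) a ha, mul_inv_cancel_right]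
    have e2 : u * d₁ = d₁ * u := mem_centralizer_iff.1 (P.left.comm hd₁.1) u hu.1
    rw [show a * ⁅u, d'⁆ * a⁻¹ = ⁅a * u * a⁻¹, a * d' * a⁻¹⁆ by simp [commutatorElement_def, mul_assoc],
      e1, e, show ⁅u, d₁ * d₂ * v⁆ = ⁅u, d₁⁆ * (d₁ * ⁅u, d₂⁆ * d₁⁻¹) * ((d₁ * d₂) * ⁅u, v⁆ * (d₁ * d₂)⁻¹) by
        simp [commutatorElement_def, mul_assoc],
      commutatorElement_eq_one_iff_mul_comm.2 e2, hVc u hu.2 v hv, one_mul, mul_one, mul_inv_cancel, mul_one,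
      modQ (hdK hd₁) (huU _ (hd'K hd₂))]
  have moveB' : ∀ a ∈ B', ∀ u ∈ B ⊓ O, (∀ k ∈ KK, ⁅u, k⁆ ∈ Z₁) →
      ∃ u₁ ∈ B ⊓ O, (∀ k ∈ KK, ⁅u₁, k⁆ ∈ Z₁) ∧ ∀ d' ∈ B' ⊓ O,
        QuotientGroup.mk' Q (a * ⁅u, d'⁆ * a⁻¹) = QuotientGroup.mk' Q ⁅u₁, d'⁆ := by
    intro a ha u hu huU
    set y := a * u * a⁻¹
    obtain ⟨d₁, hd₁, d₂, hd₂, v, hv, e⟩ := split _ (h.conj_join P (mem_sup_right ha) (hdK hu))
    have hyU : ∀ k ∈ KK, ⁅y, k⁆ ∈ Z₁ := fun k hk => by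
      rw [show ⁅y, k⁆ = a * ⁅u, a⁻¹ * k * a⁆ * a⁻¹ by simp [y, commutatorElement_def, mul_assoc]]
      exact zone_conj (hKconj a (mem_sup_right ha)) (huU _ (hKconj a (mem_sup_right ha) k hk))
    have hrest : d₂ * v ∈ eSub p S B' := mul_mem (mem_sup_left hd₂) (mem_sup_right hv)
    have hdd : ∀ w ∈ eSub p S B', ⁅y, w⁆ = ⁅d₁, w⁆ := fun w hw => by
      show ⁅a * u * a⁻¹, w⁆ = _
      rw [e, mul_assoc, show ⁅d₁ * (d₂ * v), w⁆ = d₁ * ⁅d₂ * v, w⁆ * d₁⁻¹ * ⁅d₁, w⁆ by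
        simp [commutatorElement_def, mul_assoc], hE' _ hrest w hw]
      simp
    have hd₁U : ∀ k ∈ KK, ⁅d₁, k⁆ ∈ Z₁ := by
      intro k hk
      obtain ⟨k₁, hk₁, k₂, hk₂, w, hw, rfl⟩ := split k hk
      rw [show ⁅d₁, k₁ * k₂ * w⁆ = ⁅d₁, k₁⁆ * (k₁ * ⁅d₁, k₂⁆ * k₁⁻¹) * ((k₁ * k₂) * ⁅d₁, w⁆ * (k₁ * k₂)⁻¹) by
          simp [commutatorElement_def, mul_assoc],
        commutatorElement_eq_one_iff_mul_comm.2 (mem_centralizer_iff.1 (P.left.comm hk₁.1) d₁ hd₁.1),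
        hVc d₁ hd₁.2 w hw, one_mul, mul_one, mul_inv_cancel, mul_one, ← hdd k₂ (mem_sup_left hk₂)]
      exact hZK _ (hdK hk₁) _ (hyU _ (hd'K hk₂))
    refine ⟨d₁, hd₁, hd₁U, fun d' hd' => ?_⟩
    have e1 : a * d' * a⁻¹ = d' := by
      rw [mem_centralizer_iff.1 (P.right.comm hd'.1) a ha, mul_inv_cancel_right]
    rw [show a * ⁅u, d'⁆ * a⁻¹ = ⁅a * u * a⁻¹, a * d' * a⁻¹⁆ by simp [commutatorElement_def, mul_assoc],
      e1, hdd d' (mem_sup_left hd')]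
  set W := Q ⊔ closure gen with hW
  have hWO : W ≤ O := sup_le qz_le ((closure_le _).2 (by
    rintro _ ⟨d, hd, -, d', hd', rfl⟩
    rw [commutatorElement_def]
    exact mul_mem (mul_mem (mul_mem hd.2 hd'.2) (inv_mem hd.2)) (inv_mem hd'.2)))
  have hWZ : W ≤ Z₁ := sup_le le_zone ((closure_le _).2 hgZ)
  have ofMk : ∀ {x y : G}, QuotientGroup.mk' Q x = QuotientGroup.mk' Q y → y ∈ W → x ∈ W :=
    fun {x y} e hy => by
      have := mul_mem (mem_sup_left (T := closure gen) ((QuotientGroup.eq_iff_div_mem).1 e : x / y ∈ Q)) hy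
      rwa [← hW, div_mul_cancel] at this
  have hWinv : ∀ x ∈ XX, ∀ w ∈ W, x * w * x⁻¹ ∈ W := by
    have step : ∀ a : G, (a ∈ B ∨ a ∈ B') → ∀ w ∈ W, a * w * a⁻¹ ∈ W := fun a ha => by
      have : W ≤ W.comap (MulAut.conj a).toMonoidHom := sup_le
        (fun n hn => mem_sup_left ((inferInstance : Q.Normal).conj_mem n hn a))
        ((closure_le _).2 (by
          rintro _ ⟨u, hu, huU, d', hd', rfl⟩
          rcases ha with ha | ha
          · obtain ⟨e, he, hE⟩ := moveB a ha d' hd'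
            exact ofMk (hE u hu huU) (mem_sup_right (subset_closure ⟨u, hu, huU, e, he, rfl⟩))
          · obtain ⟨u₁, hu₁, hU₁, hE⟩ := moveB' a ha u hu huU
            exact ofMk (hE d' hd') (mem_sup_right (subset_closure ⟨u₁, hu₁, hU₁, d', hd', rfl⟩))))
      exact fun w hw => this hw
    intro x hx
    have hle : XX ≤ normalizer (W : Set G) := sup_le
      (fun a ha => mem_normalizer_of_map_le (by rintro _ ⟨w, hw, rfl⟩; exact step a (.inl ha) w hw))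
      (fun a ha => mem_normalizer_of_map_le (by rintro _ ⟨w, hw, rfl⟩; exact step a (.inr ha) w hw))
    exact fun w hw => (mem_normalizer_iff.1 (hle hx) w).1 hw
  -- the two factors commute on `W` modulo `Q`
  let T : Subgroup G := ⨅ w ∈ W, commSet Q w
  have memT : ∀ {x : G}, x ∈ T ↔ ∀ w ∈ W, ⁅x, w⁆ ∈ Q := fun {x} => by simp [T, mem_iInf, mem_commSet]
  have hcT : ∀ a ∈ B, ∀ a' ∈ B', ⁅a, a'⁆ ∈ T := by
    intro a ha a' ha'
    have hle : W ≤ commSet Q ⁅a, a'⁆ := by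
      refine sup_le (fun n hn => mem_commSet.2 ?_) ((closure_le _).2 ?_)
      · rw [show ⁅n, ⁅a, a'⁆⁆ = n * (⁅a, a'⁆ * n⁻¹ * ⁅a, a'⁆⁻¹) by simp [commutatorElement_def, mul_assoc]]
        exact mul_mem hn ((inferInstance : Q.Normal).conj_mem _ (inv_mem hn) _)
      rintro _ ⟨u, hu, huU, d', hd', rfl⟩
      obtain ⟨e, he, hE⟩ := moveB a⁻¹ (inv_mem ha) d' hd'
      obtain ⟨u₁, hu₁, hU₁, hE'⟩ := moveB' a'⁻¹ (inv_mem ha') u hu huU
      have k1 : QuotientGroup.mk' Q (a'⁻¹ * (a⁻¹ * ⁅u, d'⁆ * a⁻¹⁻¹) * a'⁻¹⁻¹) =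
          QuotientGroup.mk' Q ⁅u₁, e⁆ := by
        rw [← hE' e he, map_mul, map_mul, hE u hu huU, ← map_mul, ← map_mul]
      have k2 : QuotientGroup.mk' Q (a⁻¹ * (a'⁻¹ * ⁅u, d'⁆ * a'⁻¹⁻¹) * a⁻¹⁻¹) =
          QuotientGroup.mk' Q ⁅u₁, e⁆ := by
        rw [← hE u₁ hu₁ hU₁, map_mul, map_mul, hE' d' hd', ← map_mul, ← map_mul]
      have k3 := k1.trans k2.symm
      refine mem_commSet.2 (comm_swap ((QuotientGroup.eq_one_iff _).1 ?_))
      change QuotientGroup.mk' Q ⁅⁅a, a'⁆, ⁅u, d'⁆⁆ = 1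
      simp only [map_mul, map_inv, inv_inv] at k3
      simp only [map_commutatorElement] at k3 ⊢
      generalize QuotientGroup.mk' Q a = x, QuotientGroup.mk' Q a' = y,
        ⁅QuotientGroup.mk' Q u, QuotientGroup.mk' Q d'⁆ = w at k3 ⊢
      rw [commutatorElement_eq_one_iff_mul_comm, commutatorElement_def]
      calc x * y * x⁻¹ * y⁻¹ * w = x * y * (x⁻¹ * (y⁻¹ * w * y) * x) * x⁻¹ * y⁻¹ := by group
        _ = x * y * (y⁻¹ * (x⁻¹ * w * x) * y) * x⁻¹ * y⁻¹ := by rw [← k3]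
        _ = w * (x * y * x⁻¹ * y⁻¹) := by group
    exact memT.2 fun w hw => comm_swap (mem_commSet.1 (hle hw))
  have hTn : ((XX) ⊓ T).subgroupOf XX |>.Normal := by
    refine ⟨fun t ht y => ?_⟩
    refine mem_subgroupOf.2 ⟨SetLike.coe_mem _, memT.2 fun w hw => ?_⟩
    rw [show ⁅((y * t * y⁻¹ : ↥XX) : G), w⁆ = (y : G) * ⁅(t : G), (y : G)⁻¹ * w * y⁆ * (y : G)⁻¹ by
      simp [commutatorElement_def, mul_assoc]]
    refine (inferInstance : Q.Normal).conj_mem _ (memT.1 (mem_subgroupOf.1 ht).2 _ ?_) _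
    simpa using hWinv _ (inv_mem y.2) w hw
  set π := QuotientGroup.mk' ((XX ⊓ T).subgroupOf XX)
  have hgen : ⊤ = (B.subgroupOf XX).map π ⊔ (B'.subgroupOf XX).map π := by
    rw [← Subgroup.map_sup, ← subgroupOf_sup le_sup_left le_sup_right, subgroupOf_self,
      Subgroup.map_top_of_surjective _ (QuotientGroup.mk'_surjective _)]
  have hcomm : (B.subgroupOf XX).map π ≤ normalizer (((B'.subgroupOf XX).map π : Subgroup _) : Set _) := by
    refine le_trans ?_ (centralizer_le_normalizer _)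
    rintro _ ⟨a, ha, rfl⟩
    refine mem_centralizer_iff.2 ?_
    rintro _ ⟨a', ha', rfl⟩
    symm
    rw [← commutatorElement_eq_one_iff_mul_comm, ← map_commutatorElement]
    exact (QuotientGroup.eq_one_iff _).2 (mem_subgroupOf.2 ⟨SetLike.coe_mem _, hcT _ ha _ ha'⟩)
  have hpg : IsPGroup p ↥(⊤ : Subgroup (↥XX ⧸ (XX ⊓ T).subgroupOf XX)) := by
    rw [hgen]
    exact IsPGroup.to_sup_of_normal_right'
      ((P.left.pgroup.comap_subtype).map π) ((P.right.pgroup.comap_subtype).map π) hcomm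
  have hfix : ∀ z ∈ pL p XX, ∀ w ∈ W, ⁅z, w⁆ ∈ Q := by
    have hle : pL p XX ≤ XX ⊓ T := (closure_le _).2 fun z hz => by
      obtain ⟨hzX, k, hk, e⟩ := hz
      obtain ⟨n, hn⟩ := hpg ⟨π ⟨z, hzX⟩, mem_top _⟩
      have hn' : π ⟨z, hzX⟩ ^ p ^ n = 1 := congrArg Subtype.val hn
      have hk' : π ⟨z, hzX⟩ ^ k = 1 := by
        rw [← map_pow, show (⟨z, hzX⟩ : ↥XX) ^ k = 1 from Subtype.ext e, map_one]
      have h1 : π ⟨z, hzX⟩ = 1 := orderOf_eq_one_iff.1 (Nat.eq_one_of_dvd_coprimes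
        (((hp.out.coprime_iff_not_dvd).2 hk).pow_left n) (orderOf_dvd_of_pow_eq_one hn')
        (orderOf_dvd_of_pow_eq_one hk'))
      exact mem_subgroupOf.1 ((QuotientGroup.eq_one_iff (⟨z, hzX⟩ : ↥XX)).1 h1)
    exact fun z hz w hw => memT.1 (hle hz).2 w hw
  have hWQ : W ≤ Q := fun w hw => h.qz_of_pair P (hWO hw) (fun z hz => hfix z hz w hw)
    fun k hk => comm_swap (mem_zone.1 (hWZ hw) k hk)
  refine mem_zone.2 fun k hk => ?_
  obtain ⟨k₁, hk₁, k₂, hk₂, v, hv, rfl⟩ := split k hk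
  rw [show ⁅d, k₁ * k₂ * v⁆ = ⁅d, k₁⁆ * (k₁ * ⁅d, k₂⁆ * k₁⁻¹) * ((k₁ * k₂) * ⁅d, v⁆ * (k₁ * k₂)⁻¹) by
      simp [commutatorElement_def, mul_assoc],
    commutatorElement_eq_one_iff_mul_comm.2 (mem_centralizer_iff.1 (P.left.comm hk₁.1) d hd.1),
    hVc d hd.2 v hv, one_mul, mul_one, mul_inv_cancel, mul_one]
  exact (inferInstance : Q.Normal).conj_mem _
    (hWQ (mem_sup_right (subset_closure ⟨d, hd, hdU, k₂, hk₂, rfl⟩))) k₁

/-- The join is abelian modulo `qz`. -/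
theorem Ctx.kk_comm (h : Ctx p S g φ f Φ ψ) (P : Pair p f B B') {x y : G} (hx : x ∈ KK) (hy : y ∈ KK) :
    ⁅x, y⁆ ∈ qz p G := by
  have hQn := qz_normal (p := p) (G := G)
  have hVn := vm_normal (S := S)
  set Q := qz p G with hQ
  set Z₁ := zone Q KK
  have hVc : ∀ v ∈ vm S, v ∈ Z₁ := fun v hv => mem_zone.2 fun k hk => by
    rw [commutatorElement_eq_one_iff_mul_comm.2 (h.pre.core_comm (h.kk_le hk) hv).symm]
    exact one_mem _
  obtain ⟨m, e⟩ := h.mem_eSub P.left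
  obtain ⟨m', e'⟩ := h.mem_eSub P.right
  -- the second centre is the first
  have hU : ∀ x ∈ KK, (∀ k ∈ KK, ⁅x, k⁆ ∈ Z₁) → x ∈ Z₁ := by
    intro x hx hxU
    obtain ⟨e₁, he₁, e₂, he₂, rfl⟩ := m.mem_sup h.pre.boundO m' hx
    have hZK : ∀ y ∈ KK, ∀ n ∈ Z₁, y * n * y⁻¹ ∈ Z₁ := fun y hy n hn =>
      zone_conj (fun k hk => mul_mem (mul_mem (inv_mem hy) hk) hy) hn
    have c1 : ∀ a ∈ eSub p S B, ∀ b ∈ eSub p S B, ⁅a, b⁆ = 1 := fun a ha b hb =>
      commutatorElement_eq_one_iff_mul_comm.2 (mem_cw_comm (e.ge hb) ha)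
    have c2 : ∀ a ∈ eSub p S B', ∀ b ∈ eSub p S B', ⁅a, b⁆ = 1 := fun a ha b hb =>
      commutatorElement_eq_one_iff_mul_comm.2 (mem_cw_comm (e'.ge hb) ha)
    have prod : ∀ a b k : G, ⁅a * b, k⁆ = a * ⁅b, k⁆ * a⁻¹ * ⁅a, k⁆ := fun a b k => by
      simp [commutatorElement_def, mul_assoc]
    have prod' : ∀ a k k' : G, ⁅a, k * k'⁆ = ⁅a, k⁆ * (k * ⁅a, k'⁆ * k⁻¹) := fun a k k' => by
      simp [commutatorElement_def, mul_assoc]
    have u1 : ∀ k ∈ KK, ⁅e₁, k⁆ ∈ Z₁ := fun k hk => by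
      obtain ⟨k₁, hk₁, k₂, hk₂, rfl⟩ := m.mem_sup h.pre.boundO m' hk
      have := hxU k₂ (mem_sup_right hk₂)
      rw [prod, c2 e₂ he₂ k₂ hk₂, mul_one, mul_inv_cancel, one_mul] at this
      rw [prod', c1 e₁ he₁ k₁ hk₁, one_mul]
      exact hZK _ (mem_sup_left hk₁) _ this
    have u2 : ∀ k ∈ KK, ⁅e₂, k⁆ ∈ Z₁ := fun k hk => by
      obtain ⟨k₁, hk₁, k₂, hk₂, rfl⟩ := m.mem_sup h.pre.boundO m' hk
      have := hxU k₁ (mem_sup_left hk₁)
      rw [prod, c1 e₁ he₁ k₁ hk₁, mul_one] at this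
      have := hZK _ (inv_mem (mem_sup_left he₁)) _ this
      rw [prod', c2 e₂ he₂ k₂ hk₂, mul_one, mul_inv_cancel, mul_one]
      simpa [mul_assoc] using this
    obtain ⟨d, hd, v, hv, rfl⟩ := mem_sup_of_normal_right.1 he₁
    obtain ⟨d', hd', v', hv', rfl⟩ := mem_sup_of_normal_right.1 he₂
    refine mul_mem (mul_mem (h.second_le P hd fun k hk => ?_) (hVc v hv))
      (mul_mem ?_ (hVc v' hv'))
    · have := u1 k hk
      rwa [prod, commutatorElement_eq_one_iff_mul_comm.2 (h.pre.core_comm (h.kk_le hk) hv).symm, mul_one,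
        mul_inv_cancel, one_mul] at this
    · have hs : zone Q (eSub p S B' ⊔ eSub p S B) = Z₁ := by rw [sup_comm]
      rw [← hs]
      refine h.second_le P.symm hd' fun k hk => ?_
      rw [sup_comm] at hk
      have := u2 k hk
      rw [prod, commutatorElement_eq_one_iff_mul_comm.2 (h.pre.core_comm (h.kk_le hk) hv').symm, mul_one,
        mul_inv_cancel, one_mul] at this
      rw [hs]
      exact this
  suffices main : KK ≤ Z₁ from mem_zone.1 (main hx) y hy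
  set π := QuotientGroup.mk' Q
  set K' := (KK).map π
  have hpg : IsPGroup p ↥K' := ((PBasic.pCore_isPGroup p G).to_le h.kk_le).map π
  intro k hk
  by_contra hk1
  have hiff : ∀ a (ha : a ∈ KK), (⟨π a, mem_map_of_mem π ha⟩ : ↥K') ∈ center ↥K' ↔ a ∈ Z₁ := fun a ha => by
    rw [mem_center_iff]
    refine ⟨fun hc => mem_zone.2 fun b hb => ?_, fun hz => ?_⟩
    · have := congrArg Subtype.val (hc ⟨π b, mem_map_of_mem π hb⟩)
      refine (QuotientGroup.eq_one_iff _).1 ?_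
      change π ⁅a, b⁆ = 1
      rw [map_commutatorElement, commutatorElement_eq_one_iff_mul_comm]
      exact this.symm
    · rintro ⟨_, b, hb, rfl⟩
      refine Subtype.ext ?_
      show π b * π a = π a * π b
      symm
      rw [← commutatorElement_eq_one_iff_mul_comm, ← map_commutatorElement]
      exact (QuotientGroup.eq_one_iff _).2 (mem_zone.1 hz b hb)
  have : Nontrivial (↥K' ⧸ center ↥K') := ⟨⟨_, _, fun hq : ((⟨π k, mem_map_of_mem π hk⟩ : ↥K') :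
      ↥K' ⧸ center ↥K') = 1 => hk1 ((hiff k hk).1 ((QuotientGroup.eq_one_iff _).1 hq))⟩⟩
  have := (hpg.to_quotient (center ↥K')).center_nontrivial
  obtain ⟨⟨y', hy'⟩, hne⟩ := exists_ne (1 : ↥(center (↥K' ⧸ center ↥K')))
  induction y' using QuotientGroup.induction_on with
  | _ w =>
    obtain ⟨_, a, ha, rfl⟩ := w
    refine hne (Subtype.ext ((QuotientGroup.eq_one_iff _).2 ((hiff a ha).2 (hU a ha fun b hb => ?_))))
    have hab : ⁅a, b⁆ ∈ KK := by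
      rw [commutatorElement_def]
      exact mul_mem (mul_mem (mul_mem ha hb) (inv_mem ha)) (inv_mem hb)
    refine (hiff _ hab).1 ((QuotientGroup.eq_one_iff _).1 ?_)
    have e2 : (⟨π ⁅a, b⁆, mem_map_of_mem π hab⟩ : ↥K') =
        ⁅(⟨π a, mem_map_of_mem π ha⟩ : ↥K'), ⟨π b, mem_map_of_mem π hb⟩⁆ :=
      Subtype.ext (map_commutatorElement π a b)
    rw [e2]
    change QuotientGroup.mk' (center ↥K') _ = 1
    rw [map_commutatorElement, commutatorElement_eq_one_iff_mul_comm]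
    exact (mem_center_iff.1 hy' _).symm

/-- The member generated by the abelian subgroups of the core coming from those outside it. -/
def hSub (p f : ℕ) (S : Subgroup G) : Subgroup G := ⨆ (B : Subgroup G) (_ : Off p f B), eSub p S B

omit [Finite G] hp in
theorem eSub_le_hSub {B : Subgroup G} (hB : Off p f B) : eSub p S B ≤ hSub p f S :=
  le_iSup₂ (f := fun (B : Subgroup G) (_ : Off p f B) => eSub p S B) B hB

theorem hSub_normal : (hSub p f S).Normal := by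
  refine normalizer_eq_top_iff.1 (eq_top_iff.2 fun x _ => mem_normalizer_of_map_le ?_)
  rw [hSub, Subgroup.map_iSup]
  refine iSup_le fun B => ?_
  rw [Subgroup.map_iSup]
  refine iSup_le fun hB => ?_
  rw [← eSub_conj]
  exact eSub_le_hSub (hB.map_conj x)

/-- The properties of `hSub`. -/
theorem Ctx.hSub_facts (h : Ctx p S g φ f Φ ψ) :
    Mem O f (hSub p f S) ∧ vm S ≤ hSub p f S ∧ (∀ o ∈ O, ∀ l ∈ L, ⁅l, o⁆ ∈ hSub p f S) ∧
      cw O (hSub p f S) ≤ vm S ⊔ qz p G ∧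
      ∀ x ∈ hSub p f S, ∀ y ∈ hSub p f S, ⁅x, y⁆ ∈ qz p G := by
  obtain ⟨A, -, hA⟩ := h.pre.exists_off
  obtain ⟨A', hA', hop⟩ := h.exists_partner hA
  have P : Pair p f A A' := ⟨hA, hA', hop⟩
  have hm : Mem O f (hSub p f S) := by
    rw [hSub, iSup_subtype' (p := fun B : Subgroup G => Off p f B) (f := fun B _ => eSub p S B), iSup]
    exact mem_sSup h.pre.boundO ⟨_, ⟨⟨A, hA⟩, rfl⟩⟩ (by rintro _ ⟨B, rfl⟩; exact (h.mem_eSub B.2).1)
  have hKK : eSub p S A ⊔ eSub p S A' ≤ hSub p f S := sup_le (eSub_le_hSub hA) (eSub_le_hSub hA')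
  refine ⟨hm, vm_le_eSub.trans (eSub_le_hSub hA), fun o ho l hl => hKK (h.comm_L_le P ho hl),
    (cw_anti hKK).trans (by rw [(h.mem_pair P).2.2.2]; exact h.inter_le P), ?_⟩
  have hQn := qz_normal (p := p) (G := G)
  -- two of the generators
  have gen : ∀ B₁, Off p f B₁ → ∀ B₂, Off p f B₂ → ∀ x ∈ eSub p S B₁, ∀ y ∈ eSub p S B₂,
      ⁅x, y⁆ ∈ qz p G := by
    intro B₁ h1 B₂ h2 x hx y hy
    by_cases hno : Opp p B₁ B₂
    · exact h.kk_comm ⟨h1, h2, hno⟩ (mem_sup_left hx) (mem_sup_right hy)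
    obtain ⟨B', hB', hop⟩ := h.exists_partner h1
    obtain ⟨hop', a, ha, hopa⟩ := h.exists_moved h1 h2 hop hno
    set Ba := B₁.map (MulAut.conj a).toMonoidHom
    have hBa := h1.map_conj a
    have e' : B'.map (MulAut.conj a).toMonoidHom = B' :=
      mem_normalizer_iff_map_conj_eq.1 (le_normalizer ha)
    have hle : eSub p S B₁ ≤ eSub p S Ba ⊔ eSub p S B' := by
      intro w hw
      have := h.conj_join ⟨h1, hB', hop⟩ (x := a⁻¹) (inv_mem (mem_sup_right ha)) (mem_sup_left hw)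
      have hmem := mem_map_of_mem (MulAut.conj a).toMonoidHom this
      rw [Subgroup.map_sup, ← eSub_conj, ← eSub_conj, e'] at hmem
      simpa [Ba, mul_assoc] using hmem
    have hcs : eSub p S Ba ⊔ eSub p S B' ≤ commSet (qz p G) y := sup_le
      (fun w hw => h.kk_comm ⟨hBa, h2, hopa⟩ (mem_sup_left hw) (mem_sup_right hy))
      (fun w hw => h.kk_comm ⟨hB', h2, hop'⟩ (mem_sup_left hw) (mem_sup_right hy))
    exact hcs (hle hx)
  intro x hx y hy
  have h1 : hSub p f S ≤ commSet (qz p G) y := by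
    refine iSup₂_le fun B₁ hB₁ w hw => ?_
    have h2 : hSub p f S ≤ commSet (qz p G) w :=
      iSup₂_le fun B₂ hB₂ v hv => comm_swap (gen B₁ hB₁ B₂ hB₂ w hw v hv)
    exact comm_swap (mem_commSet.1 (h2 hy))
  exact h1 hx

end Cfsg.Agent.PushUp3
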