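/-
Pushing up with a centrally large core, part 6: consequences in the group for normal subgroups of the
Sylow group inside the core.
-/
import Cfsg.Agent.Lib.PushUp3.Struct
import Cfsg.Agent.Lib.PushUp.Main

set_option autoImplicit false

namespace Cfsg.Agent.PushUp3

open Subgroup PushUp PushUp2 Matrix
open scoped commutatorElement Pointwise

variable {G : Type*} [Group G]

/-- The conjugates of the elements of `W`. -/
def conjOf (W : Subgroup G) : Set G := {x | ∃ w ∈ W, ∃ k : G, x = k * w * k⁻¹}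

theorem mem_conjOf {W : Subgroup G} {w : G} (hw : w ∈ W) : w ∈ conjOf W := ⟨w, hw, 1, by simp⟩

theorem powComm_normal [Finite G] {p : ℕ} (N : Subgroup G) [hN : N.Normal] : (powComm p N).Normal := by
  refine normalizer_eq_top_iff.1 (eq_top_iff.2 fun x _ => mem_normalizer_of_map_le ?_)
  rw [powComm_map, map_normal_conj N x]

theorem powComm_le {p : ℕ} {N H : Subgroup G} (h1 : ∀ a ∈ N, ∀ b ∈ N, ⁅a, b⁆ ∈ H)
    (h2 : ∀ a ∈ N, a ^ p ∈ H) : powComm p N ≤ H := by
  rw [powComm, closure_le]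
  rintro z (⟨a, ha, b, hb, rfl⟩ | ⟨a, ha, rfl⟩)
  exacts [h1 a ha b hb, h2 a ha]

theorem comm_mem_powComm {p : ℕ} {N : Subgroup G} {a b : G} (ha : a ∈ N) (hb : b ∈ N) :
    ⁅a, b⁆ ∈ powComm p N := subset_closure (Or.inl ⟨a, ha, b, hb, rfl⟩)

theorem pow_mem_powComm {p : ℕ} {N : Subgroup G} {a : G} (ha : a ∈ N) : a ^ p ∈ powComm p N :=
  subset_closure (Or.inr ⟨a, ha, rfl⟩)

variable [Finite G] {p : ℕ} [hp : Fact p.Prime] {S : Subgroup G} {g : G}
  {F : Type} [Field F] {φ : G →* Matrix.ProjectiveSpecialLinearGroup (Fin 2) F}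
  {Φ : G →* Matrix.SpecialLinearGroup (Fin 2) F} {ψ : G → Fin 2 → F} {f : ℕ}

local notation "O" => Cfsg.pCore p G
local notation "L" => pL p (⊤ : Subgroup G)
local notation "Q" => qz p G
local notation "C" => vm S ⊓ center G

theorem Ctx.L_sup (h : Ctx p S g φ f Φ ψ) : L ⊔ S = ⊤ :=
  eq_top_of_pL le_sup_left fun hd => h.pre.frame.sit.not_dvd (hd.trans (index_dvd_of_le le_sup_right))

omit hp in
theorem Ctx.normal_of_L (h : Ctx p S g φ f Φ ψ) {W : Subgroup G} (hLS : L ⊔ S = ⊤)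
    (h1 : ∀ l ∈ L, ∀ w ∈ W, l * w * l⁻¹ ∈ W) (h2 : ∀ s ∈ S, ∀ w ∈ W, s * w * s⁻¹ ∈ W) : W.Normal := by
  refine normalizer_eq_top_iff.1 (eq_top_iff.2 (hLS.ge.trans (sup_le ?_ ?_)))
  · exact fun l hl => mem_normalizer_of_map_le (by rintro _ ⟨w, hw, rfl⟩; exact h1 l hl w hw)
  · exact fun s hs => mem_normalizer_of_map_le (by rintro _ ⟨w, hw, rfl⟩; exact h2 s hs w hw)

/-- A normal subgroup with an element of `S` outside the core contains `L`. -/
theorem Ctx.L_le_normal (h : Ctx p S g φ f Φ ψ) {N : Subgroup G} [N.Normal] {a : G} (haN : a ∈ N)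
    (haS : a ∈ S) (haO : a ∉ O) : L ≤ N := by
  have htop := h.pre.frame.sit.normal_sup_self (N := N) fun hle => haO (hle ⟨haN, haS⟩)
  refine (closure_le _).2 fun z hz => ?_
  obtain ⟨-, k, hk, e⟩ := hz
  obtain ⟨n, hn, s, hs, rfl⟩ := mem_sup_of_normal_left.1 (htop.symm ▸ mem_top z)
  set π := QuotientGroup.mk' N
  obtain ⟨m, hm⟩ := h.pre.frame.sit.pgroup ⟨s, hs⟩
  have e1 : π (n * s) ^ p ^ m = 1 := by
    rw [map_mul, show π n = 1 from (QuotientGroup.eq_one_iff _).2 hn, one_mul, ← map_pow,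
      show s ^ p ^ m = 1 from congrArg Subtype.val hm, map_one]
  have e2 : π (n * s) ^ k = 1 := by rw [← map_pow, e, map_one]
  refine (QuotientGroup.eq_one_iff _).1 (orderOf_eq_one_iff.1 ?_)
  exact Nat.eq_one_of_dvd_coprimes (((hp.out.coprime_iff_not_dvd).2 hk).pow_left m)
    (orderOf_dvd_of_pow_eq_one e1) (orderOf_dvd_of_pow_eq_one e2)

theorem Ctx.card_zc_lt (h : Ctx p S g φ f Φ ψ) : Nat.card ↥(zc S) < Nat.card ↥(vm S) := by
  rw [h.card_vm]
  exact lt_mul_of_one_lt_left Nat.card_pos h.one_lt_q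

theorem Ctx.vm_inf_qz (h : Ctx p S g φ f Φ ψ) {v : G} (hv : v ∈ vm S) (hq : v ∈ Q) : v ∈ C := by
  have := qz_normal (p := p) (G := G)
  have := vm_normal (S := S)
  set W := vm S ⊓ Q ⊔ C
  have hWn : W.Normal := inferInstance
  have hWV : W ≤ vm S := sup_le inf_le_left inf_le_left
  rcases h.layer.irreducible h.pre.frame h.lifts (fun k u hu => hWn.conj_mem u hu k) le_sup_right hWV with e | e
  · exact e.le (mem_sup_left ⟨hv, hq⟩)
  exfalso
  obtain ⟨z, hz, u, hu, huC⟩ := h.exists_moving (X := (⊤ : Subgroup G)) (by simp)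
  refine huC ?_
  have hle : W ≤ centralizer ({z} : Set G) := sup_le
    (fun w hw => mem_centralizer_singleton_iff.2 (qz_comm hw.2 hz).symm)
    (fun w hw => mem_centralizer_singleton_iff.2 (mem_center_iff.1 hw.2 z).symm)
  rw [commutatorElement_eq_one_iff_mul_comm.2 (mem_centralizer_singleton_iff.1 (hle (e.ge hu))).symm]
  exact one_mem _

theorem Ctx.comm_vm_S (h : Ctx p S g φ f Φ ψ) {v s : G} (hv : v ∈ vm S) (hs : s ∈ S) :
    ⁅s, v⁆ ∈ zc S :=
  (h.line _ (h.layer.comm_mem s hv)).2 (h.layer.comm_line h.pre.frame h.lifts hs hv)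

/-- An element of `V` is on the line, or centralised modulo `qz` only by the core. -/
theorem Ctx.nat (h : Ctx p S g φ f Φ ψ) {v s : G} (hv : v ∈ vm S) (hs : s ∈ S) (hvs : ⁅v, s⁆ ∈ Q) :
    v ∈ zc S ∨ s ∈ O :=
  or_iff_not_imp_right.2 fun hsO => h.fix_line hs hsO hv
    (h.vm_inf_qz (h.layer.comm_mem s hv) (comm_swap hvs))

theorem Ctx.comm_S_core (h : Ctx p S g φ f Φ ψ) {a b : G} (ha : a ∈ S) (hb : b ∈ S) : ⁅a, b⁆ ∈ O := by
  obtain ⟨c, hc⟩ := h.pre.frame.exists_coord ha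
  obtain ⟨d, hd⟩ := h.pre.frame.exists_coord hb
  refine (h.lifts.mem_core_iff h.pre.frame ?_).2 ?_
  · rw [commutatorElement_def]
    exact S.mul_mem (S.mul_mem (S.mul_mem ha hb) (S.inv_mem ha)) (S.inv_mem hb)
  · rw [map_commutatorElement, h.lifts.up_S a ha c hc, h.lifts.up_S b hb d hd,
      commutatorElement_eq_one_iff_mul_comm, up_mul, up_mul, add_comm]

/-- An element moved into the centre by `S` commutes with `hSub` modulo `qz`. -/
theorem Ctx.central (h : Ctx p S g φ f Φ ψ) {w : G} (hwO : w ∈ O) (hw : ∀ s ∈ S, ⁅w, s⁆ ∈ zc S)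
    {x : G} (hx : x ∈ hSub p f S) : ⁅w, x⁆ ∈ Q := by
  obtain ⟨hm, -, hL, -, hHH⟩ := h.hSub_facts
  have hHn := hSub_normal (p := p) (f := f) (S := S)
  have hVn := vm_normal (S := S)
  have hHS : hSub p f S ≤ S := hm.le.trans h.pre.frame.sit.core_le
  set W := C ⊔ closure {y | ∃ x ∈ hSub p f S, y = ⁅w, x⁆}
  have hWZ : W ≤ zc S := sup_le
    (fun c hc => h.pre.zc_eq.le ⟨hc.1, mem_centralizer_iff.2 fun s _ => mem_center_iff.1 hc.2 s⟩)
    ((closure_le _).2 (by rintro _ ⟨x, hx, rfl⟩; exact hw x (hHS hx)))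
  have hWL : ∀ l ∈ L, ∀ y ∈ W, l * y * l⁻¹ ∈ W := by
    intro l hl
    have : W ≤ W.comap (MulAut.conj l).toMonoidHom := sup_le
      (fun c hc => by
        show l * c * l⁻¹ ∈ W
        rw [mem_center_iff.1 hc.2 l, mul_inv_cancel_right]; exact mem_sup_left hc)
      ((closure_le _).2 (by
        rintro _ ⟨x, hx, rfl⟩
        show l * ⁅w, x⁆ * l⁻¹ ∈ W
        set m := ⁅l, w⁆ with hm'
        have hmH : m ∈ hSub p f S := hL w hwO l hl
        have hxH : l * x * l⁻¹ ∈ hSub p f S := hHn.conj_mem x hx l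
        have e : l * ⁅w, x⁆ * l⁻¹ = ⁅w, l * x * l⁻¹⁆ * ⁅m, l * x * l⁻¹⁆ := by
          have e1 : l * ⁅w, x⁆ * l⁻¹ = m * ⁅w, l * x * l⁻¹⁆ * m⁻¹ * ⁅m, l * x * l⁻¹⁆ := by
            simp [hm', commutatorElement_def, mul_assoc]
          rw [e1, h.pre.core_comm (hm.le hmH) (zc_le_vm (hw _ (hHS hxH))), mul_inv_cancel_right]
        rw [e]
        refine mul_mem (mem_sup_right (subset_closure ⟨_, hxH, rfl⟩)) (mem_sup_left ?_)
        refine h.vm_inf_qz ?_ (hHH _ hmH _ hxH)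
        have h1 : l * ⁅w, x⁆ * l⁻¹ ∈ vm S := hVn.conj_mem _ (zc_le_vm (hw x (hHS hx))) l
        rw [e] at h1
        simpa only [inv_mul_cancel_left] using mul_mem (inv_mem (zc_le_vm (hw _ (hHS hxH)))) h1))
    exact fun y hy => this hy
  have hWn : W.Normal := h.normal_of_L h.L_sup hWL fun s hs y hy => by
    rw [zc_comm (hWZ hy) hs, mul_inv_cancel_right]; exact hy
  rcases h.layer.irreducible h.pre.frame h.lifts (fun k u hu => hWn.conj_mem u hu k) le_sup_left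
    (hWZ.trans zc_le_vm) with e | e
  · exact h.center_le_qz (e.le (mem_sup_right (subset_closure ⟨x, hx, rfl⟩)))
  · exact absurd (card_le_of_le (e.ge.trans hWZ)) (not_le.2 h.card_zc_lt)

/-! ### A normal subgroup `W` of `S` in the core with `[W, O] ≤ Z` -/

variable {W : Subgroup G}

/-- What is assumed of `W`. -/
structure Low (p : ℕ) (S W : Subgroup G) : Prop where
  le : W ≤ Cfsg.pCore p G
  norm : ∀ s ∈ S, ∀ w ∈ W, s * w * s⁻¹ ∈ W
  comm : ∀ w ∈ W, ∀ o ∈ Cfsg.pCore p G, ⁅w, o⁆ ∈ zc S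

omit [Finite G] hp in
theorem Low.conjOf_le (hW : Low p S W) {x : G} (hx : x ∈ conjOf W) : x ∈ O := by
  obtain ⟨w, hw, k, rfl⟩ := hx
  exact (FittingCores.pCore_normal (G := G) p).conj_mem w (hW.le hw) k

omit [Finite G] hp in
theorem conjOf_conj {x : G} (hx : x ∈ conjOf W) (k : G) : k * x * k⁻¹ ∈ conjOf W := by
  obtain ⟨w, hw, k', rfl⟩ := hx
  exact ⟨w, hw, k * k', by simp [mul_assoc]⟩

omit hp in
theorem closure_conjOf_normal : (closure (conjOf W)).Normal := by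
  refine normalizer_eq_top_iff.1 (eq_top_iff.2 fun x _ => mem_normalizer_of_map_le ?_)
  rw [MonoidHom.map_closure, closure_le]
  rintro _ ⟨y, hy, rfl⟩
  exact subset_closure (conjOf_conj hy x)

omit [Finite G] hp in
theorem Low.comm_conj (hW : Low p S W) {x o : G} (hx : x ∈ conjOf W) (ho : o ∈ O) : ⁅x, o⁆ ∈ vm S := by
  have hVn := vm_normal (S := S)
  have hOn := FittingCores.pCore_normal (G := G) p
  obtain ⟨w, hw, k, rfl⟩ := hx
  rw [show ⁅k * w * k⁻¹, o⁆ = k * ⁅w, k⁻¹ * o * k⁻¹⁻¹⁆ * k⁻¹ by simp [commutatorElement_def, mul_assoc]]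
  exact hVn.conj_mem _ (zc_le_vm (hW.comm w hw _ (hOn.conj_mem o ho k⁻¹))) k

theorem Low.comm_val (h : Ctx p S g φ f Φ ψ) (hW : Low p S W) (hq : ∀ w ∈ W, ∀ o ∈ O, ⁅w, o⁆ ∈ Q)
    {x o : G} (hx : x ∈ conjOf W) (ho : o ∈ O) : ∃ w ∈ W, ∃ o' ∈ O, ⁅x, o⁆ = ⁅w, o'⁆ := by
  have hOn := FittingCores.pCore_normal (G := G) p
  obtain ⟨w, hw, k, rfl⟩ := hx
  have ho' := hOn.conj_mem o ho k⁻¹
  refine ⟨w, hw, _, ho', ?_⟩
  have hc : ⁅w, k⁻¹ * o * k⁻¹⁻¹⁆ ∈ C :=
    h.vm_inf_qz (zc_le_vm (hW.comm w hw _ ho')) (hq w hw _ ho')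
  rw [show ⁅k * w * k⁻¹, o⁆ = k * ⁅w, k⁻¹ * o * k⁻¹⁻¹⁆ * k⁻¹ by simp [commutatorElement_def, mul_assoc],
    mem_center_iff.1 hc.2 k, mul_inv_cancel_right]

/-- `V W` is normal if the conjugates of `W` stay in it. -/
theorem Ctx.normal_of_conjOf (hW : ∀ x ∈ conjOf W, x ∈ vm S ⊔ W) : (vm S ⊔ W).Normal := by
  have := vm_normal (S := S)
  have := closure_conjOf_normal (W := W)
  have e : vm S ⊔ W = vm S ⊔ closure (conjOf W) := le_antisymm
    (sup_le_sup_left (fun w hw => Subgroup.subset_closure (mem_conjOf hw)) _)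
    (sup_le le_sup_left ((closure_le _).2 hW))
  rw [e]; infer_instance

omit [Finite G] hp in
theorem conjOf_le_of_normal (hn : (vm S ⊔ W).Normal) {x : G} (hx : x ∈ conjOf W) : x ∈ vm S ⊔ W := by
  obtain ⟨w, hw, k, rfl⟩ := hx
  exact hn.conj_mem w (mem_sup_right hw) k

omit [Finite G] hp in
theorem Low.sup_norm (hW : Low p S W) {s : G} (hs : s ∈ S) {y : G} (hy : y ∈ vm S ⊔ W) :
    s * y * s⁻¹ ∈ vm S ⊔ W := by
  have hVn := vm_normal (S := S)
  have : vm S ⊔ W ≤ (vm S ⊔ W).comap (MulAut.conj s).toMonoidHom := sup_le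
    (fun v hv => mem_sup_left (hVn.conj_mem v hv s)) (fun w hw => mem_sup_right (hW.norm s hs w hw))
  exact this hy

/-- A set fixed modulo `V` by `L` together with `W`. -/
theorem Low.normal_of_L_fix (h : Ctx p S g φ f Φ ψ) (hW : Low p S W)
    (hfix : ∀ l ∈ L, ∀ w ∈ W, ⁅l, w⁆ ∈ vm S) : (vm S ⊔ W).Normal := by
  have hVn := vm_normal (S := S)
  refine h.normal_of_L h.L_sup (fun l hl y hy => ?_) fun s hs y hy => hW.sup_norm hs hy
  have : vm S ⊔ W ≤ (vm S ⊔ W).comap (MulAut.conj l).toMonoidHom := sup_le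
    (fun v hv => mem_sup_left (hVn.conj_mem v hv l)) (fun w hw => by
      show l * w * l⁻¹ ∈ vm S ⊔ W
      rw [show l * w * l⁻¹ = ⁅l, w⁆ * w by simp [commutatorElement_def, mul_assoc]]
      exact mul_mem (mem_sup_left (hfix l hl w hw)) (mem_sup_right hw))
  exact this hy

theorem Low.normal_of_fixed (h : Ctx p S g φ f Φ ψ) (hW : Low p S W) {a : G} (haS : a ∈ S) (haO : a ∉ O)
    (hfix : ∀ x ∈ conjOf W, ⁅x, a⁆ ∈ vm S) : (vm S ⊔ W).Normal := by
  have hVn := vm_normal (S := S)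
  have hUn := closure_conjOf_normal (W := W)
  set U := closure (conjOf W)
  have hN : (zone (vm S) U).Normal := ⟨fun n hn k => zone_conj (fun u hu => by
    simpa using hUn.conj_mem u hu k⁻¹) hn⟩
  have haN : a ∈ zone (vm S) U := mem_zone.2 fun u hu => by
    have : U ≤ commSet (vm S) a := (closure_le _).2 hfix
    exact comm_swap (this hu)
  exact hW.normal_of_L_fix h fun l hl w hw =>
    mem_zone.1 (h.L_le_normal haN haS haO hl) w (subset_closure (mem_conjOf hw))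

theorem Low.normal_of_le (h : Ctx p S g φ f Φ ψ) (hW : Low p S W) (hle : W ≤ vm S ⊔ Q) :
    (vm S ⊔ W).Normal := by
  have hVn := vm_normal (S := S)
  refine hW.normal_of_L_fix h fun l hl w hw => ?_
  obtain ⟨v, hv, q, hq, rfl⟩ := mem_sup_of_normal_left.1 (hle hw)
  rw [show ⁅l, v * q⁆ = ⁅l, v⁆ * (v * ⁅l, q⁆ * v⁻¹) by simp [commutatorElement_def, mul_assoc],
    commutatorElement_eq_one_iff_mul_comm.2 (qz_comm hq hl), mul_one, mul_inv_cancel, mul_one]
  rw [commutatorElement_def]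
  exact mul_mem (hVn.conj_mem v hv l) (inv_mem hv)

/-- An element outside the core centralising the commutators and powers of the core. -/
theorem Ctx.powComm_le_qz (h : Ctx p S g φ f Φ ψ) {a : G} (haS : a ∈ S) (haO : a ∉ O)
    (hc : ∀ x ∈ powComm p O, x * a = a * x) : powComm p O ≤ Q := by
  have hOn := FittingCores.pCore_normal (G := G) p
  have := powComm_normal (p := p) O
  have hN : (centralizer (powComm p O : Set G)).Normal := inferInstance
  have hL := h.L_le_normal (N := centralizer (powComm p O : Set G)) (mem_centralizer_iff.2 hc) haS haO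
  exact le_inf (powComm_le
    (fun a ha b hb => by
      rw [commutatorElement_def]
      exact mul_mem (mul_mem (mul_mem ha hb) (inv_mem ha)) (inv_mem hb))
    (fun a ha => pow_mem ha p)) (le_centralizer_iff.1 hL)

end Cfsg.Agent.PushUp3
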