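/-
Pushing up with a centrally large core, part 7: the collapse, the quadratic action for `p = 2`, and the
weight argument for `p ≥ 5`.
-/
import Cfsg.Agent.Lib.PushUp3.Gmod

set_option autoImplicit false

namespace Cfsg.Agent.PushUp3

open Subgroup PushUp PushUp2 Matrix
open scoped commutatorElement Pointwise

variable {G : Type*} [Group G] [Finite G] {p : ℕ} [hp : Fact p.Prime] {S : Subgroup G} {g : G}
  {F : Type} [Field F] {φ : G →* Matrix.ProjectiveSpecialLinearGroup (Fin 2) F}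
  {Φ : G →* Matrix.SpecialLinearGroup (Fin 2) F} {ψ : G → Fin 2 → F} {f : ℕ} {W : Subgroup G}

local notation "O" => Cfsg.pCore p G
local notation "L" => pL p (⊤ : Subgroup G)
local notation "Q" => qz p G
local notation "C" => vm S ⊓ center G
local notation "M" => Matrix.SpecialLinearGroup (Fin 2) F

omit [Finite G] hp in
theorem dg_central (t : F) (ht : t ≠ 0) (htt : t * t = 1) (m : M) : dg F t ht * m = m * dg F t ht := by
  have e : t⁻¹ = t := inv_eq_of_mul_eq_one_right htt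
  apply Subtype.ext
  rw [Matrix.SpecialLinearGroup.coe_mul, Matrix.SpecialLinearGroup.coe_mul]
  show !![t, 0; 0, t⁻¹] * (m : Matrix (Fin 2) (Fin 2) F) = (m : Matrix (Fin 2) (Fin 2) F) * !![t, 0; 0, t⁻¹]
  rw [e]
  ext i j
  fin_cases i <;> fin_cases j <;> simp [Matrix.mul_apply, Fin.sum_univ_two, mul_comm]

omit [Finite G] hp in
theorem dg_mulVec (t : F) (ht : t ≠ 0) (v : Fin 2 → F) :
    ((dg F t ht : M) : Matrix (Fin 2) (Fin 2) F) *ᵥ v = ![t * v 0, t⁻¹ * v 1] := by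
  show !![t, 0; 0, t⁻¹] *ᵥ v = _
  ext i; fin_cases i <;> simp [Matrix.mulVec, dotProduct, Fin.sum_univ_two]

/-- The kernel of `Φ` lies in `L O`. -/
theorem Ctx.ker_le (h : Ctx p S g φ f Φ ψ) : Φ.ker ≤ L ⊔ O := fun c hc => by
  refine PushUp2.mem_of_split (p := p) (fun d hd ⟨n, hn⟩ => ?_) (fun d hd hd' => ?_)
  · exact mem_sup_right (h.lifts.mem_core_of_pow h.pre.frame (zpowers_le.2 hc hd) hn)
  · exact mem_sup_left (mem_pL (mem_top d) hd')

/-- An element of `L` with image the scalar `-1`. -/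
theorem Ctx.exists_neg (h : Ctx p S g φ f Φ ψ) (hodd : p ≠ 2) :
    ∃ t ∈ L, PE p t ∧ ∀ v ∈ vm S, t * v * t⁻¹ * v ∈ C := by
  have h1 : (-1 : F) ≠ 0 := by simp
  obtain ⟨x, hx⟩ := h.lifts.surjective h.pre.frame (dg F (-1) h1)
  obtain ⟨n, m, hm, e⟩ := Nat.exists_eq_pow_mul_and_not_dvd (orderOf_pos x).ne' p hp.out.ne_one
  have hpe : PE p (x ^ p ^ n) := ⟨m, hm, by rw [← pow_mul, ← e, pow_orderOf_eq_one]⟩
  have hsq : dg F (-1) h1 ^ 2 = 1 := by
    apply Subtype.ext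
    rw [sq, Matrix.SpecialLinearGroup.coe_mul, Matrix.SpecialLinearGroup.coe_one]
    show !![(-1 : F), 0; 0, (-1)⁻¹] * !![(-1 : F), 0; 0, (-1)⁻¹] = 1
    ext i j
    fin_cases i <;> fin_cases j <;> simp [Matrix.mul_apply, Fin.sum_univ_two]
  have hΦ : Φ (x ^ p ^ n) = dg F (-1) h1 := by
    obtain ⟨k, hk⟩ := ((hp.out.odd_of_ne_two hodd).pow : Odd (p ^ n))
    rw [map_pow, hx, hk, pow_succ, pow_mul, hsq, one_pow, one_mul]
  refine ⟨_, mem_pL (mem_top _) hpe, hpe, fun v hv => ?_⟩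
  have hv' := h.layer.normalU.conj_mem v hv (x ^ p ^ n)
  refine (h.layer.ker _ (mul_mem hv' hv)).1 ?_
  rw [h.layer.map_mul _ hv' _ hv, h.layer.conj _ v hv, hΦ, dg_mulVec]
  ext i; fin_cases i <;> simp

/-- An element with values in `V` on `L`, fixed by an element inducing `-1`. -/
theorem Ctx.neg_mem_qz (h : Ctx p S g φ f Φ ψ) (hodd : p ≠ 2) (hP : powComm p O ≤ Q) {t : G} (htL : t ∈ L)
    (htC : ∀ v ∈ vm S, t * v * t⁻¹ * v ∈ C) (htΦ : ∀ y, Φ t * y = y * Φ t) {o : G} (ho : o ∈ O)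
    (hV : ∀ l ∈ L, ⁅l, o⁆ ∈ vm S) (hfix : t * o = o * t) : o ∈ Q := by
  have hVn := vm_normal (S := S)
  have hCn : (C : Subgroup G).Normal := inferInstance
  have hLn := pL_normal (G := G) (p := p)
  refine qz_mem_of_comm ho fun l hl => h.center_le_qz ?_
  -- the kernel does nothing
  have hker : ∀ k ∈ Φ.ker ⊓ L, ⁅k, o⁆ ∈ C := by
    intro k hk
    let H : Subgroup G := (Φ.ker ⊓ L) ⊓ commSet C o
    refine mem_commSet.1 (PushUp2.mem_of_split (p := p) (H := H) (fun d hd ⟨n, hn⟩ => ?_) (fun d hd hd' => ?_)).2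
    · have hdk : d ∈ Φ.ker ⊓ L := zpowers_le.2 hk hd
      refine ⟨hdk, mem_commSet.2 ?_⟩
      have hdO := h.lifts.mem_core_of_pow h.pre.frame hdk.1 hn
      exact h.vm_inf_qz (hV d hdk.2) (hP (comm_mem_powComm hdO ho))
    · have hdk : d ∈ Φ.ker ⊓ L := zpowers_le.2 hk hd
      refine ⟨hdk, mem_commSet.2 ?_⟩
      have hpg : IsPGroup p ↥(vm S) := h.pre.frame.sit.pgroup.to_le h.pre.vm_le
      refine comm_mem_of_fixed hpg hd' (hV d hdk.2) ?_
      refine (h.layer.ker _ (h.layer.comm_mem d (hV d hdk.2))).1 ?_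
      rw [h.layer.map_comm d (hV d hdk.2), MonoidHom.mem_ker.1 hdk.1]
      simp
  set v := ⁅l, o⁆ with hv
  have hvV : v ∈ vm S := hV l hl
  set k := t * l * t⁻¹ * l⁻¹ with hk
  have hkk : k ∈ Φ.ker ⊓ L := mem_inf.2 ⟨MonoidHom.mem_ker.2 (by
    rw [hk, map_mul, map_mul, map_mul, map_inv, map_inv, htΦ, mul_inv_cancel_right,
      mul_inv_cancel]), mul_mem (mul_mem (mul_mem htL hl) (inv_mem htL)) (inv_mem hl)⟩
  have e1 : t * v * t⁻¹ = k * v * k⁻¹ * ⁅k, o⁆ := by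
    have e : t * v * t⁻¹ = ⁅t * l * t⁻¹, t * o * t⁻¹⁆ := by simp [hv, commutatorElement_def, mul_assoc]
    rw [e, hfix, mul_inv_cancel_right, show t * l * t⁻¹ = k * l by rw [hk]; group]
    simp [hv, commutatorElement_def, mul_assoc]
  set π := QuotientGroup.mk' C
  have hz : ∀ {c : G}, c ∈ C → π c = 1 := fun hc => (QuotientGroup.eq_one_iff _).2 hc
  have e2 : π (t * v * t⁻¹) = π v := by
    rw [e1, map_mul, hz (hker k hkk), mul_one]
    refine (QuotientGroup.eq_iff_div_mem).2 ?_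
    rw [div_eq_mul_inv, show k * v * k⁻¹ * v⁻¹ = ⁅k, v⁆ by rw [commutatorElement_def]]
    refine (h.layer.ker _ (h.layer.comm_mem k hvV)).1 ?_
    rw [h.layer.map_comm k hvV, MonoidHom.mem_ker.1 hkk.1]
    simp
  have e3 : π v ^ 2 = 1 := by
    have := hz (htC v hvV)
    rw [map_mul, e2] at this
    rwa [sq]
  have e4 : π v ^ p = 1 := by rw [← map_pow, h.pre.vm_pow hvV, map_one]
  refine (QuotientGroup.eq_one_iff _).1 (orderOf_eq_one_iff.1 ?_)
  exact Nat.eq_one_of_dvd_coprimes ((Nat.coprime_primes Nat.prime_two hp.out).2 (Ne.symm hodd))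
    (orderOf_dvd_of_pow_eq_one e3) (orderOf_dvd_of_pow_eq_one e4)

/-- The collapse. -/
theorem Low.collapse (h : Ctx p S g φ f Φ ψ) (hW : Low p S W) (hn : (vm S ⊔ W).Normal)
    (hWS : ∀ w ∈ W, ∀ s ∈ S, ⁅w, s⁆ ∈ zc S)
    (hcase : (∀ x ∈ hSub p f S, ∀ w ∈ W, w * x = x * w) ∨ ∀ w ∈ W, ∀ o ∈ O, ⁅w, o⁆ ∈ Q)
    {a : G} (haS : a ∈ S) (haO : a ∉ O)
    (ha : ∀ o ∈ O, (∀ w ∈ W, w * o = o * w) → ⁅o, a⁆ ∈ vm S) :
    powComm p O ≤ Q ∧ (p ≠ 2 → O ≤ vm S ⊔ Q) := by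
  have hVn := vm_normal (S := S)
  have hOn := FittingCores.pCore_normal (G := G) p
  have hQn := qz_normal (p := p) (G := G)
  have hLn := pL_normal (G := G) (p := p)
  set T := O ⊓ centralizer ((vm S ⊔ W : Subgroup G) : Set G)
  have hTn : T.Normal := inferInstance
  have memT : ∀ {o : G}, o ∈ O → (∀ w ∈ W, w * o = o * w) → o ∈ T := fun {o} ho hc => ⟨ho, by
    have : vm S ⊔ W ≤ centralizer ({o} : Set G) := sup_le
      (fun v hv => mem_centralizer_singleton_iff.2 (h.pre.core_comm ho hv).symm)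
      (fun w hw => mem_centralizer_singleton_iff.2 (hc w hw))
    exact mem_centralizer_iff.2 fun y hy => mem_centralizer_singleton_iff.1 (this hy)⟩
  -- `L` moves `T` into `V`
  have hT : ∀ o ∈ T, ∀ l ∈ L, ⁅l, o⁆ ∈ vm S := by
    have hNn : (zone (vm S) T).Normal := ⟨fun n hn k => zone_conj (fun u hu => by
      simpa using hTn.conj_mem u hu k⁻¹) hn⟩
    have haN : a ∈ zone (vm S) T := mem_zone.2 fun o ho =>
      comm_swap (ha o ho.1 fun w hw => mem_centralizer_iff.1 ho.2 w (mem_sup_right hw))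
    exact fun o ho l hl => mem_zone.1 (h.L_le_normal haN haS haO hl) o ho
  have hLO : ∀ o ∈ O, ∀ l ∈ L, ⁅l, o⁆ ∈ O := fun o ho l _ => by
    rw [commutatorElement_def]; exact mul_mem (hOn.conj_mem o ho l) (inv_mem ho)
  -- the commutators with `L` lie in `T`
  have hLT : ∀ o ∈ O, ∀ l ∈ L, ⁅l, o⁆ ∈ T := by
    intro o ho l hl
    refine memT (hLO o ho l hl) fun w hw => ?_
    rcases hcase with hc | hc
    · exact hc _ (h.hSub_facts.2.2.1 o ho l hl) w hw
    have hN : (zone (vm S) (vm S ⊔ W)).Normal := ⟨fun n hn' k => zone_conj (fun u hu => by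
      simpa using hn.conj_mem u hu k⁻¹) hn'⟩
    have haN : a ∈ zone (vm S) (vm S ⊔ W) := mem_zone.2 fun y hy => by
      have : vm S ⊔ W ≤ commSet (vm S) a := sup_le
        (fun v hv => mem_commSet.2 (comm_swap (zc_le_vm (h.comm_vm_S hv haS))))
        (fun w hw => mem_commSet.2 (zc_le_vm (hWS w hw a haS)))
      exact comm_swap (mem_commSet.1 (this hy))
    set v := ⁅l⁻¹, w⁆ with hv'
    have hv : v ∈ vm S := mem_zone.1 (h.L_le_normal haN haS haO (inv_mem hl)) w (mem_sup_right hw)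
    have hcen : ∀ o ∈ O, ∀ y : G, ⁅w, o⁆ * y = y * ⁅w, o⁆ := fun o ho y =>
      (mem_center_iff.1 (h.vm_inf_qz (zc_le_vm (hWS w hw o (h.pre.frame.sit.core_le ho))) (hc w hw o ho)).2 y).symm
    have e1 : ⁅w, l * o * l⁻¹⁆ = ⁅w, o⁆ := by
      have hwo : ⁅w, o⁆ ∈ vm S := zc_le_vm (hWS w hw o (h.pre.frame.sit.core_le ho))
      rw [show ⁅w, l * o * l⁻¹⁆ = l * ⁅v * w, o⁆ * l⁻¹ by simp [hv', commutatorElement_def, mul_assoc],
        show ⁅v * w, o⁆ = v * ⁅w, o⁆ * v⁻¹ * ⁅v, o⁆ by simp [commutatorElement_def, mul_assoc],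
        commutatorElement_eq_one_iff_mul_comm.2 (h.pre.core_comm ho hv).symm, mul_one,
        (hcen o ho v).symm, mul_inv_cancel_right, (hcen o ho l).symm, mul_inv_cancel_right]
    have e2 : ⁅w, ⁅l, o⁆ * o⁆ = ⁅w, ⁅l, o⁆⁆ * ⁅w, o⁆ := by
      rw [show ⁅w, ⁅l, o⁆ * o⁆ = ⁅w, ⁅l, o⁆⁆ * (⁅l, o⁆ * ⁅w, o⁆ * ⁅l, o⁆⁻¹) by
        simp [commutatorElement_def, mul_assoc], (hcen o ho _).symm, mul_inv_cancel_right]
    rw [show ⁅l, o⁆ * o = l * o * l⁻¹ by simp [commutatorElement_def, mul_assoc], e1] at e2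
    exact commutatorElement_eq_one_iff_mul_comm.1 (mul_eq_right.1 e2.symm)
  -- hence in `V`
  have hLV : ∀ o ∈ O, ∀ l ∈ L, ⁅l, o⁆ ∈ vm S := fun o ho =>
    comm_mem_of_fixed_pL (N := vm S) (PBasic.pCore_isPGroup p G) (fun z hz => hLO o ho z hz)
      (fun z hz => hT _ (hLT o ho z hz) z hz)
  have hP : powComm p O ≤ Q := by
    refine le_inf (powComm_le (fun a ha b hb => by
      rw [commutatorElement_def]; exact mul_mem (mul_mem (mul_mem ha hb) (inv_mem ha)) (inv_mem hb))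
      (fun a ha => pow_mem ha p)) (le_centralizer_iff.1 fun l hl => ?_)
    let χ : ↥O →* ↥(vm S) := MonoidHom.mk' (fun o => ⟨⁅l, (o : G)⁆, hLV o o.2 l hl⟩) fun a b => Subtype.ext (by
      show ⁅l, (a : G) * b⁆ = ⁅l, (a : G)⁆ * ⁅l, (b : G)⁆
      rw [show ⁅l, (a : G) * b⁆ = ⁅l, (a : G)⁆ * ((a : G) * ⁅l, (b : G)⁆ * (a : G)⁻¹) by
        simp [commutatorElement_def, mul_assoc], h.pre.core_comm a.2 (hLV b b.2 l hl), mul_inv_cancel_right])
    refine mem_centralizer_iff.2 fun y hy => ?_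
    have hle : powComm p O ≤ centralizer ({l} : Set G) := by
      refine powComm_le (fun a ha b hb => ?_) (fun a ha => ?_)
      · have e : χ ⁅(⟨a, ha⟩ : ↥O), ⟨b, hb⟩⁆ = 1 := by
          rw [map_commutatorElement, commutatorElement_eq_one_iff_mul_comm]
          exact Subtype.ext (h.pre.fixGen.comm h.pre.frame.sit (χ ⟨a, ha⟩).2 (χ ⟨b, hb⟩).2)
        have e' : ⁅l, ⁅a, b⁆⁆ = 1 := congrArg Subtype.val e
        exact mem_centralizer_singleton_iff.2 (commutatorElement_eq_one_iff_mul_comm.1 e').symm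
      · have e : χ ((⟨a, ha⟩ : ↥O) ^ p) = 1 := by
          rw [map_pow]; exact Subtype.ext (h.pre.vm_pow (χ ⟨a, ha⟩).2)
        have e' : ⁅l, a ^ p⁆ = 1 := congrArg Subtype.val e
        exact mem_centralizer_singleton_iff.2 (commutatorElement_eq_one_iff_mul_comm.1 e').symm
    exact mem_centralizer_singleton_iff.1 (hle hy)
  refine ⟨hP, fun hodd o ho => ?_⟩
  obtain ⟨t, htL, htpe, htC⟩ := h.exists_neg hodd
  have htΦ : ∀ y, Φ t * y = y * Φ t := by
    intro y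
    have e : ∀ v : Fin 2 → F, ((Φ t : M) : Matrix (Fin 2) (Fin 2) F) *ᵥ v = -v := fun v => by
      obtain ⟨u, hu, rfl⟩ := h.layer.surj v
      have := (h.layer.ker _ (mul_mem (hVn.conj_mem u hu t) hu)).2 (htC u hu)
      rw [h.layer.map_mul _ (hVn.conj_mem u hu t) _ hu, h.layer.conj t u hu] at this
      exact eq_neg_of_add_eq_zero_left this
    apply Subtype.ext
    rw [Matrix.SpecialLinearGroup.coe_mul, Matrix.SpecialLinearGroup.coe_mul]
    apply Matrix.ext_iff_mulVec.2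
    intro v
    rw [← Matrix.mulVec_mulVec, ← Matrix.mulVec_mulVec, e, e, Matrix.mulVec_neg]
  set m := ⁅t, o⁆ with hm
  have hmV : m ∈ vm S := hLV o ho t htL
  obtain ⟨j, hj⟩ := hp.out.odd_of_ne_two hodd
  set u := m ^ (j + 1) with hu
  have huV : u ∈ vm S := pow_mem hmV _
  have huu : u * u = m := by
    rw [hu, ← pow_add, show j + 1 + (j + 1) = p + 1 by omega, pow_succ, h.pre.vm_pow hmV, one_mul]
  set o' := o * u with ho'
  have ho'O : o' ∈ O := mul_mem ho (h.pre.vm_le_core huV)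
  have hC' : ⁅t, o'⁆ ∈ C := by
    set π := QuotientGroup.mk' C
    refine (QuotientGroup.eq_one_iff _).1 ?_
    change π ⁅t, o'⁆ = 1
    have hz : π (t * u * t⁻¹ * u) = 1 := (QuotientGroup.eq_one_iff _).2 (htC u huV)
    have hcu : o * ⁅t, u⁆ = ⁅t, u⁆ * o := h.pre.core_comm ho (h.layer.comm_mem t huV)
    rw [ho', show ⁅t, o * u⁆ = m * (o * ⁅t, u⁆ * o⁻¹) by simp [hm, commutatorElement_def, mul_assoc], hcu,
      mul_inv_cancel_right, ← huu, map_mul, map_mul, commutatorElement_def, map_mul, map_inv]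
    have e2 : π (t * u * t⁻¹) = (π u)⁻¹ := by
      rw [map_mul] at hz
      exact eq_inv_of_mul_eq_one_left hz
    rw [e2]
    group
  have hfix' : t * o' = o' * t := by
    refine commutatorElement_eq_one_iff_mul_comm.1 (mem_bot.1 ?_)
    refine comm_mem_of_fixed (N := (⊥ : Subgroup G)) (PBasic.pCore_isPGroup p G) htpe (hLO o' ho'O t htL) ?_
    exact mem_bot.2 (commutatorElement_eq_one_iff_mul_comm.2 (mem_center_iff.1 hC'.2 t))
  have := h.neg_mem_qz hodd hP htL htC htΦ ho'O (fun l hl => hLV o' ho'O l hl) hfix'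
  rw [show o = o' * u⁻¹ by rw [ho', mul_inv_cancel_right]]
  exact mul_mem (mem_sup_right this) (mem_sup_left (inv_mem huV))

/-- The elements with vanishing lower left entry. -/
def borel (Φ : G →* M) : Subgroup G where
  carrier := {k | ((Φ k : M) : Matrix (Fin 2) (Fin 2) F) 1 0 = 0}
  one_mem' := by simp
  mul_mem' := fun {a b} ha hb => by
    show ((Φ (a * b) : M) : Matrix (Fin 2) (Fin 2) F) 1 0 = 0
    rw [map_mul, Matrix.SpecialLinearGroup.coe_mul]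
    simp only [Matrix.mul_apply, Fin.sum_univ_two]
    rw [show ((Φ a : M) : Matrix (Fin 2) (Fin 2) F) 1 0 = 0 from ha,
      show ((Φ b : M) : Matrix (Fin 2) (Fin 2) F) 1 0 = 0 from hb]
    simp
  inv_mem' := fun {a} ha => by
    show ((Φ a⁻¹ : M) : Matrix (Fin 2) (Fin 2) F) 1 0 = 0
    rw [map_inv, Matrix.SpecialLinearGroup.coe_inv, Matrix.adjugate_fin_two]
    simpa using ha

omit hp in
theorem mem_borel {k : G} : k ∈ borel Φ ↔ ((Φ k : M) : Matrix (Fin 2) (Fin 2) F) 1 0 = 0 := Iff.rfl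

/-- The lower left entry of a conjugate of an upper unitriangular element. -/
theorem conj_up_entry (m : M) (c : F) :
    ((m * up c * m⁻¹ : M) : Matrix (Fin 2) (Fin 2) F) 1 0 =
      -(c * ((m : Matrix (Fin 2) (Fin 2) F) 1 0) ^ 2) := by
  rw [Matrix.SpecialLinearGroup.coe_mul, Matrix.SpecialLinearGroup.coe_mul, Matrix.SpecialLinearGroup.coe_inv,
    Matrix.adjugate_fin_two, coe_up]
  simp [Matrix.mul_apply, Fin.sum_univ_two]
  ring

theorem Ctx.borel_ne_top (h : Ctx p S g φ f Φ ψ) : borel Φ ≠ ⊤ := fun htop => by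
  obtain ⟨k, hk⟩ := h.lifts.surjective h.pre.frame (low 1)
  have := mem_borel.1 (htop.ge (mem_top k))
  rw [hk, coe_low] at this
  simp at this

theorem Ctx.S_le_borel (h : Ctx p S g φ f Φ ψ) : S ≤ borel Φ := fun s hs => by
  obtain ⟨c, hc⟩ := h.pre.frame.exists_coord hs
  show _ = _
  rw [h.lifts.up_S s hs c hc, coe_up]
  simp

/-- `borel Φ` contains every proper subgroup containing `S`. -/
theorem Ctx.le_borel (h : Ctx p S g φ f Φ ψ) {H : Subgroup G} (hS : S ≤ H) (hH : H ≠ ⊤) :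
    H ≤ borel Φ := by
  intro m hm
  by_contra hmb
  set γ := ((Φ m : M) : Matrix (Fin 2) (Fin 2) F) 1 0 with hγ
  have hγ0 : γ ≠ 0 := fun e => hmb e
  obtain ⟨k, hk⟩ := h.lifts.surjective h.pre.frame weyl
  obtain ⟨s, hs, hsc⟩ := h.pre.frame.exists_elem (-((Φ m : M) : Matrix (Fin 2) (Fin 2) F) 0 0 / γ)
  have hb : k⁻¹ * (s * m) ∈ borel Φ := by
    show _ = _
    rw [map_mul, map_inv, map_mul, hk, h.lifts.up_S s hs _ hsc, Matrix.SpecialLinearGroup.coe_mul,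
      Matrix.SpecialLinearGroup.coe_mul, Matrix.SpecialLinearGroup.coe_inv, Matrix.adjugate_fin_two, coe_up,
      coe_weyl]
    simp [Matrix.mul_apply, Matrix.vecMul, dotProduct, Fin.sum_univ_two]
    rw [← hγ]
    field_simp
    ring
  have hkm : k ∈ H ⊔ borel Φ := by
    rw [show k = s * m * (k⁻¹ * (s * m))⁻¹ by group]
    exact mul_mem (mem_sup_left (mul_mem (hS hs) hm)) (mem_sup_right (inv_mem hb))
  refine h.pre.frame.join H (borel Φ) hS h.S_le_borel hH h.borel_ne_top ?_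
  set J := H ⊔ borel Φ
  have hker : Φ.ker ≤ J := fun x hx => mem_sup_right (by
    show _ = _
    rw [MonoidHom.mem_ker.1 hx]
    simp)
  have hlow : ∀ y, low y ∈ J.map Φ := fun y => by
    obtain ⟨x, hx, hxc⟩ := h.pre.frame.exists_elem (-y)
    refine ⟨k * x * k⁻¹, mul_mem (mul_mem hkm (mem_sup_left (hS hx))) (inv_mem hkm), ?_⟩
    rw [map_mul, map_mul, map_inv, hk, h.lifts.up_S x hx _ hxc, weyl_up, neg_neg]
  obtain ⟨x, hx, hxc⟩ := h.pre.frame.exists_elem 1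
  have htop : J.map Φ = ⊤ := eq_top_of_mem hlow one_ne_zero ⟨x, mem_sup_left (hS hx), h.lifts.up_S x hx _ hxc⟩
  refine eq_top_iff.2 fun y _ => ?_
  obtain ⟨z, hz, e⟩ := htop.ge (mem_top (Φ y))
  rw [show y = z * (z⁻¹ * y) by group]
  exact mul_mem hz (hker (by rw [MonoidHom.mem_ker, map_mul, map_inv, e, inv_mul_cancel]))

/-- A partner and its conjugate by an element outside the core are opposite. -/
theorem Ctx.opp_conj (h : Ctx p S g φ f Φ ψ) {A A' : Subgroup G} (hA : A ≤ S) (hA' : Off p f A')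
    (hop : Opp p A A') {a : G} (ha : a ∈ S) (haO : a ∉ O) :
    Opp p A' (A'.map (MulAut.conj a).toMonoidHom) := by
  by_contra hne
  have hOn := FittingCores.pCore_normal (G := G) p
  obtain ⟨x, hx⟩ := h.off_sup hA'
  set X := A' ⊔ A'.map (MulAut.conj a).toMonoidHom ⊔ O
  have h1 : S.map (MulAut.conj x).toMonoidHom ≤ X := hx ▸ sup_le_sup_right le_sup_left _
  have h2 : S.map (MulAut.conj (a * x)).toMonoidHom ≤ X := by
    have : (A' ⊔ O).map (MulAut.conj a).toMonoidHom ≤ X := by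
      rw [Subgroup.map_sup, map_normal_conj (O) a]
      exact sup_le_sup_right le_sup_right _
    rw [hx, Subgroup.map_map] at this
    refine le_trans (le_of_eq ?_) this
    congr 1
    ext s
    simp [mul_assoc]
  have hb : X.comap (MulAut.conj x).toMonoidHom ≤ borel Φ := h.le_borel (map_le_iff_le_comap.1 h1) fun e =>
    hne (eq_top_iff.2 fun y _ => by
      have := e.ge (mem_top (x⁻¹ * y * x))
      simpa [X, mem_comap, mul_assoc] using this)
  obtain ⟨c, hc⟩ := h.pre.frame.exists_coord ha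
  have hc0 : c ≠ 0 := fun e => haO ((h.lifts.mem_core_iff h.pre.frame ha).2
    (by rw [h.lifts.up_S a ha c hc, e, up_zero]))
  -- `x⁻¹ a x` is in `borel Φ`
  set y := x⁻¹ * a * x
  have hy : y ∈ borel Φ := by
    obtain ⟨s, hs, hsc⟩ := h.pre.frame.exists_elem 1
    have h3 : a * x * s * (a * x)⁻¹ ∈ X := h2 ⟨s, hs, by simp [mul_assoc]⟩
    have h4 : y * s * y⁻¹ ∈ borel Φ := hb (by
      rw [mem_comap]
      simpa [y, mul_assoc] using h3)
    rw [mem_borel, map_mul, map_mul, map_inv, h.lifts.up_S s hs _ hsc, conj_up_entry] at h4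
    simpa [mem_borel] using h4
  rw [mem_borel, map_mul, map_mul, map_inv, h.lifts.up_S a ha c hc] at hy
  have e := conj_up_entry ((Φ x)⁻¹) c
  rw [inv_inv, hy] at e
  have hxb : x ∈ borel Φ := by
    have hxi : x⁻¹ ∈ borel Φ := by
      rw [mem_borel, map_inv]
      simpa [hc0] using e.symm
    simpa using inv_mem hxi
  refine h.borel_ne_top (eq_top_iff.2 (hop.ge.trans (sup_le (sup_le (hA.trans h.S_le_borel) ?_)
    (h.pre.frame.sit.core_le.trans h.S_le_borel))))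
  refine le_trans (le_sup_left.trans hx.le) ?_
  rintro _ ⟨s, hs, rfl⟩
  exact mul_mem (mul_mem hxb (h.S_le_borel hs)) (inv_mem hxb)

/-- For at least four elements in the field, `L` covers `S` modulo the core. -/
theorem Ctx.S_le_L (h : Ctx p S g φ f Φ ψ) {t : F} (ht0 : t ≠ 0) (ht : t * t ≠ 1) : S ≤ L ⊔ O := by
  have := h.pre.frame.finite
  intro s hs
  obtain ⟨x, hx⟩ := h.lifts.surjective h.pre.frame (dg F t ht0)
  obtain ⟨n, hn⟩ := pow_mem_pL (p := p) x (mem_top x)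
  set r := t ^ p ^ n with hr
  have hr0 : r ≠ 0 := pow_ne_zero _ ht0
  have hr1 : r * r - 1 ≠ 0 := by
    intro e
    have : (t * t - 1) ^ p ^ n = 0 := by
      have : CharP F p := (CharP.charP_iff_prime_eq_zero hp.out).2 h.pre.frame.natCast_eq_zero
      rw [sub_pow_char_pow, one_pow, mul_pow]
      exact e
    exact ht (sub_eq_zero.1 (pow_eq_zero_iff (pow_ne_zero _ hp.out.ne_zero) |>.1 this))
  have hΦ : Φ (x ^ p ^ n) = dg F r hr0 := by
    rw [map_pow, hx]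
    apply Subtype.ext
    rw [Matrix.SpecialLinearGroup.coe_pow]
    show !![t, 0; 0, t⁻¹] ^ p ^ n = !![r, 0; 0, r⁻¹]
    have e : ∀ a b : F, !![a, 0; 0, b] = Matrix.diagonal ![a, b] := fun a b => by
      ext i j; fin_cases i <;> fin_cases j <;> simp
    rw [e, e, Matrix.diagonal_pow]
    congr 1
    ext i; fin_cases i <;> simp [hr, inv_pow]
  obtain ⟨c, hc⟩ := h.pre.frame.exists_coord hs
  obtain ⟨s₀, hs₀, hc₀⟩ := h.pre.frame.exists_elem (c / (r * r - 1))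
  have hw : ⁅x ^ p ^ n, s₀⁆ ∈ L := by
    rw [show ⁅x ^ p ^ n, s₀⁆ = x ^ p ^ n * (s₀ * (x ^ p ^ n)⁻¹ * s₀⁻¹) by
      simp [commutatorElement_def, mul_assoc]]
    exact mul_mem hn (pL_normal.conj_mem _ (inv_mem hn) s₀)
  have hk : ⁅x ^ p ^ n, s₀⁆⁻¹ * s ∈ Φ.ker := by
    rw [MonoidHom.mem_ker, map_mul, map_inv, map_commutatorElement, hΦ, h.lifts.up_S s hs c hc,
      h.lifts.up_S s₀ hs₀ _ hc₀, commutatorElement_def, dg_up,
      show (up (c / (r * r - 1)) : M)⁻¹ = up (-(c / (r * r - 1))) from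
        inv_eq_of_mul_eq_one_right (by rw [up_mul, add_neg_cancel, up_zero]), up_mul,
      show (r * r * (c / (r * r - 1)) + -(c / (r * r - 1))) = (r * r - 1) * (c / (r * r - 1)) by ring,
      mul_div_cancel₀ _ hr1, inv_mul_cancel]
  rw [show s = ⁅x ^ p ^ n, s₀⁆ * (⁅x ^ p ^ n, s₀⁆⁻¹ * s) by group]
  exact mul_mem (mem_sup_left hw) (h.ker_le hk)

/-- Quadratic action for `p = 2`. -/
theorem Ctx.cubic (h : Ctx p S g φ f Φ ψ) (h2 : p = 2) (hP : powComm p O ≤ Q) {o a b : G}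
    (ho : o ∈ O) (ha : a ∈ S) (hb : b ∈ S) : ⁅⁅o, a⁆, b⁆ ∈ Q := by
  subst h2
  have hOn := FittingCores.pCore_normal (G := G) 2
  have hQn := qz_normal (p := 2) (G := G)
  set π := QuotientGroup.mk' (qz 2 G)
  have hOO : ∀ x ∈ Cfsg.pCore 2 G, ∀ y ∈ Cfsg.pCore 2 G, ⁅x, y⁆ ∈ qz 2 G :=
    fun x hx y hy => hP (comm_mem_powComm hx hy)
  have hQb : ∀ x ∈ qz 2 G, ∀ y : G, ⁅x, y⁆ ∈ qz 2 G := fun x hx y => by
    rw [show ⁅x, y⁆ = x * (y * x⁻¹ * y⁻¹) by simp [commutatorElement_def, mul_assoc]]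
    exact mul_mem hx (hQn.conj_mem _ (inv_mem hx) y)
  have hone : ∀ {x y : G}, ⁅x, y⁆ ∈ qz 2 G → π x * π y = π y * π x := fun h' => by
    rw [← commutatorElement_eq_one_iff_mul_comm, ← map_commutatorElement]
    exact (QuotientGroup.eq_one_iff _).2 h'
  have hback : ∀ {x y : G}, π x * π y = π y * π x → ⁅x, y⁆ ∈ qz 2 G := fun h' => by
    refine (QuotientGroup.eq_one_iff _).1 ?_
    show π _ = 1
    rw [map_commutatorElement, commutatorElement_eq_one_iff_mul_comm]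
    exact h'
  have hinv : ∀ x ∈ Cfsg.pCore 2 G, (π x)⁻¹ = π x := fun x hx => by
    refine inv_eq_of_mul_eq_one_right ?_
    rw [← map_mul, ← sq]
    exact (QuotientGroup.eq_one_iff _).2 (hP (pow_mem_powComm hx))
  set m := ⁅o, a⁆ with hm
  by_cases haO : a ∈ Cfsg.pCore 2 G
  · exact hQb _ (hOO o ho a haO) b
  have hmO : m ∈ Cfsg.pCore 2 G := by
    rw [hm, show ⁅o, a⁆ = o * (a * o⁻¹ * a⁻¹) by simp [commutatorElement_def, mul_assoc]]
    exact mul_mem ho (hOn.conj_mem _ (inv_mem ho) a)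
  by_cases hbO : b ∈ Cfsg.pCore 2 G
  · exact hOO m hmO b hbO
  -- `a` fixes `m`
  have hma : π m * π a = π a * π m := by
    have ha2 : a * a ∈ Cfsg.pCore 2 G := by
      obtain ⟨c, hc⟩ := h.pre.frame.exists_coord ha
      refine (h.lifts.mem_core_iff h.pre.frame (mul_mem ha ha)).2 ?_
      rw [map_mul, h.lifts.up_S a ha c hc, up_mul, ← two_mul,
        show (2 : F) = 0 by exact_mod_cast h.pre.frame.natCast_eq_zero, zero_mul, up_zero]
    have e1 : π a * π a * π o = π o * (π a * π a) := by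
      rw [← map_mul]; exact (hone (hOO o ho _ ha2)).symm
    have e2 : (π a * π o * (π a)⁻¹)⁻¹ = π a * π o * (π a)⁻¹ := by
      rw [← map_inv π a, ← map_mul, ← map_mul]
      exact hinv _ (hOn.conj_mem o ho a)
    have e3 : π (a * o * a⁻¹) * π o = π o * π (a * o * a⁻¹) := hone (hOO _ (hOn.conj_mem o ho a) o ho)
    simp only [map_mul, map_inv] at e3
    have e4 : π m = π o * (π a * π o * (π a)⁻¹) := by
      rw [← e2, hm, map_commutatorElement, commutatorElement_def]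
      group
    rw [e4]
    calc π o * (π a * π o * (π a)⁻¹) * π a = π a * π o * (π a)⁻¹ * π o * π a := by rw [e3]
      _ = π a * π o * (π a)⁻¹ * (π o * (π a * π a)) * (π a)⁻¹ := by group
      _ = π a * π o * (π a)⁻¹ * (π a * π a * π o) * (π a)⁻¹ := by rw [e1]
      _ = π a * (π o * (π a * π o * (π a)⁻¹)) := by group
  by_cases hq : ∀ t : F, t = 0 ∨ t = 1
  · obtain ⟨c, hc⟩ := h.pre.frame.exists_coord ha
    obtain ⟨d, hd⟩ := h.pre.frame.exists_coord hb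
    have hc1 : c = 1 := (hq c).resolve_left fun e => haO ((h.lifts.mem_core_iff h.pre.frame ha).2
      (by rw [h.lifts.up_S a ha c hc, e, up_zero]))
    have hd1 : d = 1 := (hq d).resolve_left fun e => hbO ((h.lifts.mem_core_iff h.pre.frame hb).2
      (by rw [h.lifts.up_S b hb d hd, e, up_zero]))
    have hu : a⁻¹ * b ∈ Cfsg.pCore 2 G := (h.lifts.mem_core_iff h.pre.frame (mul_mem (inv_mem ha) hb)).2 (by
      rw [map_mul, map_inv, h.lifts.up_S a ha c hc, h.lifts.up_S b hb d hd, hc1, hd1, inv_mul_cancel])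
    refine hback ?_
    have e := hone (hOO m hmO _ hu)
    rw [map_mul, map_inv] at e
    calc π m * π b = π m * π a * ((π a)⁻¹ * π b) := by group
      _ = π a * (π m * ((π a)⁻¹ * π b)) := by rw [hma]; group
      _ = π a * ((π a)⁻¹ * π b * π m) := by rw [e]
      _ = π b * π m := by group
  push Not at hq
  obtain ⟨t, ht0, ht1⟩ := hq
  have htt : t * t ≠ 1 := fun e => by
    rcases mul_self_eq_one_iff.1 e with e | e
    · exact ht1 e
    · refine ht1 (e.trans (neg_eq_iff_add_eq_zero.2 ?_))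
      rw [one_add_one_eq_two]
      exact_mod_cast h.pre.frame.natCast_eq_zero
  have hcov := h.S_le_L ht0 htt
  obtain ⟨A, hAS, hA⟩ := h.pre.exists_off
  obtain ⟨A', hA', hop⟩ := h.exists_partner hA
  have P : Pair 2 f A A' := ⟨hA, hA', hop⟩
  obtain ⟨l, hl, u, hu, rfl⟩ := mem_sup_of_normal_right.1 (hcov ha)
  set k := ⁅o, l⁆
  have hk : k ∈ eSub 2 S A ⊔ eSub 2 S A' := by
    rw [show k = ⁅l, o⁆⁻¹ from (commutatorElement_inv l o).symm]
    exact inv_mem (h.comm_L_le P ho hl)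
  have hmk : π m = π k := by
    rw [hm, show ⁅o, l * u⁆ = k * (l * ⁅o, u⁆ * l⁻¹) by simp [k, commutatorElement_def, mul_assoc], map_mul,
      show π (l * ⁅o, u⁆ * l⁻¹) = 1 from (QuotientGroup.eq_one_iff _).2 (hQn.conj_mem _ (hOO o ho u hu) l),
      mul_one]
  obtain ⟨m₁, -⟩ := h.mem_eSub hA
  obtain ⟨m₂, -⟩ := h.mem_eSub hA'
  obtain ⟨e₁, he₁, e₂, he₂, hke⟩ := m₁.mem_sup h.pre.boundO m₂ hk
  have := vm_normal (S := S)
  obtain ⟨d, hd, z, hz, rfl⟩ := mem_sup_of_normal_right.1 he₁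
  obtain ⟨d', hd', z', hz', rfl⟩ := mem_sup_of_normal_right.1 he₂
  obtain ⟨z₁, hz₁, z₂, hz₂, hzz⟩ := h.vm_split hA hA' hop (mul_mem hz hz')
  have hD : d * z₁ ∈ A ⊓ Cfsg.pCore 2 G :=
    mul_mem hd ⟨(h.centB_le hA).1 hz₁, h.pre.vm_le_core hz₁.1⟩
  have hD' : d' * z₂ ∈ A' ⊓ Cfsg.pCore 2 G :=
    mul_mem hd' ⟨(h.centB_le hA').1 hz₂, h.pre.vm_le_core hz₂.1⟩
  have hke' : k = d * z₁ * (d' * z₂) := by
    have c : d' * z = z * d' := h.pre.core_comm hd'.2 hz
    have c₁ : d' * z₁ = z₁ * d' := h.pre.core_comm hd'.2 hz₁.1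
    calc k = d * z * (d' * z') := hke.symm
      _ = d * (z * d') * z' := by group
      _ = d * (d' * z) * z' := by rw [c]
      _ = d * d' * (z₁ * z₂) := by rw [hzz]; group
      _ = d * (d' * z₁) * z₂ := by group
      _ = d * (z₁ * d') * z₂ := by rw [c₁]
      _ = _ := by group
  set D := d * z₁
  set D' := d' * z₂
  have hfixD : ∀ s ∈ S, π D * π s = π s * π D := by
    intro s hs
    rw [← (h.off_le hA hAS).2.2.2.2] at hs
    obtain ⟨x, hx, y, hy, rfl⟩ := mem_sup_of_normal_right.1 hs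
    have c1 : π D * π x = π x * π D := by
      rw [← _root_.map_mul, ← _root_.map_mul, mem_centralizer_iff.1 (hA.comm hD.1) x hx]
    rw [_root_.map_mul π x y]
    exact (Commute.mul_right (c1 : Commute _ _) (hone (hOO D hD.2 y hy) : Commute _ _)).eq
  have hfix' : π D' * π (l * u) = π (l * u) * π D' := by
    have e : π D' = (π D)⁻¹ * π m := by rw [hmk, hke', _root_.map_mul π D D', inv_mul_cancel_left]
    rw [e]
    exact ((Commute.inv_left (hfixD _ ha : Commute _ _)).mul_left (hma : Commute _ _)).eq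
  have hall : ∀ y : G, ⁅y, D'⁆ ∈ qz 2 G := by
    have hle : A' ⊔ A'.map (MulAut.conj (l * u)).toMonoidHom ⊔ Cfsg.pCore 2 G ≤ commSet (qz 2 G) D' := by
      refine sup_le (sup_le (fun x hx => ?_) ?_) (fun x hx => hOO x hx D' hD'.2)
      · refine mem_commSet.2 ?_
        rw [commutatorElement_eq_one_iff_mul_comm.2 (mem_centralizer_iff.1 (hA'.comm hD'.1) x hx)]
        exact one_mem _
      · rintro _ ⟨x, hx, rfl⟩
        refine mem_commSet.2 (hback ?_)
        show π (l * u * x * (l * u)⁻¹) * π D' = _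
        have c : π x * π D' = π D' * π x := by
          rw [← map_mul, ← map_mul, mem_centralizer_iff.1 (hA'.comm hD'.1) x hx]
        have ha' : Commute (π D') (π (l * u)) := hfix'
        rw [map_mul π (l * u * x), map_mul π (l * u), map_inv]
        exact (((ha'.symm.mul_left c).mul_left ha'.symm.inv_left) : Commute _ _).eq
    exact fun y => hle ((h.opp_conj hAS hA' hop ha haO).ge (mem_top y))
  have hD'Q : π D' = 1 := (QuotientGroup.eq_one_iff _).2 (qz_mem_of_comm hD'.2 fun z _ => hall z)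
  refine hback ?_
  rw [hmk, hke', map_mul, hD'Q, mul_one]
  exact hfixD b hb

/-- The weight argument. -/
theorem Low.weight (h : Ctx p S g φ f Φ ψ) (h2 : p ≠ 2) (h3 : p ≠ 3) (hW : Low p S W)
    (hnn : ¬ (vm S ⊔ W).Normal) {X : Subgroup G} (hVX : vm S ≤ X)
    (hXU : X ≤ vm S ⊔ closure (conjOf W)) (hX : ∀ x ∈ X, ∀ s ∈ S, ⁅x, s⁆ ∈ zc S)
    (hU : ∀ u ∈ vm S ⊔ closure (conjOf W), ∀ s ∈ S, ⁅u, s⁆ ∈ X)
    (hUO : ∀ u ∈ vm S ⊔ closure (conjOf W), ∀ o ∈ O, ⁅u, o⁆ ∈ C)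
    (hcard : Nat.card ↥(vm S ⊔ closure (conjOf W)) ≤ Nat.card F * Nat.card ↥X)
    {u a b : G} (hu : u ∈ vm S ⊔ closure (conjOf W)) (ha : a ∈ S) (hb : b ∈ S) : ⁅⁅u, a⁆, b⁆ ∈ C := by
  have hVn := vm_normal (S := S)
  have := closure_conjOf_normal (W := W)
  set U := vm S ⊔ closure (conjOf W) with hUdef
  have hUn : U.Normal := inferInstance
  have hUle : U ≤ O := sup_le h.pre.vm_le_core ((closure_le _).2 fun x hx => hW.conjOf_le hx)
  have hUS : U ≤ S := hUle.trans h.pre.frame.sit.core_le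
  obtain ⟨Φ', hΦ', T, χ, Lay, -, -, -, hXiff⟩ := exists_layer h.pre.frame U (vm S) X hVX hXU
    (commutator_le.2 fun x hx y hy => (hUO x hx y (hUle hy)).1)
    (commutator_le.2 fun x hx y hy => (hUO x hx y hy).1)
    (commutator_le.2 fun x hx y hy => zc_le_vm (hX x hx y hy))
    (commutator_le.2 fun x hx y hy => hU x hx y hy) hcard
    (fun H hH htop => hnn (normalizer_eq_top_iff.1 (eq_top_iff.2 (htop.ge.trans (sup_le
      (fun k hk => mem_normalizer_of_map_le (by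
        rintro _ ⟨y, hy, rfl⟩
        have hyU : y ∈ U := (sup_le_sup_left (fun w hw => Subgroup.subset_closure (mem_conjOf hw)) _ :
          vm S ⊔ W ≤ U) hy
        show k * y * k⁻¹ ∈ vm S ⊔ W
        rw [show k * y * k⁻¹ = ⁅y, k⁆⁻¹ * y by simp [commutatorElement_def, mul_assoc]]
        exact mul_mem (inv_mem (mem_sup_left (hH (commutator_mem_commutator hyU hk)))) hy))
      (fun s hs => mem_normalizer_of_map_le (by
        rintro _ ⟨y, hy, rfl⟩
        exact hW.sup_norm hs hy)))))))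
  obtain rfl := Lifts.unique h.pre.frame h.lifts hΦ'
  have hF2 : (2 : F) ≠ 0 := fun e => by
    have : CharP F p := (CharP.charP_iff_prime_eq_zero hp.out).2 h.pre.frame.natCast_eq_zero
    have hd : p ∣ 2 := (CharP.cast_eq_zero_iff F p 2).1 (by exact_mod_cast e)
    exact h2 ((Nat.prime_dvd_prime_iff_eq hp.out Nat.prime_two).1 hd)
  obtain ⟨x₀, hx₀⟩ := h.lifts.surjective h.pre.frame (dg F 2 hF2)
  obtain ⟨c, hc, hN⟩ := h.pre.frame.split_borel h.lifts (h := x₀) (by rw [hx₀]; simp [dg])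
  set k := c⁻¹ * x₀ with hk
  have hkΦ : Φ k = dg F 2 hF2 := by rw [hk, map_mul, map_inv, MonoidHom.mem_ker.1 hc, inv_one, one_mul, hx₀]
  have hkS : ∀ s ∈ S, k * s * k⁻¹ ∈ S := fun s hs => (mem_normalizer_iff.1 hN s).1 hs
  have hz : ∀ {x b : G}, x ∈ X → b ∈ S → ∀ y ∈ S, y * ⁅x, b⁆ = ⁅x, b⁆ * y := fun hx hb y hy =>
    zc_comm (hX _ hx _ hb) hy
  have hXS : X ≤ S := hXU.trans hUS
  have hzX : ∀ {z : G}, z ∈ zc S → z ∈ X := fun hz => hVX (zc_le_vm hz)
  have conjX : ∀ x ∈ X, ∀ y ∈ S, ∀ b ∈ S, ⁅y * x * y⁻¹, b⁆ = ⁅x, b⁆ := fun x hx y hy b hb => by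
    have h1 : ⁅⁅x, y⁆⁻¹, b⁆ = 1 :=
      commutatorElement_eq_one_iff_mul_comm.2 (zc_comm (inv_mem (hX x hx y hy)) hb).symm
    rw [show y * x * y⁻¹ = ⁅x, y⁆⁻¹ * x by simp [commutatorElement_def, mul_assoc],
      show ⁅⁅x, y⁆⁻¹ * x, b⁆ = ⁅x, y⁆⁻¹ * ⁅x, b⁆ * (⁅x, y⁆⁻¹)⁻¹ * ⁅⁅x, y⁆⁻¹, b⁆ by
        simp [commutatorElement_def, mul_assoc], h1, mul_one,
      hz hx hb _ (inv_mem (hUS (hXU (hzX (hX x hx y hy))))), mul_inv_cancel_right]
  have mulX : ∀ x ∈ X, ∀ x' ∈ X, ∀ b ∈ S, ⁅x * x', b⁆ = ⁅x, b⁆ * ⁅x', b⁆ := fun x hx x' hx' b hb => by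
    rw [show ⁅x * x', b⁆ = x * ⁅x', b⁆ * x⁻¹ * ⁅x, b⁆ by simp [commutatorElement_def, mul_assoc],
      hz hx' hb x (hXS hx), mul_inv_cancel_right, hz hx hb _ (hXS (hzX (hX _ hx' _ hb)))]
  have powX : ∀ x ∈ X, ∀ b ∈ S, ∀ n : ℕ, ⁅x, b ^ n⁆ = ⁅x, b⁆ ^ n := fun x hx b hb n => by
    induction n with
    | zero => simp
    | succ n ih =>
      rw [pow_succ, pow_succ, show ⁅x, b ^ n * b⁆ = ⁅x, b ^ n⁆ * (b ^ n * ⁅x, b⁆ * (b ^ n)⁻¹) by
        simp [commutatorElement_def, mul_assoc], hz hx hb _ (pow_mem hb n), mul_inv_cancel_right, ih]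
  have powA : ∀ u ∈ U, ∀ a ∈ S, ∀ b ∈ S, ∀ n : ℕ, ⁅⁅u, a ^ n⁆, b⁆ = ⁅⁅u, a⁆, b⁆ ^ n :=
    fun u hu a ha b hb n => by
    induction n with
    | zero => simp
    | succ n ih =>
      have han := pow_mem ha n
      have hxX := hU u hu a ha
      rw [pow_succ, pow_succ, show ⁅u, a ^ n * a⁆ = ⁅u, a ^ n⁆ * (a ^ n * ⁅u, a⁆ * (a ^ n)⁻¹) by
        simp [commutatorElement_def, mul_assoc], mulX _ (hU u hu _ han) _ (by
          rw [show a ^ n * ⁅u, a⁆ * (a ^ n)⁻¹ = ⁅⁅u, a⁆, a ^ n⁆⁻¹ * ⁅u, a⁆ by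
            simp [commutatorElement_def, mul_assoc]]
          exact mul_mem (inv_mem (hzX (hX _ hxX _ han))) hxX) b hb,
        conjX _ hxX _ han b hb, ih]
  have mulU : ∀ u ∈ U, ∀ u' ∈ U, ∀ a ∈ S, ∀ b ∈ S,
      ⁅⁅u * u', a⁆, b⁆ = ⁅⁅u', a⁆, b⁆ * ⁅⁅u, a⁆, b⁆ := fun u hu u' hu' a ha b hb => by
    have hxX := hU u' hu' a ha
    rw [show ⁅u * u', a⁆ = u * ⁅u', a⁆ * u⁻¹ * ⁅u, a⁆ by simp [commutatorElement_def, mul_assoc],
      mulX _ (by
        rw [show u * ⁅u', a⁆ * u⁻¹ = ⁅⁅u', a⁆, u⁆⁻¹ * ⁅u', a⁆ by simp [commutatorElement_def, mul_assoc]]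
        exact mul_mem (inv_mem (hzX (hX _ hxX _ (hUS hu)))) hxX) _ (hU u hu a ha) b hb,
      conjX _ hxX _ (hUS hu) b hb]
  set π := QuotientGroup.mk' C
  have hC : ∀ {c : G}, c ∈ C → π c = 1 := fun hc => (QuotientGroup.eq_one_iff _).2 hc
  have hCX : ∀ {c : G}, c ∈ C → c ∈ X := fun hc => hVX hc.1
  -- modulo the core
  have modB : ∀ x ∈ X, ∀ b ∈ S, ∀ o ∈ O, π ⁅x, b * o⁆ = π ⁅x, b⁆ := fun x hx b _ o ho => by
    have hc := hUO x (hXU hx) o ho
    rw [show ⁅x, b * o⁆ = ⁅x, b⁆ * (b * ⁅x, o⁆ * b⁻¹) by simp [commutatorElement_def, mul_assoc],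
      mem_center_iff.1 hc.2 b, mul_inv_cancel_right, map_mul, hC hc, mul_one]
  have modA : ∀ u ∈ U, ∀ a ∈ S, ∀ b ∈ S, ∀ o ∈ O, ⁅⁅u, a * o⁆, b⁆ = ⁅⁅u, a⁆, b⁆ :=
    fun u hu a ha b hb o ho => by
    have hc := hUO u hu o ho
    have h1 : ⁅⁅u, o⁆, b⁆ = 1 := commutatorElement_eq_one_iff_mul_comm.2 (mem_center_iff.1 hc.2 b).symm
    rw [show ⁅u, a * o⁆ = ⁅u, a⁆ * (a * ⁅u, o⁆ * a⁻¹) by simp [commutatorElement_def, mul_assoc],
      mem_center_iff.1 hc.2 a, mul_inv_cancel_right, mulX _ (hU u hu a ha) _ (hCX hc) b hb, h1, mul_one]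
  have four : ∀ s ∈ S, ∃ o ∈ O, k * s * k⁻¹ = s ^ 4 * o := fun s hs => by
    obtain ⟨d, hd⟩ := h.pre.frame.exists_coord hs
    refine ⟨(s ^ 4)⁻¹ * (k * s * k⁻¹),
      (h.lifts.mem_core_iff h.pre.frame (mul_mem (inv_mem (pow_mem hs 4)) (hkS s hs))).2 ?_,
      (mul_inv_cancel_left _ _).symm⟩
    rw [map_mul, map_inv, map_pow, map_mul, map_mul, map_inv, hkΦ, h.lifts.up_S s hs d hd, dg_up,
      show (up d : M) ^ 4 = up (2 * 2 * d) by
        rw [show (up d : M) ^ 4 = up d * up d * (up d * up d) by simp only [pow_succ, pow_zero, one_mul, mul_assoc], up_mul, up_mul]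
        congr 1; ring,
      inv_mul_cancel]
  set γ := ⁅⁅u, a⁆, b⁆ with hγ
  have hγZ : γ ∈ zc S := hX _ (hU u hu a ha) b hb
  set u' := k * u * k⁻¹
  have hu' : u' ∈ U := hUn.conj_mem u hu k
  set δ := ⁅⁅u', a⁆, b⁆
  have hx : u⁻¹ * (u' * u') ∈ X := by
    have hmem := mul_mem (inv_mem hu) (mul_mem hu' hu')
    refine (hXiff _ hmem).2 ?_
    rw [Lay.map_mul _ (inv_mem hu) _ (mul_mem hu' hu'), Lay.map_mul _ hu' _ hu', Lay.map_inv hu,
      Lay.conj k u hu, hkΦ, dg_mulVec]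
    simp
    field_simp
    ring
  have e2 : δ * δ = γ := by
    rw [← mulU u' hu' u' hu' a ha b hb, show u' * u' = u * (u⁻¹ * (u' * u')) by group,
      mulU u hu _ (hXU hx) a ha b hb,
      commutatorElement_eq_one_iff_mul_comm.2 (zc_comm (hX _ hx a ha) hb).symm, one_mul]
  have e16 : π δ ^ 16 = π γ ^ 2 := by
    obtain ⟨oa, hoa, ea⟩ := four a ha
    obtain ⟨ob, hob, eb⟩ := four b hb
    have e : k * γ * k⁻¹ = ⁅⁅u', k * a * k⁻¹⁆, k * b * k⁻¹⁆ := by
      simp [γ, u', commutatorElement_def, mul_assoc]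
    have l2 : π (k * γ * k⁻¹) = π γ ^ 2 := by
      rw [← map_pow]
      refine (QuotientGroup.eq_iff_div_mem).2 ?_
      have hγV := zc_le_vm hγZ
      have hγ' := hVn.conj_mem γ hγV k
      rw [div_eq_mul_inv]
      refine (h.layer.ker _ (mul_mem hγ' (inv_mem (pow_mem hγV 2)))).1 ?_
      rw [h.layer.map_mul _ hγ' _ (inv_mem (pow_mem hγV 2)), h.layer.map_inv (pow_mem hγV 2),
        h.layer.conj k γ hγV, hkΦ, dg_mulVec, h.layer.map_pow hγV 2, (h.line γ hγV).1 hγZ, two_nsmul]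
      ext i; fin_cases i <;> simp [(h.line γ hγV).1 hγZ]
      ring
    rw [← l2, e, ea, modA u' hu' _ (pow_mem ha 4) _ (hkS b hb) oa hoa, powA u' hu' a ha _ (hkS b hb) 4,
      eb, map_pow, modB _ (hU u' hu' a ha) _ (pow_mem hb 4) ob hob, powX _ (hU u' hu' a ha) b hb 4, map_pow,
      ← pow_mul]
  have e12 : π γ ^ 12 = 1 := by
    have h4 : π γ ^ 16 = π γ ^ 4 := by
      rw [← e2, map_mul, ← sq, ← pow_mul, ← pow_mul, show 2 * 16 = 16 * 2 by norm_num, pow_mul, e16,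
        ← e2, map_mul, ← sq, ← pow_mul, ← pow_mul]
    calc π γ ^ 12 = π γ ^ 16 * (π γ ^ 4)⁻¹ := by group
      _ = 1 := by rw [h4, mul_inv_cancel]
  have ep : π γ ^ p = 1 := by rw [← map_pow, h.pre.zel γ hγZ, map_one]
  refine (QuotientGroup.eq_one_iff _).1 (orderOf_eq_one_iff.1 ?_)
  refine Nat.eq_one_of_dvd_coprimes ?_ (orderOf_dvd_of_pow_eq_one e12) (orderOf_dvd_of_pow_eq_one ep)
  refine ((hp.out.coprime_iff_not_dvd).2 fun hd => ?_).symm
  rw [show (12 : ℕ) = 2 ^ 2 * 3 by norm_num] at hd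
  rcases hp.out.dvd_mul.1 hd with hd | hd
  · exact h2 ((Nat.prime_dvd_prime_iff_eq hp.out Nat.prime_two).1 (hp.out.dvd_of_dvd_pow hd))
  · exact h3 ((Nat.prime_dvd_prime_iff_eq hp.out Nat.prime_three).1 hd)

end Cfsg.Agent.PushUp3
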