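/-
Pushing up with a centrally large core, part 8: the data a group induces on its Sylow group.
-/
import Cfsg.Agent.Lib.PushUp3.Gdeep
import Cfsg.Agent.Lib.CentrallyLarge.Basic

set_option autoImplicit false

namespace Cfsg.Agent.PushUp3

open Subgroup PushUp PushUp2
open scoped commutatorElement Pointwise

variable {P : Type*} [Group P]

/-- A normal subgroup of `P` in `R` moved by `R` into the centre. -/
structure LowS (R W : Subgroup P) : Prop where
  le : W ≤ R
  normal : W.Normal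
  comm : ∀ w ∈ W, ∀ o ∈ R, ⁅w, o⁆ ∈ center P

/-- What a group containing `P` as a Sylow group induces on `P`. -/
structure Side (p : ℕ) (P : Type*) [Group P] where
  /-- the module -/
  V : Subgroup P
  /-- the core -/
  R : Subgroup P
  /-- the centralised part of the core -/
  N : Subgroup P
  /-- the large member -/
  H : Subgroup P
  /-- conjugates in the group -/
  conj : Subgroup P → Set P
  /-- normality in the group -/
  Nrm : Subgroup P → Prop
  normV : V.Normal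
  normR : R.Normal
  normN : N.Normal
  normH : H.Normal
  center_le : center P ≤ V
  V_le : V ≤ R
  N_le : N ≤ R
  H_le : H ≤ R
  centV : centralizer (V : Set P) = R
  centR : centralizer (R : Set P) = V
  powV : ∀ v ∈ V, v ^ p = 1
  largeR : Cfsg.IsCentralizerLarge R
  largeH : Cfsg.IsCentralizerLarge H
  comm_le : ∀ a b : P, ⁅a, b⁆ ∈ R
  notTop : R ≠ ⊤
  commV : ∀ v ∈ V, ∀ s : P, ⁅v, s⁆ ∈ center P
  nat : ∀ v ∈ V, ∀ s : P, ⁅v, s⁆ ∈ N → v ∈ center P ∨ s ∈ R
  commH : ∀ x ∈ H, ∀ y ∈ H, ⁅x, y⁆ ∈ N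
  centH : centralizer (H : Set P) ≤ V ⊔ N
  central : ∀ w ∈ R, (∀ s : P, ⁅w, s⁆ ∈ center P) → ∀ x ∈ H, ⁅w, x⁆ ∈ N
  cent : ∀ a : P, a ∉ R → (∀ x ∈ powComm p R, x * a = a * x) → powComm p R ≤ N
  conj_mem : ∀ W w, w ∈ W → w ∈ conj W
  conj_le : ∀ W, LowS R W → ∀ x ∈ conj W, x ∈ R
  conj_inv : ∀ W, ∀ x ∈ conj W, ∀ s : P, s * x * s⁻¹ ∈ conj W
  conj_pow : ∀ W, (∀ w ∈ W, w ^ p = 1) → ∀ x ∈ conj W, x ^ p = 1
  conj_comm : ∀ W, LowS R W → ∀ x ∈ conj W, ∀ o ∈ R, ⁅x, o⁆ ∈ V
  conj_val : ∀ W, LowS R W → (∀ w ∈ W, ∀ o ∈ R, ⁅w, o⁆ ∈ N) → ∀ x ∈ conj W, ∀ o ∈ R,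
    ∃ w ∈ W, ∃ o' ∈ R, ⁅x, o⁆ = ⁅w, o'⁆
  conj_block : ∀ W, LowS R W → ∀ x ∈ conj W, ∃ τ : ↥W →* P, Function.Injective τ ∧ x ∈ τ.range ∧
    (∀ w, τ w ∈ conj W) ∧ (∀ w : ↥W, (w : P) ∈ center P → τ w ∈ V) ∧
    ∀ w w' : ↥W, (∀ o ∈ R, o * w = w * o → o * w' = w' * o) →
      ∀ o ∈ R, o * τ w = τ w * o → o * τ w' = τ w' * o
  nrm_fixed : ∀ W, LowS R W → ∀ a : P, a ∉ R → (∀ x ∈ conj W, ⁅x, a⁆ ∈ V) → Nrm (V ⊔ W)
  nrm_conj : ∀ W, LowS R W → (∀ x ∈ conj W, x ∈ V ⊔ W) → Nrm (V ⊔ W)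
  nrm_le : ∀ W, LowS R W → W ≤ V ⊔ N → Nrm (V ⊔ W)
  conj_of_nrm : ∀ W, LowS R W → Nrm (V ⊔ W) → ∀ x ∈ conj W, x ∈ V ⊔ W
  collapse : ∀ W, LowS R W → Nrm (V ⊔ W) → (∀ w ∈ W, ∀ s : P, ⁅w, s⁆ ∈ center P) →
    ((∀ x ∈ H, ∀ w ∈ W, w * x = x * w) ∨ ∀ w ∈ W, ∀ o ∈ R, ⁅w, o⁆ ∈ N) →
    ∀ a : P, a ∉ R → (∀ o ∈ R, (∀ w ∈ W, w * o = o * w) → ⁅o, a⁆ ∈ V) →
      powComm p R ≤ N ∧ (p ≠ 2 → R ≤ V ⊔ N)
  cubic : p = 2 → powComm p R ≤ N → ∀ o ∈ R, ∀ a b : P, ⁅⁅o, a⁆, b⁆ ∈ N
  weight : p ≠ 2 → p ≠ 3 → ∀ W, LowS R W → ¬ Nrm (V ⊔ W) → ∀ X : Subgroup P, V ≤ X →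
    X ≤ V ⊔ closure (conj W) → (∀ x ∈ X, ∀ s : P, ⁅x, s⁆ ∈ center P) →
    (∀ u ∈ V ⊔ closure (conj W), ∀ s : P, ⁅u, s⁆ ∈ X) →
    (∀ u ∈ V ⊔ closure (conj W), ∀ o ∈ R, ⁅u, o⁆ ∈ center P ⊓ N) →
    Nat.card ↥(V ⊔ closure (conj W)) * Nat.card ↥R ≤ Nat.card P * Nat.card ↥X →
    ∀ u ∈ V ⊔ closure (conj W), ∀ a b : P, ⁅⁅u, a⁆, b⁆ ∈ N

/-! ### Transport along the embedding -/

variable {G : Type*} [Group G] {σ : P →* G}

theorem map_comap_range {U : Subgroup G} (hU : U ≤ σ.range) : (U.comap σ).map σ = U := by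
  rw [Subgroup.map_comap_eq, inf_of_le_right hU]

theorem map_centralizer (hσ : Function.Injective σ) (U : Subgroup P) :
    (centralizer (U : Set P)).map σ = cw σ.range (U.map σ) := by
  ext y
  constructor
  · rintro ⟨x, hx, rfl⟩
    refine mem_cw.2 ⟨⟨x, rfl⟩, ?_⟩
    rintro _ ⟨u, hu, rfl⟩
    rw [← map_mul, ← map_mul, mem_centralizer_iff.1 hx u hu]
  · intro hy
    obtain ⟨x, rfl⟩ := (mem_cw.1 hy).1
    exact ⟨x, mem_centralizer_iff.2 fun u hu => hσ (by
      rw [map_mul, map_mul]; exact mem_cw_comm hy (mem_map_of_mem σ hu)), rfl⟩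

theorem mem_center_iff_zc (hσ : Function.Injective σ) {x : P} : x ∈ center P ↔ σ x ∈ zc σ.range := by
  refine ⟨fun h => ⟨⟨x, rfl⟩, mem_centralizer_iff.2 ?_⟩, fun h => mem_center_iff.2 fun y => hσ ?_⟩
  · rintro _ ⟨y, rfl⟩
    rw [← map_mul, ← map_mul, mem_center_iff.1 h y]
  · rw [map_mul, map_mul]
    exact zc_comm h ⟨y, rfl⟩

variable [Finite G] [Finite P] {p : ℕ} [hp : Fact p.Prime] {g : G}
  {F : Type} [Field F] {φ : G →* Matrix.ProjectiveSpecialLinearGroup (Fin 2) F}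
  {Φ : G →* Matrix.SpecialLinearGroup (Fin 2) F} {ψ : G → Fin 2 → F}

theorem large_of_mem (hσ : Function.Injective σ) {U : Subgroup P}
    (h : Mem σ.range (Cfsg.maxCentralizerProduct P) (U.map σ)) : Cfsg.IsCentralizerLarge U := by
  have e := h.eq
  rwa [← map_centralizer hσ, card_map_of_injective hσ, card_map_of_injective hσ] at e

theorem card_range (hσ : Function.Injective σ) : Nat.card ↥σ.range = Nat.card P :=
  (Nat.card_congr (MonoidHom.ofInjective hσ).toEquiv).symm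

section make

variable (hσ : Function.Injective σ)
  (h : Ctx p σ.range g φ (Cfsg.maxCentralizerProduct P) Φ ψ)
include hσ h

theorem low_map {W : Subgroup P} (hW : LowS ((Cfsg.pCore p G).comap σ) W) : Low p σ.range (W.map σ) := by
  refine ⟨map_le_iff_le_comap.2 hW.le, ?_, ?_⟩
  · rintro _ ⟨s, rfl⟩ _ ⟨w, hw, rfl⟩
    exact ⟨s * w * s⁻¹, hW.normal.conj_mem w hw s, by simp⟩
  · rintro _ ⟨w, hw, rfl⟩ o ho
    obtain ⟨o', rfl⟩ := h.pre.frame.sit.core_le ho
    rw [← map_commutatorElement]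
    exact (mem_center_iff_zc hσ).1 (hW.comm w hw o' ho)

theorem sup_map (W : Subgroup P) :
    ((vm σ.range).comap σ ⊔ W).map σ = vm σ.range ⊔ W.map σ := by
  rw [Subgroup.map_sup, map_comap_range h.pre.vm_le]

theorem closure_conj_map {W : Subgroup P} (hW : LowS ((Cfsg.pCore p G).comap σ) W) :
    (closure (σ ⁻¹' conjOf (W.map σ))).map σ = closure (conjOf (W.map σ)) := by
  rw [MonoidHom.map_closure]
  congr 1
  refine Set.image_preimage_eq_of_subset fun x hx => ?_
  exact h.pre.frame.sit.core_le ((low_map hσ h hW).conjOf_le hx)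

theorem powComm_core : (powComm p ((Cfsg.pCore p G).comap σ)).map σ = powComm p (Cfsg.pCore p G) := by
  rw [powComm_map, map_comap_range h.pre.frame.sit.core_le]

/-- The side of a group. -/
noncomputable def sideOf : Side p P where
  V := (vm σ.range).comap σ
  R := (Cfsg.pCore p G).comap σ
  N := (qz p G).comap σ
  H := (hSub p (Cfsg.maxCentralizerProduct P) σ.range).comap σ
  conj W := σ ⁻¹' conjOf (W.map σ)
  Nrm W := (W.map σ).Normal
  normV := vm_normal.comap σ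
  normR := (FittingCores.pCore_normal (G := G) p).comap σ
  normN := qz_normal.comap σ
  normH := hSub_normal.comap σ
  center_le := fun x hx => zc_le_vm ((mem_center_iff_zc hσ).1 hx)
  V_le := comap_mono h.pre.vm_le_core
  N_le := comap_mono qz_le
  H_le := comap_mono h.hSub_facts.1.le
  centV := by
    refine Subgroup.map_injective hσ ?_
    rw [map_centralizer hσ, map_comap_range h.pre.vm_le, map_comap_range h.pre.frame.sit.core_le,
      h.pre.cw_eq le_rfl, h.mem_vm.2]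
  centR := by
    refine Subgroup.map_injective hσ ?_
    rw [map_centralizer hσ, map_comap_range h.pre.vm_le, map_comap_range h.pre.frame.sit.core_le,
      h.pre.cw_eq h.pre.vm_le_core, h.mem_core.2]
  powV := fun v hv => hσ (by rw [map_pow, map_one]; exact h.pre.vm_pow hv)
  largeR := by
    refine large_of_mem hσ ?_
    rw [map_comap_range h.pre.frame.sit.core_le]
    exact ⟨h.pre.frame.sit.core_le, by rw [h.pre.cw_eq h.pre.vm_le_core]; exact h.mem_core.1.eq⟩
  largeH := by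
    refine large_of_mem hσ ?_
    have hle := h.hSub_facts.1.le.trans h.pre.frame.sit.core_le
    rw [map_comap_range hle]
    exact ⟨hle, by rw [h.pre.cw_eq h.hSub_facts.2.1]; exact h.hSub_facts.1.eq⟩
  comm_le := fun a b => by
    show σ ⁅a, b⁆ ∈ Cfsg.pCore p G
    rw [map_commutatorElement]
    exact h.comm_S_core ⟨a, rfl⟩ ⟨b, rfl⟩
  notTop := fun e => h.pre.frame.not_le_core (by
    rintro _ ⟨x, rfl⟩
    exact e.ge (mem_top x))
  commV := fun v hv s => (mem_center_iff_zc hσ).2 (by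
    rw [map_commutatorElement, ← commutatorElement_inv]
    exact inv_mem (h.comm_vm_S hv ⟨s, rfl⟩))
  nat := fun v hv s hvs => by
    rw [mem_comap, map_commutatorElement] at hvs
    exact (h.nat hv ⟨s, rfl⟩ hvs).imp (mem_center_iff_zc hσ).2 id
  commH := fun x hx y hy => by
    show σ ⁅x, y⁆ ∈ qz p G
    rw [map_commutatorElement]
    exact h.hSub_facts.2.2.2.2 _ hx _ hy
  centH := by
    have hle := h.hSub_facts.1.le.trans h.pre.frame.sit.core_le
    refine (map_le_map_iff_of_injective hσ).1 ?_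
    rw [map_centralizer hσ, map_comap_range hle, h.pre.cw_eq h.hSub_facts.2.1, sup_map hσ h,
      map_comap_range (qz_le.trans h.pre.frame.sit.core_le)]
    exact h.hSub_facts.2.2.2.1
  central := fun w hw hws x hx => by
    show σ ⁅w, x⁆ ∈ qz p G
    rw [map_commutatorElement]
    refine h.central hw ?_ hx
    rintro _ ⟨s, rfl⟩
    rw [← map_commutatorElement]
    exact (mem_center_iff_zc hσ).1 (hws s)
  cent := fun a ha hc => by
    refine map_le_iff_le_comap.1 ?_
    rw [powComm_core hσ h]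
    refine h.powComm_le_qz ⟨a, rfl⟩ ha ?_
    rw [← powComm_core hσ h]
    rintro _ ⟨x, hx, rfl⟩
    rw [← map_mul, ← map_mul, hc x hx]
  conj_mem := fun W w hw => mem_conjOf (mem_map_of_mem σ hw)
  conj_le := fun W hW x hx => (low_map hσ h hW).conjOf_le hx
  conj_inv := fun W x hx s => by
    show σ (s * x * s⁻¹) ∈ conjOf (W.map σ)
    rw [map_mul, map_mul, map_inv]
    exact conjOf_conj hx _
  conj_pow := fun W hW x hx => by
    obtain ⟨_, ⟨w, hw, rfl⟩, k, e⟩ := hx
    refine hσ ?_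
    rw [map_pow, e, conj_pow, ← map_pow, hW w hw]
    simp
  conj_comm := fun W hW x hx o ho => by
    show σ ⁅x, o⁆ ∈ vm σ.range
    rw [map_commutatorElement]
    exact (low_map hσ h hW).comm_conj hx ho
  conj_val := fun W hW hq x hx o ho => by
    obtain ⟨_, ⟨w, hw, rfl⟩, o', ho', e⟩ := (low_map hσ h hW).comm_val h (by
      rintro _ ⟨w, hw, rfl⟩ o' ho'
      obtain ⟨o'', rfl⟩ := h.pre.frame.sit.core_le ho'
      rw [← map_commutatorElement]
      exact hq w hw o'' ho') hx ho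
    obtain ⟨o'', rfl⟩ := h.pre.frame.sit.core_le ho'
    exact ⟨w, hw, o'', ho', hσ (by rw [map_commutatorElement, map_commutatorElement, e])⟩
  conj_block := fun W hW x hx => by
    obtain ⟨_, ⟨w₀, hw₀, rfl⟩, k, e⟩ := hx
    set c := (MulAut.conj k).toMonoidHom.comp (σ.comp W.subtype)
    have hc : ∀ w : ↥W, c w = k * σ w * k⁻¹ := fun w => rfl
    have hmem : ∀ w : ↥W, c w ∈ σ.range := fun w =>
      h.pre.frame.sit.core_le ((low_map hσ h hW).conjOf_le ⟨σ w, mem_map_of_mem σ w.2, k, rfl⟩)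
    let τ : ↥W →* P := (MonoidHom.ofInjective hσ).symm.toMonoidHom.comp (c.codRestrict σ.range hmem)
    have hτ : ∀ w : ↥W, σ (τ w) = k * σ w * k⁻¹ := fun w => by
      rw [← hc]
      exact congrArg Subtype.val ((MonoidHom.ofInjective hσ).apply_symm_apply (c.codRestrict σ.range hmem w))
    refine ⟨τ, fun w w' he => ?_, ⟨⟨w₀, hw₀⟩, hσ (by rw [hτ, e])⟩,
      fun w => ⟨σ w, mem_map_of_mem σ w.2, k, hτ w⟩, fun w hw => ?_, fun w w' hww o ho hcom => ?_⟩
    · have := congrArg σ he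
      rw [hτ, hτ] at this
      exact Subtype.ext (hσ (mul_left_cancel (mul_right_cancel this)))
    · show σ (τ w) ∈ vm σ.range
      rw [hτ]
      exact vm_normal.conj_mem _ (zc_le_vm ((mem_center_iff_zc hσ).1 hw)) k
    · obtain ⟨o', ho'⟩ := h.pre.frame.sit.core_le
        ((FittingCores.pCore_normal (G := G) p).conj_mem (σ o) ho k⁻¹)
      have ho'R : σ o' ∈ Cfsg.pCore p G := ho' ▸ (FittingCores.pCore_normal (G := G) p).conj_mem (σ o) ho k⁻¹
      have h1 : o' * (w : P) = w * o' := hσ (by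
        rw [map_mul, map_mul, ho']
        have e1 := congrArg σ hcom
        rw [map_mul, map_mul, hτ] at e1
        calc k⁻¹ * σ o * k⁻¹⁻¹ * σ w = k⁻¹ * (σ o * (k * σ w * k⁻¹)) * k := by group
          _ = k⁻¹ * (k * σ w * k⁻¹ * σ o) * k := by rw [e1]
          _ = _ := by group)
      have h2 := congrArg σ (hww o' ho'R h1)
      rw [map_mul, map_mul, ho'] at h2
      refine hσ ?_
      rw [map_mul, map_mul, hτ]
      calc σ o * (k * σ w' * k⁻¹) = k * (k⁻¹ * σ o * k⁻¹⁻¹ * σ w') * k⁻¹ := by group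
        _ = k * (σ w' * (k⁻¹ * σ o * k⁻¹⁻¹)) * k⁻¹ := by rw [h2]
        _ = _ := by group
  nrm_fixed := fun W hW a ha hfix => by
    rw [sup_map hσ h]
    refine (low_map hσ h hW).normal_of_fixed h ⟨a, rfl⟩ ha fun x hx => ?_
    obtain ⟨x', rfl⟩ := h.pre.frame.sit.core_le ((low_map hσ h hW).conjOf_le hx)
    rw [← map_commutatorElement]
    exact hfix x' hx
  nrm_conj := fun W hW hle => by
    rw [sup_map hσ h]
    refine Ctx.normal_of_conjOf fun x hx => ?_
    obtain ⟨x', rfl⟩ := h.pre.frame.sit.core_le ((low_map hσ h hW).conjOf_le hx)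
    rw [← sup_map hσ h]
    exact mem_map_of_mem σ (hle x' hx)
  nrm_le := fun W hW hle => by
    rw [sup_map hσ h]
    refine (low_map hσ h hW).normal_of_le h ?_
    have := map_mono (f := σ) hle
    rwa [sup_map hσ h, map_comap_range (qz_le.trans h.pre.frame.sit.core_le)] at this
  conj_of_nrm := fun W _ hn x hx => by
    rw [sup_map hσ h] at hn
    refine (Subgroup.mem_map_iff_mem hσ).1 ?_
    rw [sup_map hσ h]
    exact conjOf_le_of_normal hn hx
  collapse := fun W hW hn hWS hcase a ha hfix => by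
    rw [sup_map hσ h] at hn
    have hc := (low_map hσ h hW).collapse h hn (by
        rintro _ ⟨w, hw, rfl⟩ _ ⟨s, rfl⟩
        rw [← map_commutatorElement]
        exact (mem_center_iff_zc hσ).1 (hWS w hw s)) (by
        rcases hcase with hc | hc
        · refine Or.inl ?_
          intro x hx
          rintro _ ⟨w, hw, rfl⟩
          obtain ⟨x', rfl⟩ := h.pre.frame.sit.core_le (h.hSub_facts.1.le hx)
          rw [← map_mul, ← map_mul, hc x' hx w hw]
        · refine Or.inr ?_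
          rintro _ ⟨w, hw, rfl⟩ o ho
          obtain ⟨o', rfl⟩ := h.pre.frame.sit.core_le ho
          rw [← map_commutatorElement]
          exact hc w hw o' ho) ⟨a, rfl⟩ ha (fun o ho hco => by
        obtain ⟨o', rfl⟩ := h.pre.frame.sit.core_le ho
        rw [← map_commutatorElement]
        exact hfix o' ho fun w hw => hσ (by rw [map_mul, map_mul]; exact hco _ (mem_map_of_mem σ hw)))
    refine ⟨map_le_iff_le_comap.1 (by rw [powComm_core hσ h]; exact hc.1), fun hodd => ?_⟩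
    refine (map_le_map_iff_of_injective hσ).1 ?_
    rw [map_comap_range h.pre.frame.sit.core_le, sup_map hσ h,
      map_comap_range (qz_le.trans h.pre.frame.sit.core_le)]
    exact hc.2 hodd
  cubic := fun h2 hP o ho a b => by
    show σ ⁅⁅o, a⁆, b⁆ ∈ qz p G
    rw [map_commutatorElement, map_commutatorElement]
    refine h.cubic h2 ?_ ho ⟨a, rfl⟩ ⟨b, rfl⟩
    rw [← powComm_core hσ h]
    exact map_le_iff_le_comap.2 hP
  weight := fun h2 h3 W hW hnn X hVX hXU hX hU hUR hcard u hu a b => by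
    show σ ⁅⁅u, a⁆, b⁆ ∈ qz p G
    rw [map_commutatorElement, map_commutatorElement]
    rw [sup_map hσ h] at hnn
    have eU : ((vm σ.range).comap σ ⊔ closure (σ ⁻¹' conjOf (W.map σ))).map σ =
        vm σ.range ⊔ closure (conjOf (W.map σ)) := by rw [sup_map hσ h, closure_conj_map hσ h hW]
    refine h.center_le_qz ((low_map hσ h hW).weight h h2 h3 hnn (X := X.map σ) ?_ ?_ ?_ ?_ ?_ ?_
      (eU.le (mem_map_of_mem σ hu)) ⟨a, rfl⟩ ⟨b, rfl⟩)
    · exact (map_comap_range h.pre.vm_le).ge.trans (map_mono hVX)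
    · exact (map_mono hXU).trans eU.le
    · rintro _ ⟨x, hx, rfl⟩ _ ⟨s, rfl⟩
      rw [← map_commutatorElement]
      exact (mem_center_iff_zc hσ).1 (hX x hx s)
    · intro y hy
      rintro _ ⟨s, rfl⟩
      obtain ⟨u', hu', rfl⟩ := eU.ge hy
      rw [← map_commutatorElement]
      exact mem_map_of_mem σ (hU u' hu' s)
    · intro y hy o ho
      obtain ⟨o', rfl⟩ := h.pre.frame.sit.core_le ho
      obtain ⟨u', hu', rfl⟩ := eU.ge hy
      have := hUR u' hu' o' ho
      rw [← map_commutatorElement]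
      exact h.vm_inf_qz (zc_le_vm ((mem_center_iff_zc hσ).1 this.1)) this.2
    · rw [← eU, card_map_of_injective hσ, card_map_of_injective hσ]
      refine Nat.le_of_mul_le_mul_left ?_ (Nat.card_pos (α := ↥(Cfsg.pCore p G)))
      have hR : Nat.card ↥((Cfsg.pCore p G).comap σ) = Nat.card ↥(Cfsg.pCore p G) := by
        rw [← card_map_of_injective (f := σ) hσ, map_comap_range h.pre.frame.sit.core_le]
      rw [hR, ← card_range hσ, h.pre.frame.card_S] at hcard
      calc Nat.card ↥(Cfsg.pCore p G) * _ = _ := mul_comm _ _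
        _ ≤ _ := hcard
        _ = _ := by ring

end make

end Cfsg.Agent.PushUp3
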