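/-
Pushing up with a centrally large core, part 9: the criterion for a side to be good.
-/
import Cfsg.Agent.Lib.PushUp3.Side

set_option autoImplicit false

namespace Cfsg.Agent.PushUp3

open Subgroup PushUp
open scoped commutatorElement Pointwise

variable {P : Type*} [Group P]

theorem zone_normal (N : Subgroup P) [N.Normal] (K : Subgroup P) [hK : K.Normal] : (zone N K).Normal :=
  ⟨fun n hn x => zone_conj (fun k hk => by simpa using hK.conj_mem k hk x⁻¹) hn⟩

instance zone_top_normal (N : Subgroup P) [N.Normal] : (zone N (⊤ : Subgroup P)).Normal := zone_normal N ⊤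

theorem zone_mono {N N' : Subgroup P} [N.Normal] [N'.Normal] (h : N ≤ N') {K : Subgroup P} :
    zone N K ≤ zone N' K := fun _ hn => mem_zone.2 fun k hk => h (mem_zone.1 hn k hk)

theorem center_le_zone {N : Subgroup P} [N.Normal] {K : Subgroup P} : center P ≤ zone N K := fun z hz =>
  mem_zone.2 fun k _ => by
    rw [commutatorElement_eq_one_iff_mul_comm.2 (mem_center_iff.1 hz k).symm]
    exact one_mem _

theorem powComm_normal' {p : ℕ} (N : Subgroup P) [hN : N.Normal] : (powComm p N).Normal := by
  refine ⟨fun n hn x => ?_⟩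
  have := mem_map_of_mem (MulAut.conj x).toMonoidHom hn
  rwa [powComm_map, show N.map (MulAut.conj x).toMonoidHom = N from
    mem_normalizer_iff_map_conj_eq.1 (by rw [normalizer_eq_top (H := N)]; exact mem_top x)] at this

/-- Commutators and powers of a group are controlled by those of its generators. -/
theorem powComm_closure_le {p : ℕ} {s : Set P} {M : Subgroup P} [M.Normal]
    (hc : ∀ x ∈ s, ∀ y ∈ s, ⁅x, y⁆ ∈ M) (hp : ∀ x ∈ s, x ^ p ∈ M) : powComm p (closure s) ≤ M := by
  set π := QuotientGroup.mk' M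
  have hz : ∀ {x : P}, π x = 1 ↔ x ∈ M := fun {x} => QuotientGroup.eq_one_iff x
  have hcomm : ∀ x ∈ closure s, ∀ y ∈ closure s, ⁅x, y⁆ ∈ M := by
    have h1 : ∀ x ∈ s, closure s ≤ commSet M x := fun x hx =>
      (closure_le _).2 fun y hy => mem_commSet.2 (hc y hy x hx)
    intro x hx y hy
    have h2 : closure s ≤ commSet M y :=
      (closure_le _).2 fun z hz' => mem_commSet.2 (comm_swap (mem_commSet.1 (h1 z hz' hy)))
    exact h2 hx
  refine powComm_le hcomm fun a ha => ?_
  let H : Subgroup P :=
    { carrier := {x | x ∈ closure s ∧ x ^ p ∈ M}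
      one_mem' := ⟨one_mem _, by simp⟩
      mul_mem' := fun {x y} hx hy => ⟨mul_mem hx.1 hy.1, hz.1 (by
        have hcm : Commute (π x) (π y) := by
          refine commutatorElement_eq_one_iff_mul_comm.1 ?_
          rw [← map_commutatorElement]
          exact hz.2 (hcomm x hx.1 y hy.1)
        rw [map_pow, map_mul, hcm.mul_pow, ← map_pow, ← map_pow, hz.2 hx.2, hz.2 hy.2, one_mul])⟩
      inv_mem' := fun {x} hx => ⟨inv_mem hx.1, by rw [inv_pow]; exact inv_mem hx.2⟩ }
  exact (((closure_le H).2 fun x hx => ⟨subset_closure hx, hp x hx⟩) ha).2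

/-- The second power formula. -/
theorem class_two_pow {Q : Type*} [Group Q] (x y : Q) (hc : ∀ w : Q, Commute ⁅y, x⁆ w) (n : ℕ) :
    (x * y) ^ n = x ^ n * y ^ n * ⁅y, x⁆ ^ n.choose 2 := by
  set c := ⁅y, x⁆ with hcd
  have hyx : y * x = c * (x * y) := by simp [hcd, commutatorElement_def, mul_assoc]
  have hn : ∀ m : ℕ, y ^ m * x = x * y ^ m * c ^ m := fun m => by
    induction m with
    | zero => simp
    | succ m ih =>
      calc y ^ (m + 1) * x = y ^ m * (y * x) := by rw [pow_succ, mul_assoc]
        _ = y ^ m * (c * (x * y)) := by rw [hyx]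
        _ = y ^ m * (x * y * c) := by rw [(hc (x * y)).eq]
        _ = y ^ m * x * (y * c) := by group
        _ = x * y ^ m * (c ^ m * y) * c := by rw [ih]; group
        _ = x * y ^ m * (y * c ^ m) * c := by rw [((hc y).pow_left m).eq]
        _ = _ := by rw [pow_succ, pow_succ]; group
  induction n with
  | zero => simp
  | succ n ih =>
    have e : (n + 1).choose 2 = n + n.choose 2 := by rw [Nat.choose_succ_succ, Nat.choose_one_right]
    rw [pow_succ, ih, e, pow_add, pow_succ x, pow_succ y]
    calc x ^ n * y ^ n * c ^ n.choose 2 * (x * y)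
        = x ^ n * y ^ n * (c ^ n.choose 2 * (x * y)) := by group
      _ = x ^ n * y ^ n * (x * y * c ^ n.choose 2) := by rw [((hc (x * y)).pow_left _).eq]
      _ = x ^ n * (y ^ n * x) * y * c ^ n.choose 2 := by group
      _ = x ^ n * x * y ^ n * (c ^ n * y) * c ^ n.choose 2 := by rw [hn]; group
      _ = x ^ n * x * y ^ n * (y * c ^ n) * c ^ n.choose 2 := by rw [((hc y).pow_left n).eq]
      _ = _ := by group

/-- `[Φ(P), P] Φ(Φ(P))` and its variants. -/
noncomputable def sZero (p : ℕ) (P : Type*) [Group P] : Subgroup P :=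
  if p = 2 then ⁅frattini P, (⊤ : Subgroup P)⁆ ⊔ (frattini ↥(frattini P)).map (frattini P).subtype
  else if p = 3 then ⁅⁅frattini P, (⊤ : Subgroup P)⁆, (⊤ : Subgroup P)⁆ ⊔
    (frattini ↥(frattini P)).map (frattini P).subtype
  else ⁅frattini P, (⊤ : Subgroup P)⁆ ⊔ Cfsg.powerClosure p 1 (⊤ : Subgroup P)

variable [Finite P] {p : ℕ} [hp : Fact p.Prime]

theorem frattini_top (hP : IsPGroup p P) : frattini P = powComm p (⊤ : Subgroup P) := by
  refine le_antisymm (LEFrattini.frattini_le (p := p) (fun x y => comm_mem_powComm (mem_top x) (mem_top y))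
    fun x => pow_mem_powComm (mem_top x)) (powComm_le (fun a _ b _ => ?_) fun a _ => ?_)
  · exact MaximalCount.comm_mem_frattini (p := p) hP a b
  · exact MaximalCount.mem_frattini_pow (p := p) hP a

/-- The criterion. -/
theorem Side.criterion (D : Side p P) (hP : IsPGroup p P) (hR : powComm p D.R ≤ D.N) (T : Set P)
    (hgen : D.R ⊔ closure T = ⊤) (hTT : ∀ t ∈ T, ∀ t' ∈ T, ⁅t, t'⁆ ∈ center P) (hTp : ∀ t ∈ T, t ^ p = 1)
    (hz : haveI := D.normN
      if p = 3 then D.R ≤ zone (zone (zone D.N ⊤) ⊤) ⊤ else D.R ≤ zone (zone D.N ⊤) ⊤) :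
    sZero p P ≤ D.N := by
  have := D.normN
  have := D.normR
  have htop : (⊤ : Subgroup P) = closure ((D.R : Set P) ∪ T) := by
    rw [Subgroup.closure_union, closure_eq, hgen]
  have key : ∀ K : Subgroup P, ∀ [K.Normal], center P ≤ K → D.N ≤ K → D.R ≤ zone K ⊤ →
      frattini P ≤ K := by
    intro K _ hcK hNK hRK
    rw [frattini_top hP, htop]
    refine powComm_closure_le (fun x hx y hy => ?_) (fun x hx => ?_)
    · rcases hx with hx | hx
      · exact mem_zone.1 (hRK hx) y (mem_top y)
      rcases hy with hy | hy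
      · exact comm_swap (mem_zone.1 (hRK hy) x (mem_top x))
      · exact hcK (hTT x hx y hy)
    · rcases hx with hx | hx
      · exact hNK (hR (pow_mem_powComm hx))
      · rw [hTp x hx]; exact one_mem _
  have hΦR : frattini P ≤ D.R := key D.R (D.center_le.trans D.V_le) D.N_le le_zone
  have hΦΦ : (frattini ↥(frattini P)).map (frattini P).subtype ≤ D.N := by
    rw [frattini_eq_powComm hP]
    exact (powComm_le (fun a ha b hb => comm_mem_powComm (hΦR ha) (hΦR hb))
      fun a ha => pow_mem_powComm (hΦR ha)).trans hR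
  by_cases h3 : p = 3
  · rw [if_pos h3] at hz
    have hK := key (zone (zone D.N ⊤) ⊤) center_le_zone (le_zone.trans le_zone) hz
    rw [sZero, if_neg (by omega), if_pos h3]
    refine sup_le (commutator_le.2 fun a ha b _ => ?_) hΦΦ
    have h1 : ⁅frattini P, (⊤ : Subgroup P)⁆ ≤ zone D.N ⊤ :=
      commutator_le.2 fun c hc d _ => mem_zone.1 (hK hc) d (mem_top d)
    exact mem_zone.1 (h1 ha) b (mem_top b)
  rw [if_neg h3] at hz
  have hK := key (zone D.N ⊤) center_le_zone le_zone hz
  have hΦS : ⁅frattini P, (⊤ : Subgroup P)⁆ ≤ D.N :=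
    commutator_le.2 fun c hc d _ => mem_zone.1 (hK hc) d (mem_top d)
  by_cases h2 : p = 2
  · rw [sZero, if_pos h2]
    exact sup_le hΦS hΦΦ
  rw [sZero, if_neg h2, if_neg h3]
  refine sup_le hΦS ((closure_le _).2 ?_)
  rintro _ ⟨x, -, rfl⟩
  show x ^ p ^ 1 ∈ D.N
  rw [pow_one]
  set π := QuotientGroup.mk' D.N
  let H : Subgroup P :=
    { carrier := {y | y ^ p ∈ D.N}
      one_mem' := by simp
      mul_mem' := fun {a b} ha hb => by
        have hab : ⁅b, a⁆ ∈ frattini P := by
          rw [frattini_top hP]; exact comm_mem_powComm (mem_top b) (mem_top a)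
        refine (QuotientGroup.eq_one_iff _).1 ?_
        show π ((a * b) ^ p) = 1
        rw [map_pow, map_mul, class_two_pow _ _ (fun w => ?_) p, ← map_pow, ← map_pow,
          show π (a ^ p) = 1 from (QuotientGroup.eq_one_iff _).2 ha,
          show π (b ^ p) = 1 from (QuotientGroup.eq_one_iff _).2 hb, one_mul, one_mul]
        · obtain ⟨c, hc⟩ := hp.out.dvd_choose_self two_ne_zero (lt_of_le_of_ne hp.out.two_le (Ne.symm h2))
          rw [hc, pow_mul, ← map_commutatorElement, ← map_pow,
            show π (⁅b, a⁆ ^ p) = 1 from (QuotientGroup.eq_one_iff _).2 (hR (pow_mem_powComm (hΦR hab))),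
            one_pow]
        · obtain ⟨w, rfl⟩ := QuotientGroup.mk'_surjective D.N w
          refine commutatorElement_eq_one_iff_mul_comm.1 ?_
          rw [← map_commutatorElement, ← map_commutatorElement]
          exact (QuotientGroup.eq_one_iff _).2 (mem_zone.1 (hK hab) w (mem_top w))
      inv_mem' := fun {a} ha => by
        show a⁻¹ ^ p ∈ D.N
        rw [inv_pow]; exact inv_mem ha }
  have hH : (⊤ : Subgroup P) ≤ H := by
    rw [htop, closure_le]
    rintro y (hy | hy)
    · exact hR (pow_mem_powComm hy)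
    · show y ^ p ∈ D.N
      rw [hTp y hy]; exact one_mem _
  exact hH (mem_top x)

end Cfsg.Agent.PushUp3
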