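/-
Pushing up with a centrally large core, part 10: two sides on one group.
-/
import Cfsg.Agent.Lib.PushUp3.Criterion

set_option autoImplicit false

namespace Cfsg.Agent.PushUp3

open Subgroup PushUp
open scoped commutatorElement Pointwise

variable {P : Type*} [Group P] {p : ℕ}

/-- What is assumed of the `p`-group. -/
structure Setup (p : ℕ) (P : Type*) [Group P] : Prop where
  pg : IsPGroup p P
  zp : ∀ z ∈ center P, z ^ p = 1
  top : Nat.card P * Nat.card ↥(center P) = Cfsg.maxCentralizerProduct P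

/-- The closure of the conjugates. -/
def Side.U (D : Side p P) (W : Subgroup P) : Subgroup P := closure (D.conj W)

theorem Side.U_normal (D : Side p P) (W : Subgroup P) : (D.U W).Normal := by
  refine ⟨fun n hn x => ?_⟩
  have : D.U W ≤ (D.U W).comap (MulAut.conj x).toMonoidHom :=
    (closure_le _).2 fun y hy => subset_closure (D.conj_inv W y hy x)
  exact this hn

theorem Side.comm_R_V (D : Side p P) {o v : P} (ho : o ∈ D.R) (hv : v ∈ D.V) : v * o = o * v :=
  mem_centralizer_iff.1 (D.centV.ge ho) v hv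

theorem Side.low (D E : Side p P) (h : E.V ≤ D.R) : LowS D.R E.V :=
  ⟨h, E.normV, fun w hw o _ => E.commV w hw o⟩

variable [Finite P] [hp : Fact p.Prime]

theorem Side.card_V (D : Side p P) (hS : Setup p P) :
    Nat.card ↥D.V * Nat.card ↥D.R = Nat.card P * Nat.card ↥(center P) := by
  have h := D.largeR
  unfold Cfsg.IsCentralizerLarge at h
  rw [D.centR] at h
  rw [hS.top, ← h, mul_comm]

theorem Side.largeV (D : Side p P) : Cfsg.IsCentralizerLarge D.V := by
  rw [← D.centR]; exact CLarge.large_centralizer D.largeR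

/-- If the large member is not inside the other core, it covers the core with the intersection. -/
theorem Side.sup_H (D E : Side p P) (hH : ¬ D.H ≤ E.R) : D.H ⊔ (D.R ⊓ E.R) = D.R := by
  have hY := CLarge.large_inf D.largeR E.largeR
  have hM := CLarge.large_sup D.largeH hY
  have e : centralizer ((D.H ⊔ (D.R ⊓ E.R) : Subgroup P) : Set P) = D.V := by
    rw [Product.centralizer_sup, CLarge.centralizer_inf D.largeR E.largeR, D.centR, E.centR]
    refine le_antisymm ?_ (le_inf ?_ le_sup_left)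
    · intro x hx
      obtain ⟨v, hv, v', hv', rfl⟩ := CLarge.mem_mul_of_mem_sup (CLarge.coe_sup D.largeV E.largeV) hx.2
      obtain ⟨a, haH, haE⟩ := SetLike.not_le_iff_exists.1 hH
      have hc : ⁅v', a⁆ = 1 := by
        refine commutatorElement_eq_one_iff_mul_comm.2 ?_
        have h1 := mem_centralizer_iff.1 hx.1 a haH
        have h2 := D.comm_R_V (D.H_le haH) hv
        calc v' * a = v⁻¹ * (v * v' * a) := by group
          _ = v⁻¹ * (a * (v * v')) := by rw [h1]
          _ = v⁻¹ * (a * v) * v' := by group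
          _ = v⁻¹ * (v * a) * v' := by rw [h2]
          _ = a * v' := by group
      exact mul_mem hv (D.center_le ((E.nat v' hv' a (hc ▸ one_mem _)).resolve_right haE))
    · intro v hv
      exact mem_centralizer_iff.2 fun a ha => (D.comm_R_V (D.H_le ha) hv).symm
  rw [← CLarge.centralizer_centralizer hM, e, D.centV]

theorem Side.comm_N_of (D E : Side p P) (hV : E.V ≤ D.R) (hH : ¬ D.H ≤ E.R) :
    ∀ w ∈ E.V, ∀ o ∈ D.R, ⁅w, o⁆ ∈ D.N := by
  have := D.normN
  intro w hw o ho
  have hle : D.H ⊔ (D.R ⊓ E.R) ≤ commSet D.N w := sup_le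
    (fun x hx => mem_commSet.2 (comm_swap (D.central w (hV hw) (fun s => E.commV w hw s) x hx)))
    (fun y hy => by
      refine mem_commSet.2 ?_
      rw [commutatorElement_eq_one_iff_mul_comm.2 (E.comm_R_V hy.2 hw).symm]
      exact one_mem _)
  rw [D.sup_H E hH] at hle
  exact comm_swap (mem_commSet.1 (hle ho))

theorem Side.nrm_of_H (D E : Side p P) (hV : E.V ≤ D.R) (hH : D.H ≤ E.R) : D.Nrm (D.V ⊔ E.V) :=
  D.nrm_le E.V (D.low E hV) (fun _ hv =>
    D.centH (mem_centralizer_iff.2 fun _ hx => (E.comm_R_V (hH hx) hv).symm))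

/-- If the conjugates of `V₂` stay in the second core, `V₁ V₂` is normal in the first group. -/
theorem Side.nrm_of_conj (D E : Side p P) (hV : E.V ≤ D.R) (hT : ∀ x ∈ D.conj E.V, x ∈ E.R) :
    D.Nrm (D.V ⊔ E.V) := by
  by_cases hH : D.H ≤ E.R
  · exact D.nrm_of_H E hV hH
  have hW := D.low E hV
  have hq := D.comm_N_of E hV hH
  have := E.normN
  have := D.normR
  have := E.normH
  -- values in `N₂` vanish
  have hone : ∀ x ∈ D.conj E.V, ∀ o ∈ D.R, ⁅x, o⁆ ∈ E.N → ⁅x, o⁆ = 1 := by
    intro x hx o ho hN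
    obtain ⟨w, hw, o', ho', e⟩ := D.conj_val E.V hW hq x hx o ho
    rw [e] at hN ⊢
    rcases E.nat w hw o' hN with hz | hz
    · exact commutatorElement_eq_one_iff_mul_comm.2 (mem_center_iff.1 hz o').symm
    · exact commutatorElement_eq_one_iff_mul_comm.2 (E.comm_R_V hz hw)
  have hcen : ∀ x ∈ D.conj E.V, ∀ o ∈ D.R, ⁅x, o⁆ ∈ center P := fun x hx o ho => by
    obtain ⟨w, hw, o', -, e⟩ := D.conj_val E.V hW hq x hx o ho
    rw [e]
    exact E.commV w hw o'
  have fixed : ∀ a : P, a ∉ D.R →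
      (∀ x ∈ D.conj E.V, ∀ o ∈ D.R, ⁅x, ⁅o, a⁆⁆ = 1) → D.Nrm (D.V ⊔ E.V) := by
    intro a ha hkill
    refine D.nrm_fixed E.V hW a ha fun x hx => ?_
    have key : ∀ o ∈ D.R, ⁅a * x * a⁻¹, o⁆ = ⁅x, o⁆ := by
      intro o ho
      have hao : a⁻¹ * o * a ∈ D.R := by simpa using (inferInstance : D.R.Normal).conj_mem o ho a⁻¹
      set o' := a⁻¹ * o * a
      have e : o = ⁅o', a⁆⁻¹ * o' := by simp [o', commutatorElement_def, mul_assoc]
      have h1 : ⁅x, ⁅o', a⁆⁻¹⁆ = 1 := by
        rw [commutatorElement_eq_one_iff_mul_comm]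
        exact (Commute.inv_right (commutatorElement_eq_one_iff_mul_comm.1 (hkill x hx o' hao) :
          Commute x ⁅o', a⁆)).eq
      calc ⁅a * x * a⁻¹, o⁆ = a * ⁅x, o'⁆ * a⁻¹ := by simp [o', commutatorElement_def, mul_assoc]
        _ = ⁅x, o'⁆ := by rw [mem_center_iff.1 (hcen x hx o' hao) a, mul_inv_cancel_right]
        _ = _ := by
          rw [e, show ⁅x, ⁅o', a⁆⁻¹ * o'⁆ = ⁅x, ⁅o', a⁆⁻¹⁆ * (⁅o', a⁆⁻¹ * ⁅x, o'⁆ * ⁅o', a⁆⁻¹⁻¹) by
            simp [commutatorElement_def, mul_assoc], h1, one_mul,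
            mem_center_iff.1 (hcen x hx o' hao) ⁅o', a⁆⁻¹, mul_inv_cancel_right]
    set y := a * x * a⁻¹ with hy
    have hmem : x⁻¹ * y ∈ D.V := by
      rw [← D.centR]
      refine mem_centralizer_iff.2 fun o ho => ?_
      have e := key o ho
      rw [commutatorElement_def, commutatorElement_def] at e
      have e' : y * o * y⁻¹ = x * o * x⁻¹ := mul_right_cancel e
      calc o * (x⁻¹ * y) = x⁻¹ * (x * o * x⁻¹) * y := by group
        _ = x⁻¹ * (y * o * y⁻¹) * y := by rw [e']
        _ = x⁻¹ * y * o := by group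
    rw [show ⁅x, a⁆ = x * (x⁻¹ * y)⁻¹ * x⁻¹ by simp [hy, commutatorElement_def, mul_assoc]]
    exact D.normV.conj_mem _ (inv_mem hmem) x
  by_cases hN : E.N ≤ D.R
  · have hxc : ∀ x ∈ D.conj E.V, x ∈ E.H := by
      intro x hx
      rw [← CLarge.centralizer_centralizer E.largeH]
      have hle : E.V ⊔ E.N ≤ centralizer ({x} : Set P) := sup_le
        (fun v hv => mem_centralizer_singleton_iff.2 (E.comm_R_V (hT x hx) hv))
        (fun n hn => by
          refine mem_centralizer_singleton_iff.2 (commutatorElement_eq_one_iff_mul_comm.1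
            (hone x hx n (hN hn) ?_)).symm
          rw [show ⁅x, n⁆ = x * n * x⁻¹ * n⁻¹ from commutatorElement_def x n]
          exact mul_mem ((inferInstance : E.N.Normal).conj_mem n hn x) (inv_mem hn))
      exact mem_centralizer_iff.2 fun c hc => mem_centralizer_singleton_iff.1 (hle (E.centH hc))
    by_cases hH2 : E.H ≤ D.R
    · refine D.nrm_conj E.V hW fun x hx => ?_
      have hxc2 : x ∈ centralizer (E.H : Set P) := mem_centralizer_iff.2 fun k hk =>
        (commutatorElement_eq_one_iff_mul_comm.1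
          (hone x hx k (hH2 hk) (E.commH x (hxc x hx) k hk))).symm
      rw [← D.centR, ← E.centR, ← CLarge.centralizer_inf D.largeR E.largeR]
      refine mem_centralizer_iff.2 fun y hy => ?_
      refine (commutatorElement_eq_one_iff_mul_comm.1 (hone x hx y hy.1 ?_)).symm
      have hle : E.V ⊔ E.N ≤ commSet E.N y := sup_le
        (fun v hv => mem_commSet.2 (by
          rw [commutatorElement_eq_one_iff_mul_comm.2 (E.comm_R_V hy.2 hv)]
          exact one_mem _))
        (fun n hn => mem_commSet.2 (by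
          rw [show ⁅n, y⁆ = n * (y * n⁻¹ * y⁻¹) by simp [commutatorElement_def, mul_assoc]]
          exact mul_mem hn ((inferInstance : E.N.Normal).conj_mem _ (inv_mem hn) y)))
      exact mem_commSet.1 (hle (E.centH hxc2))
    obtain ⟨a, haH, haR⟩ := SetLike.not_le_iff_exists.1 hH2
    refine fixed a haR fun x hx o ho => ?_
    have hc : ⁅o, a⁆ ∈ E.H := by
      rw [commutatorElement_def]
      exact mul_mem ((inferInstance : E.H.Normal).conj_mem a haH o) (inv_mem haH)
    have hcR : ⁅o, a⁆ ∈ D.R := D.comm_le o a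
    exact hone x hx _ hcR (E.commH x (hxc x hx) _ hc)
  · obtain ⟨a, haN, haR⟩ := SetLike.not_le_iff_exists.1 hN
    refine fixed a haR fun x hx o ho => hone x hx _ (D.comm_le o a) ?_
    have hc : ⁅o, a⁆ ∈ E.N := by
      rw [commutatorElement_def]
      exact mul_mem ((inferInstance : E.N.Normal).conj_mem a haN o) (inv_mem haN)
    rw [show ⁅x, ⁅o, a⁆⁆ = x * ⁅o, a⁆ * x⁻¹ * ⁅o, a⁆⁻¹ from commutatorElement_def x _]
    exact mul_mem ((inferInstance : E.N.Normal).conj_mem _ hc x) (inv_mem hc)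

/-- An edge makes the first side good. -/
theorem Side.edge (D E : Side p P) (hS : Setup p P) (hV : ¬ E.V ≤ D.R) : sZero p P ≤ D.N := by
  have hV' : ¬ D.V ≤ E.R := fun h => hV fun v hv => by
    rw [← D.centV]
    exact mem_centralizer_iff.2 fun u hu => (E.comm_R_V (h hu) hv).symm
  have := D.normR
  have := E.normR
  have := D.normN
  have hint : ∀ (A B : Side p P), ¬ B.V ≤ A.R → A.V ⊓ B.R ≤ center P := by
    intro A B h v hv
    by_contra hz
    refine h fun u hu => ?_
    refine (A.nat v hv.1 u ?_).resolve_left hz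
    rw [commutatorElement_eq_one_iff_mul_comm.2 (B.comm_R_V hv.2 hu).symm]
    exact one_mem _
  -- the cores and the modules pair up
  have hcard : ∀ (A B : Side p P), ¬ B.V ≤ A.R →
      Nat.card ↥A.V * Nat.card ↥B.R ≤ Nat.card ↥(A.V ⊔ B.R) * Nat.card ↥(center P) := fun A B h =>
    (Product.card_mul_card_le A.V B.R).trans (Nat.mul_le_mul_left _ (card_le_of_le (hint A B h)))
  have h1 := hcard D E hV
  have h2 := hcard E D hV'
  have e1 := D.card_V hS
  have e2 := E.card_V hS
  have t1 : Nat.card ↥(D.V ⊔ E.R) ≤ Nat.card P := card_le_card_group _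
  have t2 : Nat.card ↥(E.V ⊔ D.R) ≤ Nat.card P := card_le_card_group _
  have htop1 : D.V ⊔ E.R = ⊤ := by
    refine eq_top_of_le_card _ ?_
    refine Nat.le_of_mul_le_mul_right ?_ (Nat.card_pos (α := ↥(center P)))
    have hge : Nat.card ↥E.V ≤ Nat.card ↥D.V := by
      refine Nat.le_of_mul_le_mul_right ?_ (Nat.card_pos (α := ↥D.R))
      rw [e1]
      exact h2.trans (Nat.mul_le_mul_right _ t2)
    rw [← e2]
    exact le_trans (Nat.mul_le_mul_right _ hge) h1
  have htop2 : E.V ⊔ D.R = ⊤ := by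
    refine eq_top_of_le_card _ ?_
    refine Nat.le_of_mul_le_mul_right ?_ (Nat.card_pos (α := ↥(center P)))
    have hge : Nat.card ↥D.V ≤ Nat.card ↥E.V := by
      refine Nat.le_of_mul_le_mul_right ?_ (Nat.card_pos (α := ↥E.R))
      rw [e2]
      exact h1.trans (Nat.mul_le_mul_right _ t1)
    rw [← e1]
    exact le_trans (Nat.mul_le_mul_right _ hge) h2
  -- the first core
  have hR : D.R = closure (((D.R ⊓ E.R : Subgroup P) : Set P) ∪ (D.V : Set P)) := by
    refine le_antisymm (fun o ho => ?_) ((closure_le _).2 ?_)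
    · obtain ⟨v, hv, r, hr, e⟩ := mem_sup_of_normal_right.1 (htop1.symm ▸ mem_top o : o ∈ D.V ⊔ E.R)
      rw [← e]
      refine mul_mem (subset_closure (Or.inr hv)) (subset_closure (Or.inl ⟨?_, hr⟩))
      have : r = v⁻¹ * o := by rw [← e, inv_mul_cancel_left]
      show r ∈ D.R
      rw [this]
      exact mul_mem (inv_mem (D.V_le hv)) ho
    · rintro x (hx | hx)
      exacts [hx.1, D.V_le hx]
  obtain ⟨a, haV, haR⟩ := SetLike.not_le_iff_exists.1 hV
  have hP : powComm p D.R ≤ D.N := by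
    refine D.cent a haR fun x hx => ?_
    have hle : powComm p D.R ≤ centralizer ({a} : Set P) := by
      have := powComm_normal' (p := p) (D.R ⊓ E.R)
      have hY : powComm p (D.R ⊓ E.R) ≤ centralizer ({a} : Set P) := by
        refine powComm_le (fun u hu v hv => ?_) (fun u hu => ?_)
        · have hm : ⁅u, v⁆ ∈ E.R := E.comm_le u v
          exact mem_centralizer_singleton_iff.2 (E.comm_R_V hm haV).symm
        · exact mem_centralizer_singleton_iff.2 (E.comm_R_V (pow_mem hu.2 p) haV).symm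
      refine le_trans (le_trans (le_of_eq (congrArg (powComm p) hR)) ?_) hY
      refine powComm_closure_le (fun u hu v hv => ?_) (fun u hu => ?_)
      · rcases hu with hu | hu
        · rcases hv with hv | hv
          · exact comm_mem_powComm hu hv
          · rw [commutatorElement_eq_one_iff_mul_comm.2 (D.comm_R_V hu.1 hv).symm]; exact one_mem _
        · have hvR : v ∈ D.R := hv.elim (fun h => h.1) (fun h => D.V_le h)
          rw [commutatorElement_eq_one_iff_mul_comm.2 (D.comm_R_V hvR hu)]; exact one_mem _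
      · rcases hu with hu | hu
        · exact pow_mem_powComm hu
        · rw [D.powV u hu]; exact one_mem _
    exact mem_centralizer_singleton_iff.1 (hle hx)
  refine D.criterion hS.pg hP E.V ?_ (fun t ht t' _ => E.commV t ht t') E.powV ?_
  · rw [closure_eq, sup_comm, htop2]
  have key : D.R ≤ zone (zone D.N ⊤) ⊤ := by
    intro o ho
    refine mem_zone.2 fun s _ => ?_
    have hle : E.V ⊔ D.R ≤ commSet (zone D.N (⊤ : Subgroup P)) o := sup_le
      (fun t ht => mem_commSet.2 (center_le_zone (E.commV t ht o)))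
      (fun r hr => mem_commSet.2 (le_zone (hP (comm_mem_powComm hr ho))))
    rw [htop2] at hle
    exact comm_swap (mem_commSet.1 (hle (mem_top s)))
  split_ifs
  · exact key.trans le_zone
  · exact key

/-- The facts in the case of a conjugate of `V₂` outside the second core. -/
theorem Side.outside (D E : Side p P) (hS : Setup p P) (hV : E.V ≤ D.R) (hV' : D.V ≤ E.R)
    {x : P} (hx : x ∈ D.conj E.V) (hxR : x ∉ E.R) :
    (∀ w ∈ E.V, ∀ o ∈ D.R, ⁅w, o⁆ ∈ D.N) ∧
      (∀ y ∈ D.conj E.V, ∀ o ∈ D.R, ⁅y, o⁆ ∈ center P ⊓ D.N) ∧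
      D.U E.V ≤ D.R ∧ E.R ⊔ D.U E.V = ⊤ ∧ (∀ y ∈ D.conj E.V, y ^ p = 1) ∧
      D.R = closure (((D.R ⊓ E.R : Subgroup P) : Set P) ∪ D.conj E.V) := by
  have hW := D.low E hV
  have hH : ¬ D.H ≤ E.R := fun hH => hxR (by
    have := D.conj_of_nrm E.V hW (D.nrm_of_H E hV hH) x hx
    exact (sup_le hV' E.V_le : D.V ⊔ E.V ≤ E.R) this)
  have hq := D.comm_N_of E hV hH
  have hUR : D.U E.V ≤ D.R := (closure_le _).2 (D.conj_le E.V hW)
  have := E.normR
  have := E.normV
  obtain ⟨τ, hτ, ⟨w₀, hw₀⟩, hτc, hτz, hτcom⟩ := D.conj_block E.V hW x hx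
  have hw₀z : (w₀ : P) ∉ center P := fun hz => hxR (hV' (hw₀ ▸ hτz w₀ hz))
  -- only the central part stays in the second core
  have hin : ∀ w : ↥E.V, τ w ∈ E.R → (w : P) ∈ center P := by
    intro w hw
    by_contra hz
    refine hxR ?_
    rw [← E.centV, ← hw₀]
    refine mem_centralizer_iff.2 fun v hv => ?_
    refine hτcom w w₀ (fun o _ ho => ?_) v (hV hv) (E.comm_R_V hw hv)
    have hoE : o ∈ E.R := (E.nat w w.2 o (by
      rw [commutatorElement_eq_one_iff_mul_comm.2 ho.symm]; exact one_mem _)).resolve_left hz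
    exact (E.comm_R_V hoE w₀.2).symm
  have hinf : Nat.card ↥(τ.range ⊓ E.R) ≤ Nat.card ↥(center P) := by
    refine le_trans (card_le_of_le (?_ : τ.range ⊓ E.R ≤ ((center P).subgroupOf E.V).map τ)) ?_
    · rintro _ ⟨⟨w, rfl⟩, hw⟩
      exact mem_map_of_mem τ (mem_subgroupOf.2 (hin w hw))
    · rw [card_map_of_injective hτ, Nat.card_congr (subgroupOfEquivOfLe E.center_le).toEquiv]
  have htop : τ.range ⊔ E.R = ⊤ := by
    refine eq_top_of_le_card _ (Nat.le_of_mul_le_mul_right ?_ (Nat.card_pos (α := ↥(center P))))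
    rw [← E.card_V hS, ← Nat.card_congr (MonoidHom.ofInjective hτ).toEquiv.symm]
    exact (Product.card_mul_card_le τ.range E.R).trans (Nat.mul_le_mul_left _ hinf)
  have htop' : E.R ⊔ D.U E.V = ⊤ := eq_top_iff.2 (htop.ge.trans (sup_le
    (le_trans (by rintro _ ⟨w, rfl⟩; exact subset_closure (hτc w)) le_sup_right) le_sup_left))
  refine ⟨hq, fun y hy o ho => ?_, hUR, htop', D.conj_pow E.V E.powV, ?_⟩
  · obtain ⟨w, hw, o', ho', e⟩ := D.conj_val E.V hW hq y hy o ho
    rw [e]
    exact ⟨E.commV w hw o', hq w hw o' ho'⟩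
  refine le_antisymm (fun o ho => ?_) ((closure_le _).2 ?_)
  · obtain ⟨r, hr, u, hu, e⟩ := mem_sup_of_normal_left.1 (htop'.symm ▸ mem_top o : o ∈ E.R ⊔ D.U E.V)
    rw [← e]
    refine mul_mem (subset_closure (Or.inl ⟨?_, hr⟩)) (closure_mono Set.subset_union_right hu)
    have : r = o * u⁻¹ := by rw [← e, mul_inv_cancel_right]
    show r ∈ D.R
    rw [this]
    exact mul_mem ho (inv_mem (hUR hu))
  · rintro y (hy | hy)
    exacts [hy.1, D.conj_le E.V hW y hy]

/-- A conjugate outside on one side only makes the second side good. -/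
theorem Side.one_outside (D E : Side p P) (hS : Setup p P) (hV : E.V ≤ D.R) (hV' : D.V ≤ E.R)
    {x : P} (hx : x ∈ D.conj E.V) (hxR : x ∉ E.R) (hT : ∀ y ∈ E.conj D.V, y ∈ D.R) :
    sZero p P ≤ E.N := by
  obtain ⟨-, hcen, hUR, htop, hpow, -⟩ := D.outside E hS hV hV' hx hxR
  have := E.normN
  have hn := E.nrm_of_conj D hV' hT
  obtain ⟨hP, hodd⟩ := E.collapse D.V (E.low D hV') hn (fun w hw s => D.commV w hw s)
    (by
      by_cases hH : E.H ≤ D.R
      · exact Or.inl fun y hy w hw => D.comm_R_V (hH hy) hw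
      · exact Or.inr (E.comm_N_of D hV' hH))
    x hxR (fun o ho hc => by
      have hoD : o ∈ D.R := by rw [← D.centV]; exact mem_centralizer_iff.2 hc
      refine E.center_le ?_
      rw [← commutatorElement_inv]
      exact inv_mem (hcen x hx o hoD).1)
  refine E.criterion hS.pg hP (D.conj E.V) htop
    (fun t ht t' ht' => (hcen t ht t' (hUR (subset_closure ht'))).1) hpow ?_
  have key : E.R ≤ zone (zone E.N ⊤) ⊤ := by
    by_cases h2 : p = 2
    · exact fun o ho => mem_zone.2 fun a _ => mem_zone.2 fun b _ => E.cubic h2 hP o ho a b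
    · exact (hodd h2).trans (sup_le
        (fun v hv => mem_zone.2 fun a _ => center_le_zone (E.commV v hv a)) (le_zone.trans le_zone))
  split_ifs
  · exact key.trans le_zone
  · exact key

/-- Commutators and powers of the first core centralised from outside. -/
theorem Side.powComm_le_of_both (D E : Side p P) (hS : Setup p P) (hV : E.V ≤ D.R) (hV' : D.V ≤ E.R)
    {x y : P} (hx : x ∈ D.conj E.V) (hxR : x ∉ E.R) (hy : y ∈ E.conj D.V) (hyR : y ∉ D.R) :
    powComm p D.R ≤ D.N := by
  obtain ⟨-, hcen, hUR, -, hpow, hgen⟩ := D.outside E hS hV hV' hx hxR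
  obtain ⟨-, hcen', -, -, -, -⟩ := E.outside D hS hV' hV hy hyR
  refine D.cent y hyR fun z hz => ?_
  have := D.normR
  have := E.normR
  have := powComm_normal' (p := p) (D.R ⊓ E.R)
  have hY : powComm p (D.R ⊓ E.R) ≤ centralizer ({y} : Set P) := by
    have move : ∀ u ∈ D.R ⊓ E.R, ∃ c ∈ center P, y * u * y⁻¹ = c * u := fun u hu =>
      ⟨⁅y, u⁆, (hcen' y hy u hu.2).1, by simp [commutatorElement_def, mul_assoc]⟩
    refine powComm_le (fun u hu v hv => ?_) (fun u hu => ?_)
    · obtain ⟨c, hc, ec⟩ := move u hu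
      obtain ⟨d, hd, ed⟩ := move v hv
      refine mem_centralizer_singleton_iff.2 ?_
      have e : y * ⁅u, v⁆ * y⁻¹ = ⁅u, v⁆ := by
        rw [show y * ⁅u, v⁆ * y⁻¹ = ⁅y * u * y⁻¹, y * v * y⁻¹⁆ by simp [commutatorElement_def, mul_assoc],
          ec, ed]
        have c1 : ∀ w, Commute c w := fun w => (mem_center_iff.1 hc w).symm
        have d1 : ∀ w, Commute d w := fun w => (mem_center_iff.1 hd w).symm
        rw [commutatorElement_def, commutatorElement_def, mul_inv_rev, mul_inv_rev]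
        calc c * u * (d * v) * (u⁻¹ * c⁻¹) * (v⁻¹ * d⁻¹)
            = c * (u * d) * v * u⁻¹ * (c⁻¹ * v⁻¹) * d⁻¹ := by group
          _ = c * (d * u) * v * u⁻¹ * (v⁻¹ * c⁻¹) * d⁻¹ := by rw [(d1 u).eq, (c1 v⁻¹).inv_left.eq]
          _ = c * d * (u * v * u⁻¹ * v⁻¹) * (c⁻¹ * d⁻¹) := by group
          _ = (u * v * u⁻¹ * v⁻¹) * (c * d) * (c⁻¹ * d⁻¹) := by rw [((c1 _).mul_left (d1 _)).eq]
          _ = (u * v * u⁻¹ * v⁻¹) * (d * c) * (c⁻¹ * d⁻¹) := by rw [(c1 d).eq]
          _ = _ := by group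
      calc ⁅u, v⁆ * y = y * ⁅u, v⁆ * y⁻¹ * y := by rw [e]
        _ = y * ⁅u, v⁆ := by group
    · obtain ⟨c, hc, ec⟩ := move u hu
      refine mem_centralizer_singleton_iff.2 ?_
      have e : y * u ^ p * y⁻¹ = u ^ p := by
        rw [← _root_.conj_pow, ec, (show Commute c u from (mem_center_iff.1 hc u).symm).mul_pow, hS.zp c hc, one_mul]
      calc u ^ p * y = y * u ^ p * y⁻¹ * y := by rw [e]
        _ = y * u ^ p := by group
  have hZ : center P ≤ centralizer ({y} : Set P) := fun c hc =>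
    mem_centralizer_singleton_iff.2 (mem_center_iff.1 hc y).symm
  have hle : powComm p D.R ≤ center P ⊔ powComm p (D.R ⊓ E.R) := by
    refine le_trans (le_of_eq (congrArg (powComm p) hgen)) ?_
    refine powComm_closure_le (fun u hu v hv => ?_) (fun u hu => ?_)
    · rcases hu with hu | hu
      · rcases hv with hv | hv
        · exact mem_sup_right (comm_mem_powComm hu hv)
        · exact mem_sup_left (by rw [← commutatorElement_inv]; exact inv_mem (hcen v hv u hu.1).1)
      · exact mem_sup_left (hcen u hu v (hv.elim (fun h => h.1) fun h => hUR (subset_closure h))).1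
    · rcases hu with hu | hu
      · exact mem_sup_right (pow_mem_powComm hu)
      · rw [hpow u hu]; exact one_mem _
  exact mem_centralizer_singleton_iff.1 ((hle.trans (sup_le hZ hY)) hz)

/-- Conjugates outside on both sides make one side good. -/
theorem Side.both_outside (D E : Side p P) (hS : Setup p P) (hV : E.V ≤ D.R) (hV' : D.V ≤ E.R)
    {x y : P} (hx : x ∈ D.conj E.V) (hxR : x ∉ E.R) (hy : y ∈ E.conj D.V) (hyR : y ∉ D.R)
    (hcard : Nat.card ↥D.R ≤ Nat.card ↥E.R) : sZero p P ≤ D.N := by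
  have hP := D.powComm_le_of_both E hS hV hV' hx hxR hy hyR
  obtain ⟨-, hcen, hUR, htop₁, -, hgen⟩ := D.outside E hS hV hV' hx hxR
  obtain ⟨-, hcen', hUR', htop, hpow', -⟩ := E.outside D hS hV' hV hy hyR
  have := D.normN
  have := D.normR
  have := E.normR
  have := D.normV
  have := D.U_normal E.V
  have := E.U_normal D.V
  refine D.criterion hS.pg hP (E.conj D.V) htop
    (fun t ht t' ht' => (hcen' t ht t' (hUR' (subset_closure ht'))).1) hpow' ?_
  -- a subgroup moved into a normal one by the generators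
  have gen : ∀ (M : Subgroup P) [M.Normal] (u : P), (∀ o ∈ D.R, ⁅o, u⁆ ∈ M) →
      (∀ t ∈ E.conj D.V, ⁅t, u⁆ ∈ M) → u ∈ zone M ⊤ := by
    intro M _ u h1 h2
    refine mem_zone.2 fun s _ => ?_
    have hle : D.R ⊔ E.U D.V ≤ commSet M u := sup_le h1 ((closure_le _).2 h2)
    rw [htop] at hle
    exact comm_swap (mem_commSet.1 (hle (mem_top s)))
  have hN1 : D.N ≤ zone D.N ⊤ := le_zone
  by_cases h3 : p = 3
  · rw [if_pos h3]
    set M := (D.U E.V ⊓ E.U D.V) ⊔ center P ⊔ D.N
    have hMn : M.Normal := inferInstance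
    have hM : M ≤ zone (zone D.N ⊤) ⊤ := by
      refine sup_le (sup_le (fun m hm => gen _ m (fun o ho => ?_) (fun t ht => ?_)) center_le_zone)
        (hN1.trans le_zone)
      · exact hN1 (hP (comm_mem_powComm ho (hUR hm.1)))
      · exact center_le_zone (hcen' t ht m (hUR' hm.2)).1
    refine le_trans ?_ (zone_mono hM)
    rw [hgen, closure_le]
    rintro u (hu | hu)
    · exact gen M u (fun o ho => mem_sup_right (hP (comm_mem_powComm ho hu.1)))
        fun t ht => mem_sup_left (mem_sup_right (hcen' t ht u hu.2).1)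
    · refine gen M u (fun o ho => mem_sup_right (hP (comm_mem_powComm ho (hUR (subset_closure hu))))) ?_
      intro t ht
      refine mem_sup_left (mem_sup_left (mem_inf.2 ⟨?_, ?_⟩))
      · rw [show ⁅t, u⁆ = t * u * t⁻¹ * u⁻¹ from commutatorElement_def t u]
        exact mul_mem ((inferInstance : (D.U E.V).Normal).conj_mem u (subset_closure hu) t)
          (inv_mem (subset_closure hu))
      · rw [show ⁅t, u⁆ = t * (u * t⁻¹ * u⁻¹) by simp [commutatorElement_def, mul_assoc]]
        exact mul_mem (subset_closure ht)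
          ((inferInstance : (E.U D.V).Normal).conj_mem _ (inv_mem (subset_closure ht)) u)
  rw [if_neg h3]
  by_cases h2 : p = 2
  · exact fun o ho => mem_zone.2 fun a _ => mem_zone.2 fun b _ => D.cubic h2 hP o ho a b
  have hnn : ¬ D.Nrm (D.V ⊔ E.V) := fun hn =>
    hxR ((sup_le hV' E.V_le : D.V ⊔ E.V ≤ E.R) (D.conj_of_nrm E.V (D.low E hV) hn x hx))
  set U := D.V ⊔ closure (D.conj E.V) with hUdef
  have hUn : U.Normal := by
    show (D.V ⊔ D.U E.V).Normal
    infer_instance
  have hUle : U ≤ D.R := sup_le D.V_le hUR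
  have hUz : ∀ u ∈ U, ∀ o ∈ D.R, ⁅u, o⁆ ∈ center P ⊓ D.N := by
    have hle : U ≤ zone (center P ⊓ D.N) D.R := sup_le
      (fun v hv => mem_zone.2 fun o ho => by
        rw [commutatorElement_eq_one_iff_mul_comm.2 (D.comm_R_V ho hv)]; exact one_mem _)
      ((closure_le _).2 fun t ht => mem_zone.2 (hcen t ht))
    exact fun u hu => mem_zone.1 (hle hu)
  have hw : ∀ u ∈ U, ∀ a b : P, ⁅⁅u, a⁆, b⁆ ∈ D.N := by
    refine D.weight h2 h3 E.V (D.low E hV) hnn (U ⊓ E.R) (le_inf le_sup_left hV') inf_le_left ?_ ?_ hUz ?_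
    · intro m hm s
      have hle : D.R ⊔ E.U D.V ≤ commSet (center P) m := sup_le
        (fun o ho => mem_commSet.2 (comm_swap (hUz m hm.1 o ho).1))
        ((closure_le _).2 fun t ht => mem_commSet.2 (hcen' t ht m hm.2).1)
      rw [htop] at hle
      exact comm_swap (mem_commSet.1 (hle (mem_top s)))
    · intro u hu s
      refine ⟨?_, E.comm_le u s⟩
      rw [show ⁅u, s⁆ = u * (s * u⁻¹ * s⁻¹) by simp [commutatorElement_def, mul_assoc]]
      exact mul_mem hu (hUn.conj_mem _ (inv_mem hu) s)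
    · refine le_trans (Nat.mul_le_mul_left _ hcard) ?_
      exact (Product.card_mul_card_le U E.R).trans (Nat.mul_le_mul_right _ (card_le_card_group _))
  rw [hgen, closure_le]
  rintro u (hu | hu)
  · exact gen _ u (fun o ho => hN1 (hP (comm_mem_powComm ho hu.1)))
      fun t ht => center_le_zone (hcen' t ht u hu.2).1
  · exact mem_zone.2 fun a _ => mem_zone.2 fun b _ => hw u (mem_sup_right (subset_closure hu)) a b

/-- Two sides which are not good. -/
theorem Side.bad_pair (D E : Side p P) (hS : Setup p P) (hD : ¬ sZero p P ≤ D.N) (hE : ¬ sZero p P ≤ E.N) :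
    E.V ≤ D.R ∧ D.Nrm (D.V ⊔ E.V) := by
  have hV : E.V ≤ D.R := by_contra fun h => hD (D.edge E hS h)
  have hV' : D.V ≤ E.R := by_contra fun h => hE (E.edge D hS h)
  refine ⟨hV, D.nrm_of_conj E hV fun x hx => by_contra fun hxR => ?_⟩
  by_cases hT : ∀ y ∈ E.conj D.V, y ∈ D.R
  · exact hE (D.one_outside E hS hV hV' hx hxR hT)
  push Not at hT
  obtain ⟨y, hy, hyR⟩ := hT
  rcases le_total (Nat.card ↥D.R) (Nat.card ↥E.R) with hc | hc
  · exact hD (D.both_outside E hS hV hV' hx hxR hy hyR hc)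
  · exact hE (E.both_outside D hS hV' hV hy hyR hx hxR hc)

end Cfsg.Agent.PushUp3
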