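/-
Pushing up with a centrally large core, part 11: two characteristic subgroups.
-/
import Cfsg.Agent.Lib.PushUp3.Cross
import Cfsg.Agent.Lib.PushUp.Rank1
import Cfsg.Agent.Lib.CentrallyLarge.Minimal

set_option autoImplicit false

namespace Cfsg.Agent.PushUp3

open Subgroup PushUp PushUp2
open scoped commutatorElement Pointwise

universe u

variable {S : Type u} [Group S]

/-- `C(Z(J))` -/
def jt (S : Type u) [Group S] : Subgroup S :=
  centralizer ((Cfsg.thompsonSubgroupA S ⊓ centralizer (Cfsg.thompsonSubgroupA S : Set S) : Subgroup S) : Set S)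

/-- One of the two subgroups is normal in every group of the situation. -/
def Out (p : ℕ) (S₁ S₂ : Subgroup S) : Prop :=
  ∀ (G : Type u) [Group G] [Finite G] (σ : S →* G), Function.Injective σ →
    Cfsg.IsPushingUpSituation p σ.range → (S₁.map σ).Normal ∨ (S₂.map σ).Normal

/-- The conclusion. -/
structure Good (p : ℕ) (S₁ S₂ : Subgroup S) : Prop where
  ne₁ : S₁ ≠ ⊥
  ne₂ : S₂ ≠ ⊥
  char₁ : S₁.Characteristic
  char₂ : S₂.Characteristic
  le₁ : S₁ ≤ center S
  le₂ : S₂ ≤ jt S
  charT : (S₂.subgroupOf (jt S)).Characteristic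
  out : Out p S₁ S₂

/-- The conclusion with a centrally large subgroup. -/
def HasCL (p : ℕ) (S : Type u) [Group S] : Prop :=
  ∃ S₁ S₂ : Subgroup S, Good p S₁ S₂ ∧
    Cfsg.maxCentralProduct ↥S₂ = Cfsg.maxCentralProduct ↥(jt S)

theorem char_subgroupOf_self (T : Subgroup S) : (T.subgroupOf T).Characteristic := by
  rw [subgroupOf_self]; infer_instance

theorem char_subgroupOf_top {T H : Subgroup S} (hT : T = ⊤) (hH : H.Characteristic) :
    (H.subgroupOf T).Characteristic := by
  subst hT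
  refine characteristic_iff_comap_eq.2 fun φ => ?_
  have e := characteristic_iff_comap_eq.1 hH ((Subgroup.topEquiv.symm.trans φ).trans Subgroup.topEquiv)
  ext x
  exact SetLike.ext_iff.1 e (x : S)

theorem card_center_map {H : Type*} [Group H] {f : S →* H} (hf : Function.Injective f) (R : Subgroup S) :
    Nat.card ↥(R.map f) * Nat.card ↥(center ↥(R.map f)) = Nat.card ↥R * Nat.card ↥(center ↥R) := by
  rw [card_map_of_injective hf,
    Nat.card_congr (Subgroup.centerCongr (R.equivMapOfInjective f hf)).toEquiv]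

variable [Finite S]

theorem maxCentral_le (R : Subgroup S) :
    Nat.card ↥R * Nat.card ↥(center ↥R) ≤ Cfsg.maxCentralProduct S :=
  le_csSup ((Set.finite_range fun R : Subgroup S => Nat.card ↥R * Nat.card ↥(center ↥R)).bddAbove)
    ⟨R, rfl⟩

theorem maxCentral_sub_le (H : Subgroup S) :
    Cfsg.maxCentralProduct ↥H ≤ Cfsg.maxCentralProduct S := by
  refine csSup_le' ?_
  rintro _ ⟨R, rfl⟩
  rw [← card_center_map H.subtype_injective R]
  exact maxCentral_le _

theorem maxCentral_of_cl {H : Subgroup S} (hH : Cfsg.IsCentrallyLarge H) :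
    Cfsg.maxCentralProduct ↥H = Cfsg.maxCentralProduct S := by
  refine le_antisymm (maxCentral_sub_le H) ?_
  unfold Cfsg.IsCentrallyLarge at hH
  have e := card_center_map H.subtype_injective (⊤ : Subgroup ↥H)
  rw [← MonoidHom.range_eq_map, range_subtype] at e
  rw [← hH, e]
  exact maxCentral_le _

theorem maxCentral_eq_jt (hjt : jt S = ⊤) {H : Subgroup S} (hH : Cfsg.IsCentrallyLarge H) :
    Cfsg.maxCentralProduct ↥H = Cfsg.maxCentralProduct ↥(jt S) := by
  obtain ⟨R, hR⟩ := CLarge.exists_cl (P := S)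
  have htop : ∀ T : Subgroup S, T = ⊤ → Cfsg.maxCentralProduct ↥T = Cfsg.maxCentralProduct S := by
    rintro _ rfl
    refine le_antisymm (maxCentral_sub_le ⊤) ?_
    refine csSup_le' ?_
    rintro _ ⟨X, rfl⟩
    rw [← map_comap_range (σ := (⊤ : Subgroup S).subtype) (U := X) (by rw [range_subtype]; exact le_top),
      card_center_map (⊤ : Subgroup S).subtype_injective]
    exact maxCentral_le _
  rw [maxCentral_of_cl hH, htop _ hjt]

variable {p : ℕ} [hp : Fact p.Prime]

theorem center_ne_bot [Nontrivial S] (hS : IsPGroup p S) : center S ≠ ⊥ := fun h => by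
  have := hS.center_nontrivial
  exact Subgroup.nontrivial_iff_ne_bot _ |>.1 this h

theorem inf_center_ne_bot (hS : IsPGroup p S) {N : Subgroup S} [N.Normal] (hN : N ≠ ⊥) :
    N ⊓ center S ≠ ⊥ := by
  intro h
  have := hS.isNilpotent
  obtain ⟨n, hn⟩ := Group.IsNilpotent.nilpotent S
  have key : ∀ k, N ⊓ Subgroup.upperCentralSeries S k ≤ (⊥ : Subgroup S) := fun k => by
    induction k with
    | zero => simp
    | succ k ih =>
      intro x hx
      refine h.le ⟨hx.1, mem_center_iff.2 fun y => ?_⟩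
      have h1 : ⁅x, y⁆ ∈ N := by
        rw [show ⁅x, y⁆ = x * (y * x⁻¹ * y⁻¹) by simp [commutatorElement_def, mul_assoc]]
        exact mul_mem hx.1 ((inferInstance : N.Normal).conj_mem _ (inv_mem hx.1) y)
      exact (commutatorElement_eq_one_iff_mul_comm.1
        (mem_bot.1 (ih ⟨h1, Subgroup.mem_upperCentralSeries_succ_iff.1 hx.2 y⟩))).symm
  exact hN (le_bot_iff.1 (by simpa [hn] using key n))

omit [Finite S] hp in
theorem maxAbelian_iff (A : Subgroup S) :
    A ∈ Cfsg.maxAbelianSubgroups S ↔ ZJ.IsMaxIn p False ⊤ A :=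
  ⟨fun h => ⟨le_top, ⟨h.1, False.elim⟩, fun B _ hB => h.2 B hB.1⟩,
    fun h => ⟨h.2.1.1, fun B hB => h.2.2 B le_top ⟨hB, False.elim⟩⟩⟩

omit [Finite S] hp in
theorem thompson_eq : Cfsg.thompsonSubgroupA S = ZJ.jSub p False (⊤ : Subgroup S) := by
  rw [Cfsg.thompsonSubgroupA, ZJ.jSub]
  congr 1
  ext A
  exact maxAbelian_iff A

variable {G : Type u} [Group G] {σ : S →* G}

theorem map_thompson (hσ : Function.Injective σ) :
    (Cfsg.thompsonSubgroupA S).map σ = ZJ.jSub p False σ.range := by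
  rw [thompson_eq (p := p), ZJ.jSub_map σ hσ.injOn, ← MonoidHom.range_eq_map]

theorem map_zJ (hσ : Function.Injective σ) :
    (Cfsg.thompsonSubgroupA S ⊓ centralizer (Cfsg.thompsonSubgroupA S : Set S)).map σ =
      ZJ.zJ p False σ.range := by
  rw [thompson_eq (p := p), ← ZJ.zJ, ZJ.zJ_map σ hσ.injOn, ← MonoidHom.range_eq_map]

theorem map_center (hσ : Function.Injective σ) :
    (center S).map σ = σ.range ⊓ centralizer (σ.range : Set G) := by
  rw [← centralizer_univ, ← coe_top, map_centralizer hσ, cw, ← MonoidHom.range_eq_map]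

theorem map_jt (hσ : Function.Injective σ) :
    (jt S).map σ = σ.range ⊓ centralizer (ZJ.zJ p False σ.range : Set G) := by
  rw [jt, map_centralizer hσ, map_zJ (p := p) hσ, cw]

omit [Finite S] hp in
theorem center_le_jt : center S ≤ jt S := center_le_centralizer _

/-! ### The easy cases -/

theorem hasCL_abelian [Nontrivial S] (hab : IsMulCommutative S) : HasCL p S := by
  have hc : center S = ⊤ := center_eq_top_iff.2 hab
  have hjt : jt S = ⊤ := eq_top_iff.2 (hc.ge.trans center_le_jt)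
  refine ⟨⊤, ⊤, ⟨top_ne_bot, top_ne_bot, inferInstance, inferInstance, hc.ge, hjt.ge,
    char_subgroupOf_top hjt inferInstance, fun G _ _ σ hσ hE => Or.inl ?_⟩, ?_⟩
  · rw [← MonoidHom.range_eq_map]
    obtain ⟨g, h⟩ := exists_sit _ hE
    have hle : σ.range ≤ Cfsg.pCore p G := fun x hx => h.self_cent (mem_centralizer_iff.2 fun o ho => by
      obtain ⟨a, rfl⟩ := hx
      obtain ⟨b, rfl⟩ := h.core_le ho
      rw [← map_mul, ← map_mul, mem_center_iff.1 (hc.ge (mem_top a)) b])
    rw [le_antisymm hle h.core_le]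
    exact FittingCores.pCore_normal p
  · rw [hjt]

theorem hasCL_comm (hS : IsPGroup p S)
    (h : ⁅Cfsg.thompsonSubgroupA S ⊓ centralizer (Cfsg.thompsonSubgroupA S : Set S), (⊤ : Subgroup S)⁆ ≠ ⊥) :
    HasCL p S := by
  set Zj := Cfsg.thompsonSubgroupA S ⊓ centralizer (Cfsg.thompsonSubgroupA S : Set S) with hZj
  have hne : Nontrivial S := by
    rcases subsingleton_or_nontrivial S with hs | hs
    · exact absurd (Subsingleton.elim _ _) h
    · exact hs
  have hJc : (Cfsg.thompsonSubgroupA S).Characteristic := characteristic_iff_map_le.2 fun φ => by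
    rw [map_thompson (p := p) φ.injective, thompson_eq (p := p),
      MonoidHom.range_eq_top.2 φ.surjective]
  have : Zj.Characteristic := inferInstance
  have hjc : (jt S).Characteristic := by rw [jt]; infer_instance
  refine ⟨⁅Zj, (⊤ : Subgroup S)⁆ ⊓ center S, jt S, ⟨inf_center_ne_bot hS h, ?_, inferInstance, hjc,
    inf_le_right, le_rfl, char_subgroupOf_self _, fun G _ _ σ hσ hE => ?_⟩, rfl⟩
  · exact fun e => center_ne_bot hS (le_bot_iff.1 (center_le_jt.trans e.le))
  · rw [Subgroup.map_inf _ _ _ hσ, Subgroup.map_commutator, map_zJ (p := p) hσ, ← MonoidHom.range_eq_map,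
      map_center hσ, map_jt (p := p) hσ]
    exact zJ_comm_or_jTilde hE

theorem jt_eq_top
    (h : ⁅Cfsg.thompsonSubgroupA S ⊓ centralizer (Cfsg.thompsonSubgroupA S : Set S), (⊤ : Subgroup S)⁆ = ⊥) :
    jt S = ⊤ :=
  eq_top_iff.2 (le_centralizer_iff.1 (commutator_eq_bot_iff_le_centralizer.1 h))

theorem hasCL_power [Nontrivial S] (hS : IsPGroup p S) (hjt : jt S = ⊤)
    (h : ¬ ∀ z ∈ center S, z ^ p = 1) : HasCL p S := by
  push Not at h
  obtain ⟨z, hz, hzp⟩ := h
  set T := Cfsg.powerClosure p 1 (center S)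
  have hT : T.Characteristic := characteristic_iff_map_le.2 fun φ => by
    refine map_le_iff_le_comap.2 ((closure_le _).2 ?_)
    rintro _ ⟨x, hx, rfl⟩
    exact subset_closure ⟨φ x, (characteristic_iff_map_eq.1 centerCharacteristic φ).le ⟨x, hx, rfl⟩,
      map_pow φ x _⟩
  refine ⟨T, ⊤, ⟨?_, top_ne_bot, hT, inferInstance, (closure_le _).2 ?_, hjt.ge,
    char_subgroupOf_top hjt inferInstance, fun G _ _ σ hσ hE => ?_⟩, by rw [hjt]⟩
  · exact fun e => hzp (mem_bot.1 (e.le (subset_closure ⟨z, hz, (by rw [pow_one])⟩)))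
  · rintro _ ⟨x, hx, rfl⟩
    exact pow_mem hx _
  · have e : T.map σ = Cfsg.powerClosure p 1 (σ.range ⊓ centralizer (σ.range : Set G)) := by
      rw [← map_center hσ]
      show (Subgroup.closure _).map σ = Subgroup.closure _
      rw [MonoidHom.map_closure]
      congr 1
      ext y
      constructor
      · rintro ⟨_, ⟨x, hx, rfl⟩, rfl⟩
        exact ⟨σ x, mem_map_of_mem σ hx, map_pow σ x _⟩
      · rintro ⟨_, ⟨x, hx, rfl⟩, rfl⟩
        exact ⟨_, ⟨x, hx, rfl⟩, map_pow σ x _⟩
    rw [e, ← hjt, map_jt (p := p) hσ]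
    exact powerClosure_or_jTilde hE

theorem mclJoin_map {B : Type u} [Group B] [Finite B] (e : S ≃* B) :
    (Cfsg.minimalCentrallyLargeJoin S).map e.toMonoidHom = Cfsg.minimalCentrallyLargeJoin B := by
  refine le_antisymm ?_ (sSup_le fun R hR => ?_)
  · rw [Cfsg.minimalCentrallyLargeJoin, sSup_eq_iSup]
    simp only [Subgroup.map_iSup]
    exact iSup₂_le fun R hR => le_sSup (mcl_map e hR)
  · refine le_trans (le_of_eq ?_) (map_mono (le_sSup (mcl_map e.symm hR)))
    rw [Subgroup.map_map]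
    ext x
    simp

theorem frattiniJoin_le {B : Type u} [Group B] [Finite B] (e : S ≃* B) (hS : IsPGroup p S) :
    (Cfsg.frattiniOfMinimalCLJoin p S).map e.toMonoidHom ≤ Cfsg.frattiniOfMinimalCLJoin p B := by
  have hom : ∀ (Q : Subgroup S), Nat.card ↥(Cfsg.omegaOneCenter p (Q.map e.toMonoidHom)) =
      Nat.card ↥(Cfsg.omegaOneCenter p Q) := fun Q => by
    rw [omegaOneCenter_card, omegaOneCenter_card]
    exact (omega_card_congr p (Q.equivMapOfInjective e.toMonoidHom e.injective)).symm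
  have hmax : Cfsg.maxOmegaCenterOfMinimalCL p B = Cfsg.maxOmegaCenterOfMinimalCL p S := by
    unfold Cfsg.maxOmegaCenterOfMinimalCL
    congr 1
    ext k
    constructor
    · rintro ⟨Q, hQ, rfl⟩
      refine ⟨Q.map e.symm.toMonoidHom, mcl_map e.symm hQ, ?_⟩
      rw [← hom]
      congr 3
      rw [Subgroup.map_map]
      ext x
      simp
    · rintro ⟨Q, hQ, rfl⟩
      exact ⟨Q.map e.toMonoidHom, mcl_map e hQ, hom Q⟩
  rw [Cfsg.frattiniOfMinimalCLJoin, Subgroup.map_iSup]
  refine iSup_le fun ⟨Q, hQ, hQm⟩ => le_iSup_of_le ⟨Q.map e.toMonoidHom, mcl_map e hQ, by rw [hom, hmax, hQm]⟩ ?_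
  rw [frattini_eq_powComm hS, powComm_map, frattini_eq_powComm (hS.of_equiv e)]

theorem frattiniJoin_map {B : Type u} [Group B] [Finite B] (e : S ≃* B) (hS : IsPGroup p S) :
    (Cfsg.frattiniOfMinimalCLJoin p S).map e.toMonoidHom = Cfsg.frattiniOfMinimalCLJoin p B := by
  refine le_antisymm (frattiniJoin_le e hS) ?_
  have h := map_mono (f := e.toMonoidHom) (frattiniJoin_le e.symm (hS.of_equiv e))
  refine le_trans (le_of_eq ?_) h
  rw [Subgroup.map_map]
  ext x
  simp

theorem map_range_equiv (hσ : Function.Injective σ) (X : Subgroup S) :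
    (X.map (MonoidHom.ofInjective hσ).toMonoidHom).map σ.range.subtype = X.map σ := by
  rw [Subgroup.map_map]
  rfl

theorem hasCL_derived (hS : IsPGroup p S) (hjt : jt S = ⊤) {Q : Subgroup S}
    (hQ : Cfsg.IsMinimalCentrallyLarge Q) (hab : ¬ IsMulCommutative Q) : HasCL p S := by
  have hne : ⁅Q, Q⁆ ≠ ⊥ := fun e => hab (le_centralizer_iff_isMulCommutative.1
    (commutator_eq_bot_iff_le_centralizer.1 e))
  have := commutator_characteristic hQ
  have hJm : (Cfsg.minimalCentrallyLargeJoin S).Characteristic :=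
    characteristic_iff_map_eq.2 fun φ => mclJoin_map φ
  have hcl : Cfsg.IsCentrallyLarge (Cfsg.minimalCentrallyLargeJoin S) :=
    CLarge.cl_sSup ⟨Q, hQ⟩ fun R hR => hR.1
  refine ⟨center S ⊓ ⁅Q, Q⁆, Cfsg.minimalCentrallyLargeJoin S, ⟨?_, fun e => ?_, inferInstance, hJm,
    inf_le_left, hjt ▸ le_top, char_subgroupOf_top hjt hJm, fun G _ _ σ hσ hE => ?_⟩,
    maxCentral_eq_jt hjt hcl⟩
  · rw [inf_comm]; exact inf_center_ne_bot hS hne
  · exact hne (le_bot_iff.1 ((commutator_le_self Q).trans ((le_sSup (show Q ∈ {R | Cfsg.IsMinimalCentrallyLarge R} from hQ)).trans e.le)))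
  · set e := MonoidHom.ofInjective hσ
    have hm := main_derived hE (Q.map e.toMonoidHom) (mcl_map e hQ)
    rw [← Subgroup.map_commutator, map_range_equiv hσ, ← mclJoin_map e, map_range_equiv hσ,
      ← map_center hσ, ← Subgroup.map_inf _ _ _ hσ] at hm
    exact hm

/-- What remains. -/
structure Rest (p : ℕ) (S : Type u) [Group S] : Prop where
  setup : Setup p S
  nab : ¬ IsMulCommutative S
  jtop : Cfsg.thompsonSubgroupA S = ⊤
  jt : jt S = ⊤
  sq : ∀ A ∈ Cfsg.maxAbelianSubgroups S, Nat.card ↥A * Nat.card ↥A = Cfsg.maxCentralizerProduct S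
  mcl : ∀ Q : Subgroup S, Cfsg.IsMinimalCentrallyLarge Q → Q ∈ Cfsg.maxAbelianSubgroups S

theorem Rest.cl (h : Rest p S) {A : Subgroup S} (hA : A ∈ Cfsg.maxAbelianSubgroups S) :
    Cfsg.IsCentralizerLarge A := by
  unfold Cfsg.IsCentralizerLarge
  rw [CLarge.centralizer_maxAbelian hA]
  exact h.sq A hA

theorem Rest.facts (h : Rest p S) : ∀ A ∈ Cfsg.maxAbelianSubgroups S, ∀ B ∈ Cfsg.maxAbelianSubgroups S,
    ∀ Q : Subgroup S, Nat.card ↥A ^ 2 = Nat.card S * Nat.card ↥(center S) ∧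
      Nat.card ↥Q * Nat.card ↥(center ↥Q) ≤ Nat.card S * Nat.card ↥(center S) ∧
      ((A ⊔ B : Subgroup S) : Set S) = (A : Set S) * (B : Set S) ∧
      A ⊔ B = centralizer ((A ⊓ B : Subgroup S) : Set S) := by
  intro A hA B hB Q
  refine ⟨by rw [pow_two, h.sq A hA, h.setup.top], ?_, CLarge.coe_sup (h.cl hA) (h.cl hB), ?_⟩
  · rw [h.setup.top, ← CLarge.maxCentral_eq]
    exact maxCentral_le Q
  · rw [CLarge.centralizer_inf (h.cl hA) (h.cl hB), CLarge.centralizer_maxAbelian hA,
      CLarge.centralizer_maxAbelian hB]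

theorem reduce [Nontrivial S] (hS : IsPGroup p S) : HasCL p S ∨ Rest p S := by
  by_cases hab : IsMulCommutative S
  · exact Or.inl (hasCL_abelian hab)
  by_cases hcomm : ⁅Cfsg.thompsonSubgroupA S ⊓ centralizer (Cfsg.thompsonSubgroupA S : Set S),
      (⊤ : Subgroup S)⁆ = ⊥
  swap
  · exact Or.inl (hasCL_comm hS hcomm)
  have hjt := jt_eq_top hcomm
  by_cases hz : ∀ z ∈ center S, z ^ p = 1
  swap
  · exact Or.inl (hasCL_power hS hjt hz)
  by_cases hq : ∀ Q : Subgroup S, Cfsg.IsMinimalCentrallyLarge Q → IsMulCommutative Q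
  swap
  · push Not at hq
    obtain ⟨Q, hQ, hQab⟩ := hq
    exact Or.inl (hasCL_derived hS hjt hQ hQab)
  right
  obtain ⟨Q, hQ⟩ := CLarge.exists_mcl (P := S)
  have hiff := CLarge.mcl_iff_maxAbelian hQ (hq Q hQ)
  have hJ : Cfsg.thompsonSubgroupA S = ⊤ := by
    rw [← CLarge.centralizer_center_thompson hq]; exact hjt
  obtain ⟨A, hA⟩ := CLarge.exists_maxAbelian (P := S)
  have hJcl : Cfsg.IsCentrallyLarge (⊤ : Subgroup S) := by
    rw [← hJ]
    exact CLarge.cl_sSup ⟨A, hA⟩ fun B hB => ((hiff B).2 hB).1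
  have htop := CLarge.cl_large hJcl
  unfold Cfsg.IsCentralizerLarge at htop
  rw [coe_top, centralizer_univ, card_top] at htop
  refine ⟨⟨hS, hz, htop⟩, hab, hJ, hjt, fun B hB => ?_, fun R hR => (hiff R).1 hR⟩
  have := CLarge.cl_large ((hiff B).2 hB).1
  unfold Cfsg.IsCentralizerLarge at this
  rwa [CLarge.centralizer_maxAbelian hB] at this

/-! ### The exceptional case -/

theorem exists_frame' {T : Subgroup G} [Finite G] (hE : Cfsg.IsPushingUpSituation p T) :
    ∃ (F : Type) (_ : Field F) (φ : G →* Matrix.ProjectiveSpecialLinearGroup (Fin 2) F) (g : G),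
      PushUp2.Frame p T g φ := by
  obtain ⟨-, ⟨P, rfl⟩, hC, hM, K, hK, F, hF, hFT, n, hn, ⟨e⟩⟩ := hE
  obtain ⟨φ, g, h, -⟩ := PushUp2.exists_frame P hC hM K F n hn e
  exact ⟨F, hF, φ, g, h⟩

theorem exists_side (h : Rest p S) [Finite G] (hσ : Function.Injective σ)
    (hE : Cfsg.IsPushingUpSituation p σ.range) {T : Subgroup S} (hT : T ≤ center S)
    (hbad : ¬ T.map σ ≤ center G) :
    ∃ D : Side p S, D.R = (Cfsg.pCore p G).comap σ ∧ ¬ T ≤ D.N ∧
      (∀ W, D.Nrm W ↔ (W.map σ).Normal) := by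
  obtain ⟨F, hF, φ, g, hf⟩ := exists_frame' hE
  have hZ : zc σ.range = (center S).map σ := (map_center hσ).symm
  have hpre : Pre p σ.range g φ (Cfsg.maxCentralizerProduct S) := by
    refine ⟨hf, hE, fun R hR => ?_, ?_, ?_, ?_, ?_⟩
    · obtain ⟨X, rfl⟩ : ∃ X : Subgroup S, R = X.map σ := ⟨R.comap σ, (map_comap_range hR).symm⟩
      rw [← map_centralizer hσ, card_map_of_injective hσ, card_map_of_injective hσ]
      exact CLarge.measure_le X
    · rw [hZ, card_range hσ, card_map_of_injective hσ, h.setup.top]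
    · by_contra hne
      push Not at hne
      refine hf.not_le_core ?_
      rw [MonoidHom.range_eq_map, ← h.jtop, Cfsg.thompsonSubgroupA, sSup_eq_iSup]
      simp only [Subgroup.map_iSup]
      refine iSup₂_le fun A hA => hne (A.map σ) (map_le_range σ A) ?_ ?_
      · rintro _ ⟨a, ha, rfl⟩
        refine mem_centralizer_iff.2 ?_
        rintro _ ⟨b, hb, rfl⟩
        rw [← map_mul, ← map_mul, mem_centralizer_iff.1
          (le_centralizer_iff_isMulCommutative.2 hA.1 ha) b hb]
      · rw [card_map_of_injective hσ]; exact h.sq A hA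
    · intro z hz
      rw [hZ] at hz
      obtain ⟨x, hx, rfl⟩ := hz
      rw [← map_pow, h.setup.zp x hx, map_one]
    · exact fun hle => hbad ((map_mono hT).trans (hZ.ge.trans hle))
  obtain ⟨Φ, ψ, hc⟩ := hpre.exists_ctx
  refine ⟨sideOf hσ hc, rfl, fun hTN => hbad ?_, fun W => Iff.rfl⟩
  rintro _ ⟨x, hx, rfl⟩
  exact (hc.vm_inf_qz (zc_le_vm ((mem_center_iff_zc hσ).1 (hT hx))) (hTN hx)).2

/-- The cores of the groups in which `T` is not central. -/
def badCores (p : ℕ) (T : Subgroup S) : Set (Subgroup S) :=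
  {R | ∃ (G : Type u) (_ : Group G) (_ : Finite G) (σ : S →* G), Function.Injective σ ∧
    Cfsg.IsPushingUpSituation p σ.range ∧ ¬ T.map σ ≤ center G ∧ R = (Cfsg.pCore p G).comap σ}

omit [Finite S] hp in
theorem badCores_map {T : Subgroup S} (hT : T.Characteristic) (α : S ≃* S) {R : Subgroup S}
    (hR : R ∈ badCores p T) : R.comap α.toMonoidHom ∈ badCores p T := by
  obtain ⟨G, _, _, σ, hσ, hE, hb, rfl⟩ := hR
  refine ⟨G, inferInstance, inferInstance, σ.comp α.toMonoidHom, hσ.comp α.injective, ?_, ?_, rfl⟩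
  · rwa [MonoidHom.range_eq_map, ← Subgroup.map_map, map_top_of_surjective _ α.surjective,
      ← MonoidHom.range_eq_map]
  · rwa [← Subgroup.map_map, characteristic_iff_map_eq.1 hT α]

theorem sZero_char : (sZero p S).Characteristic := by
  have h1 : (frattini S).Characteristic := frattini_characteristic
  have h2 : ((frattini ↥(frattini S)).map (frattini S).subtype).Characteristic := by
    refine characteristic_iff_map_le.2 fun φ => ?_
    rintro _ ⟨_, ⟨x, hx, rfl⟩, rfl⟩
    have hm : ∀ y ∈ frattini S, φ y ∈ frattini S := fun y hy =>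
      (characteristic_iff_map_eq.1 h1 φ).le ⟨y, hy, rfl⟩
    let ψ : ↥(frattini S) ≃* ↥(frattini S) :=
      ((φ.subgroupMap (frattini S)).trans (MulEquiv.subgroupCongr (characteristic_iff_map_eq.1 h1 φ)))
    exact ⟨ψ x, (characteristic_iff_map_eq.1 (frattini_characteristic (G := ↥(frattini S))) ψ).le
      ⟨x, hx, rfl⟩, rfl⟩
  have h3 : (Cfsg.powerClosure p 1 (⊤ : Subgroup S)).Characteristic := characteristic_iff_map_le.2 fun φ => by
    rw [Cfsg.powerClosure, MonoidHom.map_closure]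
    refine closure_mono ?_
    rintro _ ⟨_, ⟨x, -, rfl⟩, rfl⟩
    exact ⟨φ x, mem_top _, map_pow φ x _⟩
  unfold sZero
  split_ifs <;> infer_instance

theorem hasCL_exceptional (h : Rest p S) (h0 : sZero p S ≠ ⊥) : HasCL p S := by
  have hS := h.setup.pg
  have := sZero_char (p := p) (S := S)
  set T := sZero p S ⊓ center S
  have hTc : T.Characteristic := inferInstance
  set 𝒮 := badCores p T
  set S₂ := sInf 𝒮
  -- sides
  have side : ∀ R ∈ 𝒮, ∃ D : Side p S, D.R = R ∧ ¬ T ≤ D.N := by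
    rintro R ⟨G, _, _, σ, hσ, hE, hb, rfl⟩
    obtain ⟨D, e, hN, -⟩ := exists_side h hσ hE inf_le_right hb
    exact ⟨D, e, hN⟩
  have pair : ∀ D E : Side p S, ¬ T ≤ D.N → ¬ T ≤ E.N → E.V ≤ D.R ∧ D.Nrm (D.V ⊔ E.V) :=
    fun D E hD hE => D.bad_pair E h.setup (fun hh => hD (inf_le_left.trans hh))
      fun hh => hE (inf_le_left.trans hh)
  set ℰ := {E : Side p S | E.R ∈ 𝒮 ∧ ¬ T ≤ E.N}
  set W : Subgroup S := ⨆ E ∈ ℰ, E.V
  have hcW : centralizer (W : Set S) = S₂ := by
    refine le_antisymm (le_sInf fun R hR => ?_) (fun x hx => ?_)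
    · obtain ⟨D, rfl, hD⟩ := side R hR
      rw [← D.centV]
      exact centralizer_le (le_iSup₂ (f := fun (E : Side p S) (_ : E ∈ ℰ) => E.V) D ⟨hR, hD⟩)
    · have hle : W ≤ centralizer ({x} : Set S) := iSup₂_le fun E hE v hv =>
        mem_centralizer_singleton_iff.2 (E.comm_R_V ((sInf_le hE.1 : S₂ ≤ E.R) hx) hv)
      exact mem_centralizer_iff.2 fun w hw => mem_centralizer_singleton_iff.1 (hle hw)
  have hchar : S₂.Characteristic := characteristic_iff_le_comap.2 fun α x hx => by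
    rw [mem_comap, mem_sInf]
    intro R hR
    exact (mem_sInf.1 hx) _ (badCores_map hTc α hR)
  have hcl : Cfsg.IsCentrallyLarge S₂ := by
    rcases 𝒮.eq_empty_or_nonempty with he | ⟨R, hR⟩
    · rw [show S₂ = ⊤ by rw [← sInf_empty, ← he]]
      refine CLarge.cl_iff.2 ⟨?_, le_top⟩
      unfold Cfsg.IsCentralizerLarge
      rw [coe_top, centralizer_univ, card_top, h.setup.top]
    have hlarge : Cfsg.IsCentralizerLarge S₂ := CLarge.large_sInf ⟨R, hR⟩ fun R' hR' => by
      obtain ⟨D, rfl, -⟩ := side R' hR'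
      exact D.largeR
    have hWl : Cfsg.IsCentralizerLarge W := by
      obtain ⟨D, rfl, hD⟩ := side R hR
      obtain ⟨M, -, hM⟩ := Finite.exists_le_maximal
        (p := fun X : Subgroup S => Cfsg.IsCentralizerLarge X ∧ X ≤ W)
        ⟨D.largeV, le_iSup₂ (f := fun (E : Side p S) (_ : E ∈ ℰ) => E.V) D ⟨hR, hD⟩⟩
      have e : M = W := le_antisymm hM.1.2 (iSup₂_le fun E hE => le_sup_right.trans
        (hM.2 ⟨CLarge.large_sup hM.1.1 E.largeV, sup_le hM.1.2
          (le_iSup₂ (f := fun (E : Side p S) (_ : E ∈ ℰ) => E.V) E hE)⟩ le_sup_left))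
      exact e ▸ hM.1.1
    refine CLarge.cl_iff.2 ⟨hlarge, ?_⟩
    rw [← hcW, CLarge.centralizer_centralizer hWl, hcW]
    refine iSup₂_le fun E hE => le_sInf fun R' hR' => ?_
    obtain ⟨D', rfl, hD'⟩ := side R' hR'
    exact (pair D' E hD' hE.2).1
  have hne : Nontrivial S := by
    rcases subsingleton_or_nontrivial S with hs | hs
    · exact absurd (Subsingleton.elim _ _) h0
    · exact hs
  have hne2 : S₂ ≠ ⊥ := fun e => center_ne_bot hS (le_bot_iff.1
    ((le_sInf fun R hR => by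
      obtain ⟨D, rfl, -⟩ := side R hR
      exact D.center_le.trans D.V_le : center S ≤ S₂).trans e.le))
  have hTn : (sZero p S).Normal := inferInstance
  refine ⟨T, S₂, ⟨inf_center_ne_bot hS h0, hne2, hTc, hchar, inf_le_right, h.jt ▸ le_top,
    char_subgroupOf_top h.jt hchar, fun G _ _ σ hσ hE => ?_⟩, maxCentral_eq_jt h.jt hcl⟩
  by_cases hb : T.map σ ≤ center G
  · exact Or.inl (normal_of_central hb)
  right
  obtain ⟨D, hDR, hDN, hNrm⟩ := exists_side h hσ hE inf_le_right hb
  have hDmem : D ∈ ℰ := ⟨hDR ▸ ⟨G, inferInstance, inferInstance, σ, hσ, hE, hb, rfl⟩, hDN⟩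
  have hWn : (W.map σ).Normal := by
    have e : W = ⨆ E ∈ ℰ, D.V ⊔ E.V := by
      refine le_antisymm (iSup₂_mono fun E _ => le_sup_right) (iSup₂_le fun E hE => ?_)
      exact sup_le (le_iSup₂ (f := fun (E : Side p S) (_ : E ∈ ℰ) => E.V) D hDmem)
        (le_iSup₂ (f := fun (E : Side p S) (_ : E ∈ ℰ) => E.V) E hE)
    refine normalizer_eq_top_iff.1 (eq_top_iff.2 fun x _ => mem_normalizer_of_map_le ?_)
    rw [e]
    simp only [Subgroup.map_iSup]
    refine iSup₂_mono fun E hE => ?_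
    have := (hNrm _).1 (pair D E hDN hE.2).2
    exact (map_normal_conj ((D.V ⊔ E.V).map σ) x).le
  have e2 : S₂.map σ = Cfsg.pCore p G ⊓ centralizer ((W.map σ : Subgroup G) : Set G) := by
    have hOr : Cfsg.pCore p G ≤ σ.range := by
      obtain ⟨g, hs⟩ := exists_sit _ hE
      exact hs.core_le
    rw [← hcW, map_centralizer hσ, cw]
    refine le_antisymm (le_inf ?_ inf_le_right) (inf_le_inf_right _ hOr)
    rw [← map_comap_range hOr, ← hDR, ← cw, ← map_centralizer hσ, hcW]
    exact map_mono (sInf_le hDmem.1)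
  rw [e2]
  have := FittingCores.pCore_normal (G := G) p
  infer_instance

theorem hasCL_of (hS : IsPGroup p S) (h : sZero p S ≠ ⊥) : HasCL p S := by
  have : Nontrivial S := by
    rcases subsingleton_or_nontrivial S with hs | hs
    · exact absurd (Subsingleton.elim _ _) h
    · exact hs
  exact (reduce hS).elim id fun hr => hasCL_exceptional hr h

/-- Without an elementary abelian subgroup of largest order. -/
theorem good_frattini [Nontrivial S] (h : Rest p S)
    (hA : ∀ A ∈ Cfsg.maxAbelianSubgroups S, ¬ Cfsg.IsElementaryAbelian p A) :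
    ∃ S₁ S₂ : Subgroup S, Good p S₁ S₂ := by
  have hS := h.setup.pg
  have hc : (Cfsg.frattiniOfMinimalCLJoin p S).Characteristic :=
    characteristic_iff_map_eq.2 fun φ => frattiniJoin_map φ hS
  refine ⟨center S, Cfsg.frattiniOfMinimalCLJoin p S, ⟨center_ne_bot hS, fun hb => ?_, inferInstance, hc, le_rfl,
    h.jt ▸ le_top, char_subgroupOf_top h.jt hc, fun G _ _ σ hσ hE => ?_⟩⟩
  · obtain ⟨Q₀, hQ₀⟩ := CLarge.exists_mcl (P := S)
    obtain ⟨Q, hQ, hmax⟩ := Set.exists_max_image {Q : Subgroup S | Cfsg.IsMinimalCentrallyLarge Q}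
      (fun Q => Nat.card ↥(Cfsg.omegaOneCenter p Q)) (Set.toFinite _) ⟨Q₀, hQ₀⟩
    have hQm : Nat.card ↥(Cfsg.omegaOneCenter p Q) = Cfsg.maxOmegaCenterOfMinimalCL p S := by
      refine le_antisymm (le_csSup ((Set.finite_range fun Q : Subgroup S =>
        Nat.card ↥(Cfsg.omegaOneCenter p Q)).subset fun _ hk => by
          obtain ⟨R, -, e⟩ := hk; exact ⟨R, e⟩).bddAbove ⟨Q, hQ, rfl⟩) (csSup_le' ?_)
      rintro _ ⟨R, hR, rfl⟩
      exact hmax R hR
    have hQa := h.mcl Q hQ
    refine hA Q hQa ⟨hQa.1, fun a ha => mem_bot.1 ?_⟩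
    rw [← hb, Cfsg.frattiniOfMinimalCLJoin]
    refine (le_iSup (fun X : {Q : Subgroup S // Cfsg.IsMinimalCentrallyLarge Q ∧
      Nat.card ↥(Cfsg.omegaOneCenter p Q) = Cfsg.maxOmegaCenterOfMinimalCL p S} =>
      (frattini ↥(X : Subgroup S)).map (X : Subgroup S).subtype) ⟨Q, hQ, hQm⟩) ?_
    rw [frattini_eq_powComm hS]
    exact pow_mem_powComm ha
  · have hm := main_frattini hE
    rw [← map_center hσ, ← frattiniJoin_map (MonoidHom.ofInjective hσ) hS, map_range_equiv hσ] at hm
    exact hm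

/-! ### The description when `S₀ = 1` -/

theorem exception_of_sZero [Nontrivial S] (h : Rest p S) (h0 : sZero p S = ⊥) :
    Cfsg.IsElementaryAbelian p (center S) ∧ Cfsg.IsElementaryAbelian p (frattini S) ∧
      (p = 2 → frattini S ≤ center S) ∧ (p = 3 → frattini S ≤ Subgroup.upperCentralSeries S 2) ∧
      (3 < p → frattini S ≤ center S ∧ Monoid.exponent S = p) := by
  have hS := h.setup.pg
  refine ⟨⟨inferInstance, h.setup.zp⟩, ?_⟩
  have abel : powComm p (frattini S) ≤ ⊥ → Cfsg.IsElementaryAbelian p (frattini S) := fun hle =>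
    ⟨⟨⟨fun a b => Subtype.ext (commutatorElement_eq_one_iff_mul_comm.1
      (mem_bot.1 (hle (comm_mem_powComm a.2 b.2))))⟩⟩, fun a ha => mem_bot.1 (hle (pow_mem_powComm ha))⟩
  have cent : ⁅frattini S, (⊤ : Subgroup S)⁆ = ⊥ → frattini S ≤ center S := fun e => by
    have := commutator_eq_bot_iff_le_centralizer.1 e
    rwa [coe_top, centralizer_univ] at this
  unfold sZero at h0
  split_ifs at h0 with h2 h3
  · rw [sup_eq_bot_iff, frattini_eq_powComm hS] at h0
    exact ⟨abel h0.2.le, fun _ => cent h0.1, fun e => absurd e (by omega), fun e => absurd e (by omega)⟩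
  · rw [sup_eq_bot_iff, frattini_eq_powComm hS] at h0
    refine ⟨abel h0.2.le, fun e => absurd e h2, fun _ x hx => ?_, fun e => absurd e (by omega)⟩
    refine Subgroup.mem_upperCentralSeries_succ_iff.2 fun y => ?_
    rw [Subgroup.upperCentralSeries_one]
    have := commutator_eq_bot_iff_le_centralizer.1 h0.1
    rw [coe_top, centralizer_univ] at this
    exact this (commutator_mem_commutator hx (mem_top y))
  · rw [sup_eq_bot_iff] at h0
    have hexp : ∀ x : S, x ^ p = 1 := fun x =>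
      mem_bot.1 (h0.2.le (subset_closure ⟨x, mem_top x, by rw [pow_one]⟩))
    have hc := cent h0.1
    refine ⟨⟨⟨⟨fun a b => Subtype.ext (mem_center_iff.1 (hc b.2) a)⟩⟩, fun a _ => hexp a⟩,
      fun e => absurd e h2, fun e => absurd e h3, fun _ => ⟨hc, ?_⟩⟩
    rcases (Nat.dvd_prime hp.out).1 (Monoid.exponent_dvd_iff_forall_pow_eq_one.2 hexp) with e | e
    · exact absurd (Monoid.exp_eq_one_iff.1 e) (not_subsingleton S)
    · exact e

end Cfsg.Agent.PushUp3
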